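import Mathlib

/-!
# Automorphisms of `A₅` and `A₈` are induced by the symmetric group
-/

set_option autoImplicit false

namespace Cfsg.Agent.H8.Mc

open Equiv Equiv.Perm Subgroup

/-- The three-cycle `(a b c)`. -/
def cy {n : ℕ} (a b c : Fin n) : Perm (Fin n) := swap a b * swap b c

theorem exists_cy {n : ℕ} {g : Perm (Fin n)} (hg : g.IsThreeCycle) :
    ∃ a b c, a ≠ b ∧ a ≠ c ∧ b ≠ c ∧ g = cy a b c := by
  obtain ⟨a, ha⟩ : g.support.Nonempty := by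
    rw [← Finset.card_pos, hg.card_support]; norm_num
  have h := hg.nodup_iff_mem_support.mpr ha
  simp only [List.nodup_cons, List.mem_cons, List.not_mem_nil, or_false, not_or] at h
  exact ⟨a, g a, g (g a), h.1.1, h.1.2, h.2.1, hg.eq_swap_mul_swap_iff_mem_support.mpr ha⟩

theorem cy_three {n : ℕ} {a b c : Fin n} (h1 : a ≠ b) (h2 : a ≠ c) (h3 : b ≠ c) :
    (cy a b c).IsThreeCycle := by
  rw [cy, swap_comm a b]
  exact isThreeCycle_swap_mul_swap_same h1.symm h3 h2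

theorem conj_cy {n : ℕ} (σ : Perm (Fin n)) (a b c : Fin n) :
    σ * cy a b c * σ⁻¹ = cy (σ a) (σ b) (σ c) := by
  rw [cy, cy, swap_apply_apply, swap_apply_apply]; group

/-- The finite facts that are used. -/
structure AltFacts (m : ℕ) : Prop where
  sq : ∀ j k : Fin (m + 4), 2 ≤ j → 2 ≤ k → j ≠ k → (cy 0 1 j * cy 0 1 k) ^ 2 = 1
  ne : cy (0 : Fin (m + 4)) 1 2 * cy 0 1 3 ≠ 1
  inj : ∀ j k : Fin (m + 4), cy 0 1 j = cy 0 1 k → j = k
  st3 : ∀ a b c : Fin (m + 4), a ≠ b → a ≠ c → b ≠ c → (cy 0 1 2 * cy a b c) ^ 2 = 1 →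
    cy 0 1 2 * cy a b c ≠ 1 → ∃ k : Fin (m + 4), 3 ≤ k ∧ ∃ i : Fin 3,
      cy 0 1 2 ^ i.val * swap 3 k * cy a b c = cy 0 1 3 * (cy 0 1 2 ^ i.val * swap 3 k)
  cm : ∀ k : Fin (m + 4), 3 ≤ k → swap 3 k * cy 0 1 2 = cy 0 1 2 * swap 3 k
  st4 : ∀ a b c : Fin (m + 4), a ≠ b → a ≠ c → b ≠ c → (cy 0 1 2 * cy a b c) ^ 2 = 1 →
    (cy 0 1 3 * cy a b c) ^ 2 = 1 → ∃ j : Fin (m + 4), 3 < j ∧ cy a b c = cy 0 1 j
  gen : ∀ a b c : Fin (m + 4), a ≠ b → a ≠ c → b ≠ c → ∃ i ∈ [a, b, c], 2 ≤ i ∧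
    (cy a b c = cy 0 1 i ∨ cy a b c = (cy 0 1 i)⁻¹ ∨ ∃ j ∈ [a, b, c], 2 ≤ j ∧
      (cy a b c = cy 0 1 j * (cy 0 1 i)⁻¹ ∨ cy a b c = (cy 0 1 j)⁻¹ * cy 0 1 i ∨
        ∃ k ∈ [a, b, c], 2 ≤ k ∧ cy a b c = (cy 0 1 i)⁻¹ * cy 0 1 k * (cy 0 1 j)⁻¹ * cy 0 1 i))

theorem altFacts1 : AltFacts 1 := by
  constructor <;> decide +kernel

theorem altFacts4 : AltFacts 4 := by
  constructor <;> decide +kernel

theorem AltFacts.aut {m : ℕ} (F : AltFacts m)
    (φ : alternatingGroup (Fin (m + 4)) →* Perm (Fin (m + 4))) (hφ : Function.Injective φ)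
    (h3 : ∀ x : alternatingGroup (Fin (m + 4)), (x : Perm (Fin (m + 4))).IsThreeCycle →
      (φ x).IsThreeCycle) : ∃ σ : Perm (Fin (m + 4)), ∀ x, φ x = σ * x * σ⁻¹ := by
  have l2 : (2 : Fin (m + 4)).val = 2 := Nat.mod_eq_of_lt (show 2 < m + 4 by omega)
  have l3 : (3 : Fin (m + 4)).val = 3 := Nat.mod_eq_of_lt (show 3 < m + 4 by omega)
  have l1 : (1 : Fin (m + 4)).val = 1 := Nat.mod_eq_of_lt (show 1 < m + 4 by omega)
  have l0 : (0 : Fin (m + 4)).val = 0 := rfl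
  have t3 : ∀ k : Fin (m + 4), 2 ≤ k → (cy 0 1 k).IsThreeCycle := fun k hk =>
    cy_three (by grind) (by grind) (by grind)
  let c : ∀ k : Fin (m + 4), 2 ≤ k → alternatingGroup (Fin (m + 4)) := fun k hk =>
    ⟨cy 0 1 k, (t3 k hk).mem_alternatingGroup⟩
  have h23 : (2 : Fin (m + 4)) ≤ 3 := by grind
  have red : ∀ τ : Perm (Fin (m + 4)), ∀ ψ : alternatingGroup (Fin (m + 4)) →* Perm (Fin (m + 4)),
      (∀ x, ψ x = τ * φ x * τ⁻¹) → (∃ σ : Perm (Fin (m + 4)), ∀ x, ψ x = σ * x * σ⁻¹) →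
      ∃ σ : Perm (Fin (m + 4)), ∀ x, φ x = σ * x * σ⁻¹ := by
    rintro τ ψ h ⟨σ, hσ⟩
    refine ⟨τ⁻¹ * σ, fun x => ?_⟩
    calc _ = τ⁻¹ * ψ x * τ := by rw [h]; group
      _ = _ := by rw [hσ]; group
  obtain ⟨τ, h2, h3'⟩ : ∃ τ : Perm (Fin (m + 4)), τ * φ (c 2 le_rfl) * τ⁻¹ = cy 0 1 2 ∧
      τ * φ (c 3 h23) * τ⁻¹ = cy 0 1 3 := by
    obtain ⟨τ, hτ⟩ := isConj_iff.mp (isConj_of_cycleType_eq
      ((h3 (c 2 le_rfl) (t3 2 le_rfl)).trans (t3 2 le_rfl).symm))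
    obtain ⟨a, b, d, k1, k2, k3, e⟩ := exists_cy (g := τ * φ (c 3 h23) * τ⁻¹) (by
      rw [IsThreeCycle, cycleType_conj]; exact h3 _ (t3 3 h23))
    obtain ⟨k, hk, i, e'⟩ := F.st3 a b d k1 k2 k3 (by
      rw [← e, ← hτ, conj_mul, conj_pow, ← map_mul, ← map_pow, show (c 2 le_rfl * c 3 h23) ^ 2 = 1
        from Subtype.ext (F.sq 2 3 le_rfl h23 (by grind))]
      simp) (by
      rw [← e, ← hτ, conj_mul, ← map_mul, Ne, conj_eq_one_iff, map_eq_one_iff φ hφ]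
      exact fun h => F.ne (congrArg Subtype.val h))
    refine ⟨cy 0 1 2 ^ i.val * swap 3 k * τ, ?_, ?_⟩
    · calc _ = cy 0 1 2 ^ i.val * (swap 3 k * (τ * φ (c 2 le_rfl) * τ⁻¹) * (swap 3 k)⁻¹) *
            (cy 0 1 2 ^ i.val)⁻¹ := by group
        _ = _ := by rw [hτ, F.cm k hk]; group
    · calc _ = cy 0 1 2 ^ i.val * swap 3 k * (τ * φ (c 3 h23) * τ⁻¹) *
            (cy 0 1 2 ^ i.val * swap 3 k)⁻¹ := by group
        _ = _ := by rw [e, e']; group
  refine red τ ((MulAut.conj τ).toMonoidHom.comp φ) (fun _ => rfl) ?_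
  have hψ : Function.Injective ((MulAut.conj τ).toMonoidHom.comp φ) :=
    (MulAut.conj τ).injective.comp hφ
  have k3 : ∀ x : alternatingGroup (Fin (m + 4)), (x : Perm (Fin (m + 4))).IsThreeCycle →
      (((MulAut.conj τ).toMonoidHom.comp φ) x).IsThreeCycle := fun x hx => by
    change IsThreeCycle (τ * φ x * τ⁻¹)
    rw [IsThreeCycle, cycleType_conj]; exact h3 x hx
  change ((MulAut.conj τ).toMonoidHom.comp φ) _ = _ at h2 h3'
  generalize (MulAut.conj τ).toMonoidHom.comp φ = ψ at hψ k3 h2 h3'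
  have hf : ∀ k : Fin (m + 4), ∃ j : Fin (m + 4), (k ≤ 3 → j = k) ∧ (3 < k → 3 < j) ∧
      ∀ hk : 2 ≤ k, ψ (c k hk) = cy 0 1 j := by
    intro k
    by_cases hk : k ≤ 3
    · refine ⟨k, fun _ => rfl, id, fun h => ?_⟩
      obtain rfl | rfl : k = 2 ∨ k = 3 := by grind
      exacts [h2, h3']
    have hk2 : 2 ≤ k := by grind
    obtain ⟨a, b, d, k1, k2, k3, e⟩ := exists_cy (k3 (c k hk2) (t3 k hk2))
    obtain ⟨j, hj, e'⟩ := F.st4 a b d k1 k2 k3 (by
      rw [← e, ← h2, ← map_mul, ← map_pow, show (c 2 le_rfl * c k hk2) ^ 2 = 1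
        from Subtype.ext (F.sq 2 k le_rfl hk2 (by grind)), map_one]) (by
      rw [← e, ← h3', ← map_mul, ← map_pow, show (c 3 h23 * c k hk2) ^ 2 = 1
        from Subtype.ext (F.sq 3 k h23 hk2 (by grind)), map_one])
    exact ⟨j, fun h => absurd h hk, fun _ => hj, fun _ => e.trans e'⟩
  choose f f1 f2 f3 using hf
  have hinj : Function.Injective f := fun j k e => by
    by_cases hj : j ≤ 3 <;> by_cases hk : k ≤ 3
    · rwa [f1 j hj, f1 k hk] at e
    · have := f2 k (not_le.mp hk); grind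
    · have := f2 j (not_le.mp hj); grind
    · have hj2 : 2 ≤ j := by grind
      have hk2 : 2 ≤ k := by grind
      exact F.inj j k (congrArg Subtype.val (hψ ((f3 j hj2).trans (e ▸ (f3 k hk2).symm))))
  let σ : Perm (Fin (m + 4)) := Equiv.ofBijective f (Finite.injective_iff_bijective.mp hinj)
  let χ : alternatingGroup (Fin (m + 4)) →* Perm (Fin (m + 4)) :=
    (MulAut.conj σ).toMonoidHom.comp (alternatingGroup _).subtype
  let H := (ψ.eqLocus χ).map (alternatingGroup _).subtype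
  have hc : ∀ k, 2 ≤ k → cy 0 1 k ∈ H := fun k hk => ⟨c k hk, by
    change ψ _ = σ * cy 0 1 k * σ⁻¹
    rw [f3 k hk, conj_cy]
    change _ = cy (f 0) (f 1) (f k)
    rw [f1 0 (by grind), f1 1 (by grind)], rfl⟩
  have hH : alternatingGroup (Fin (m + 4)) ≤ H := by
    rw [← closure_three_cycles_eq_alternating, closure_le]
    intro g hg
    obtain ⟨a, b, d, k1, k2, k3, rfl⟩ := exists_cy hg
    obtain ⟨i, -, hi, e | e | ⟨j, -, hj, e | e | ⟨k, -, hk, e⟩⟩⟩ := F.gen a b d k1 k2 k3 <;>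
      rw [SetLike.mem_coe, e]
    · exact hc i hi
    · exact inv_mem (hc i hi)
    · exact mul_mem (hc j hj) (inv_mem (hc i hi))
    · exact mul_mem (inv_mem (hc j hj)) (hc i hi)
    · exact mul_mem (mul_mem (mul_mem (inv_mem (hc i hi)) (hc k hk)) (inv_mem (hc j hj))) (hc i hi)
  refine ⟨σ, fun x => ?_⟩
  obtain ⟨y, hy, e⟩ := hH x.2
  rw [← show y = x from Subtype.ext e]
  exact hy

/-- The order of the centralizer of an element of prime order. -/
theorem card_cent {n p : ℕ} [hp : Fact p.Prime] {g : Perm (Fin n)} (hg : g ^ p = 1) :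
    ∃ k, g.support.card = k * p ∧ k * p ≤ n ∧
      Nat.card (centralizer {g}) = (n - k * p).factorial * p ^ k * k.factorial := by
  have h1 := cycleType_of_pow_prime_eq_one hg
  have h2 := sum_cycleType g
  have h3 := nat_card_centralizer g
  generalize g.cycleType.card = k at h1
  rw [h1, Multiset.sum_replicate, smul_eq_mul] at h2 h3
  refine ⟨k, h2.symm, by simpa [← h2] using Finset.card_le_univ g.support, ?_⟩
  rw [h3, Multiset.prod_replicate, Fintype.card_fin]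
  rcases Nat.eq_zero_or_pos k with rfl | hk
  · simp
  · rw [Multiset.toFinset_replicate, if_neg hk.ne']; simp

theorem five_dvd {G : Type*} [Group G] {g f : G} (hf : f ^ 5 = 1) (h1 : f ≠ 1)
    (h : f * g = g * f) : 5 ∣ Nat.card (centralizer {g}) := by
  have : Fact (Nat.Prime 5) := ⟨by norm_num⟩
  rw [← orderOf_eq_prime hf h1]
  exact orderOf_dvd_natCard _ (mem_centralizer_singleton_iff.mpr h)

theorem aut5 (φ : alternatingGroup (Fin 5) →* Perm (Fin 5)) (hφ : Function.Injective φ) :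
    ∃ σ : Perm (Fin 5), ∀ x, φ x = σ * x * σ⁻¹ := by
  refine altFacts1.aut φ hφ fun x hx => ?_
  have h3 : x ^ 3 = 1 := Subtype.ext (by
    rw [Subgroup.coe_pow, ← hx.orderOf, pow_orderOf_eq_one]; rfl)
  obtain ⟨k, h1, h2, -⟩ := card_cent (p := 3) (g := φ x) (by rw [← map_pow, h3, map_one])
  rw [← card_support_eq_three_iff]
  obtain rfl | rfl : k = 0 ∨ k = 1 := by omega
  · rw [zero_mul, card_support_eq_zero, map_eq_one_iff φ hφ] at h1
    exact absurd (congrArg Subtype.val h1) hx.ne_one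
  · exact h1

theorem aut8 (φ : alternatingGroup (Fin 8) →* Perm (Fin 8)) (hφ : Function.Injective φ) :
    ∃ σ : Perm (Fin 8), ∀ x, φ x = σ * x * σ⁻¹ := by
  refine altFacts4.aut φ hφ fun x hx => ?_
  have h3 : x ^ 3 = 1 := Subtype.ext (by
    rw [Subgroup.coe_pow, ← hx.orderOf, pow_orderOf_eq_one]; rfl)
  obtain ⟨k, h1, h2, h4⟩ := card_cent (p := 3) (g := φ x) (by rw [← map_pow, h3, map_one])
  obtain ⟨τ, hτ⟩ := isConj_iff.mp (isConj_of_cycleType_eq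
    ((cy_three (a := (0 : Fin 8)) (b := 1) (c := 2) (by decide) (by decide) (by decide)).trans
      hx.symm))
  let f : alternatingGroup (Fin 8) := ⟨τ * (cy 3 4 5 * cy 5 6 7) * τ⁻¹, by
    rw [mem_alternatingGroup, Perm.sign_mul, Perm.sign_mul, sign_inv, mul_right_comm,
      Int.units_mul_self, one_mul]
    decide⟩
  have h5 := five_dvd (g := φ x) (f := φ f) (by
    rw [← map_pow, show f ^ 5 = 1 from Subtype.ext (by
      rw [Subgroup.coe_pow, conj_pow, show (cy 3 4 5 * cy 5 6 7 : Perm (Fin 8)) ^ 5 = 1 by decide]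
      simp), map_one]) (by
    rw [Ne, map_eq_one_iff φ hφ, Subtype.ext_iff]
    change ¬ _ * _ * _ = 1
    rw [conj_eq_one_iff]
    decide) (by
    rw [← map_mul, ← map_mul]
    refine congrArg φ (Subtype.ext ?_)
    change _ * _ * _ * _ = _ * (_ * _ * _)
    rw [← hτ, conj_mul, conj_mul, show (cy 3 4 5 * cy 5 6 7 : Perm (Fin 8)) * cy 0 1 2 =
      cy 0 1 2 * (cy 3 4 5 * cy 5 6 7) by decide])
  rw [← card_support_eq_three_iff]
  obtain rfl | rfl | rfl : k = 0 ∨ k = 1 ∨ k = 2 := by omega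
  · rw [zero_mul, card_support_eq_zero, map_eq_one_iff φ hφ] at h1
    exact absurd (congrArg Subtype.val h1) hx.ne_one
  · exact h1
  · rw [h4] at h5; norm_num [Nat.factorial] at h5

end Cfsg.Agent.H8.Mc
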