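import Cfsg.Agent.H5.MwE

/-! A filter for characters in `B₀(r) \ B₀(p)` when `r` divides the automizer of a Sylow
`p`-subgroup of prime order. -/

set_option autoImplicit false

namespace Cfsg.Agent.H8.B24

open Cfsg Cfsg.Agent.H3 Cfsg.Agent.H2.D1 Finset Subgroup
open scoped ComplexConjugate

variable {G : Type*} [Group G] [Finite G] {p r : ℕ} [hp : Fact p.Prime] [hr : Fact r.Prime]
  {y z : G}

open Classical in
theorem sumK (h : Ctx p y) {χ : IrrCharacter G} (hχ : χ ∉ B0 p G) {u : G} (hu : u ∈ zpowers y)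
    (h1 : u ≠ 1) [Fintype h.K] : ∑ k : h.K, (χ : G → ℂ) (u * k) = 0 := by
  have := Fintype.ofFinite G
  have h2 := indFun_section (p := p) u (isClassFunction_const (G := G) 1)
  set s : G → ℂ := fun g => if IsConj u (pPart p g) then 1 else 0 with hs
  have h4 : classInner s χ = 0 := B0_classInner_section (fun a b hab => by
    simp only [hs]
    exact if_congr ⟨fun e => e.trans hab, fun e => e.trans hab.symm⟩ rfl rfl) hχ
  have h5 := congrArg (fun t => (Nat.card (centralizer ({u} : Set G)) : ℂ) * t) h4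
  simp only [mul_zero] at h5
  rw [← h2, classInner_indFun _ _ (char_isClassFunction (irr_isCharacter χ.2)),
    card_mul_classInner] at h5
  simp only [ite_mul, one_mul, zero_mul, ← sum_filter] at h5
  rw [← map_sum, map_eq_zero] at h5
  rw [← h5]
  symm
  exact sum_bij' (fun c hc => ⟨u⁻¹ * c, h.mem_K_of hu h1 (by simpa using hc)⟩)
    (fun k _ => ⟨u * k, mem_centralizer_singleton_iff.2
      ((Commute.refl u).mul_right ((h.comm_iff hu h1).2 (h.mem_K.1 k.2).1)).eq.symm⟩)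
    (by simp) (fun k _ => by simpa using h.pPart_mul' hu k.2) (by simp) (by simp) (by simp)

theorem sumC (h : Ctx p y) {χ : IrrCharacter G} (hχ : χ ∉ B0 p G) [Fintype h.K]
    [Fintype (centralizer ({y} : Set G))] :
    ∑ c : centralizer ({y} : Set G), (χ : G → ℂ) c = ∑ k : h.K, (χ : G → ℂ) k := by
  classical
  have := Fintype.ofFinite (zpowers y)
  have h1 : ∑ c : centralizer ({y} : Set G), (χ : G → ℂ) c =
      ∑ t : zpowers y × h.K, (χ : G → ℂ) (t.1 * t.2) := by
    have m : ∀ c : centralizer ({y} : Set G), Commute y c := fun c =>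
      (mem_centralizer_singleton_iff.1 c.2).symm
    refine sum_bij' (fun c _ => (⟨pPart p c, h.pPart_mem_zp (m c)⟩, ⟨(pPart p (c : G))⁻¹ * c,
      (h.pPart_eq_iff (m c) (h.pPart_mem_zp (m c))).1 rfl⟩))
      (fun t _ => ⟨t.1 * t.2, mem_centralizer_singleton_iff.2 (by
        obtain ⟨⟨_, k, rfl⟩, t⟩ := t
        exact (((Commute.refl y).zpow_right k).mul_right (h.mem_K.1 t.2).1).eq.symm)⟩)
      (by simp) (by simp) (by simp) (fun t _ => ?_) (by simp)
    have e := h.pPart_mul' t.1.2 t.2.2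
    ext <;> simp [e]
  rw [h1, Fintype.sum_prod_type, sum_eq_single 1 (fun u _ u1 =>
    sumK h hχ u.2 fun e => u1 (Subtype.ext e)) (by simp)]
  simp

theorem val_sing (g : Ctx r z) {χ : IrrCharacter G} (h5 : χ ∈ B0 r G) {a : ℤ}
    (ha : ∀ u : (ZMod r)ˣ, g.co u χ = a) {w : G} (hw : ¬ IsPReg r w) : (χ : G → ℂ) w = -a := by
  obtain ⟨c, hc⟩ := g.exists_conj_mem (isPElt_pPart (p := r) w)
  have h1 : c * pPart r w * c⁻¹ ≠ 1 := fun e => hw (pPart_eq_one_iff.1 (conj_eq_one_iff.1 e))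
  have h2 := g.const h5 hc h1 (g.mem_K_of hc h1 (pPart_conj c w))
  rw [mul_inv_cancel_left, g.val_const ha hc h1] at h2
  rw [← h2]
  exact (char_isClassFunction (irr_isCharacter χ.2) w c).symm

omit hp in
theorem ext_avg {N : Type*} [Group N] [Finite N] {χ : N → ℂ} (ch : IsCharacter N χ)
    (C : Subgroup N) [C.Normal] {z : N} (h1 : z ^ r = 1) (h2 : z ∉ C) {b : ℂ}
    (hb : ∀ w, ¬ IsPReg r w → χ w = b) [Fintype C] :
    ∃ m : ℕ, ∑ c : C, χ c + Nat.card C * (r - 1) * b = Nat.card C * r * m := by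
  classical
  have := Fintype.ofFinite N
  have o : orderOf (QuotientGroup.mk' C z) = r := orderOf_eq_prime (by rw [← map_pow, h1, map_one])
    fun e => h2 ((QuotientGroup.eq_one_iff _).1 e)
  obtain ⟨B, hB⟩ : ∃ B, B = (zpowers (QuotientGroup.mk' C z)).comap (QuotientGroup.mk' C) :=
    ⟨_, rfl⟩
  have hCB : C ≤ B := fun w hw => by
    rw [hB, mem_comap, show QuotientGroup.mk' C w = 1 from (QuotientGroup.eq_one_iff w).2 hw]
    exact one_mem _
  have cB : Nat.card B = Nat.card C * r := by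
    rw [← card_mul_rel hCB]
    congr 1
    have := relIndex_comap ⊥ (QuotientGroup.mk' C) B
    rw [MonoidHom.comap_bot, QuotientGroup.ker_mk', hB,
      map_comap_eq_self_of_surjective (QuotientGroup.mk'_surjective _), relIndex_bot_left,
      Nat.card_zpowers, o] at this
    exact hB ▸ this
  obtain ⟨m, hm⟩ := exists_avg ch B
  refine ⟨m, ?_⟩
  have s1 : ∑ w ∈ univ.filter fun w : B => (w : N) ∈ C, χ w = ∑ c : C, χ c :=
    sum_bij' (fun w hw => ⟨w, (mem_filter.1 hw).2⟩) (fun c _ => ⟨c, hCB c.2⟩)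
      (by simp) (by simp) (by simp) (by simp) (by simp)
  have s2 : #{w : B | (w : N) ∈ C} = Nat.card C := by
    rw [Nat.card_eq_fintype_card, ← card_univ]
    exact card_bij' (fun w hw => ⟨w, (mem_filter.1 hw).2⟩) (fun c _ => ⟨c, hCB c.2⟩)
      (by simp) (by simp) (by simp) (by simp)
  have s3 := card_filter_add_card_filter_not (s := univ) fun w : B => (w : N) ∈ C
  rw [s2, card_univ, ← Nat.card_eq_fintype_card, cB] at s3
  have s4 : ∑ w ∈ univ.filter fun w : B => ¬ (w : N) ∈ C, χ w =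
      #{w : B | ¬ (w : N) ∈ C} * b := by
    rw [← nsmul_eq_mul, ← sum_const]
    refine sum_congr rfl fun w hw => hb _ fun e => (mem_filter.1 hw).2 ?_
    exact (QuotientGroup.eq_one_iff (N := C) (w : N)).1 (orderOf_eq_one_iff.1
      (Nat.eq_one_of_dvd_coprimes e (orderOf_map_dvd (QuotientGroup.mk' C) _)
        (o ▸ orderOf_dvd_of_mem_zpowers (mem_comap.1 (hB.le w.2)))))
  rw [← sum_filter_add_sum_filter_not univ fun w : B => (w : N) ∈ C, s1, s4, cB] at hm
  have s5 : (Nat.card C : ℂ) + #{w : B | ¬ (w : N) ∈ C} = Nat.card C * r := by exact_mod_cast s3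
  push_cast at hm
  linear_combination hm - s5 * b

theorem cen_avg [NS G] (h : Ctx p y) (hc : Nat.card h.K ≠ 1) {χ : IrrCharacter G} (h1 : χ ≠ triv)
    (h11 : χ ∉ B0 p G) [Fintype (centralizer ({y} : Set G))] : ∃ m : ℕ, p * m < dg χ ∧
      ∑ c : centralizer ({y} : Set G), (χ : G → ℂ) c = Nat.card (centralizer ({y} : Set G)) * m := by
  have := Fintype.ofFinite h.K
  have ch := irr_isCharacter χ.2
  obtain ⟨m, hm⟩ := exists_avg ch (centralizer {y})
  obtain ⟨n, hn'⟩ := exists_avg ch h.K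
  refine ⟨m, ?_, hm⟩
  have k0 : (Nat.card h.K : ℂ) ≠ 0 := by exact_mod_cast Nat.card_pos.ne'
  have e1 : n = p * m := by
    rw [sumC h h11, hn', h.card_C] at hm
    have : (n : ℂ) = p * m := mul_left_cancel₀ k0 (by rw [hm]; push_cast; ring)
    exact_mod_cast this
  obtain ⟨k, k1, k2⟩ := h.K.bot_or_exists_ne_one.resolve_left fun e => hc (by rw [e, card_bot])
  have b : ∀ w, ‖(χ : G → ℂ) w‖ ≤ dg χ := fun w => by
    simpa [dg_eq] using norm_char_le ch w
  have h2 : ∑ w : h.K, ‖(χ : G → ℂ) w‖ < ∑ _w : h.K, (dg χ : ℝ) :=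
    sum_lt_sum (fun w _ => b w) ⟨⟨k, k1⟩, mem_univ _, lt_of_le_of_ne (b k) fun e =>
      k2 (norm_lt h1 (by simpa [dg_eq] using e))⟩
  have h3 := (norm_sum_le univ fun w : h.K => (χ : G → ℂ) w).trans_lt h2
  rw [hn', sum_const, card_univ, ← Nat.card_eq_fintype_card, norm_mul, Complex.norm_natCast,
    Complex.norm_natCast, nsmul_eq_mul] at h3
  rw [← e1]
  exact_mod_cast lt_of_mul_lt_mul_left h3 (Nat.cast_nonneg _)

theorem ufil' [NS G] (h : Ctx p y) (g : Ctx r z) (hz : z ∈ normalizer (zpowers y : Set G))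
    (hn : ¬ Commute y z) (hc : Nat.card h.K ≠ 1) {χ : IrrCharacter G} (h1 : χ ≠ triv)
    (h5 : χ ∈ B0 r G) (h11 : χ ∉ B0 p G) {a : ℤ} (ha : ∀ u : (ZMod r)ˣ, g.co u χ = a) :
    ∃ m m' : ℕ, p * m < dg χ ∧ (m : ℤ) - (r - 1) * a = r * m' := by
  have hC : centralizer ({y} : Set G) = centralizer (zpowers y : Set G) := by
    rw [← centralizer_closure, ← zpowers_eq_closure]
  have hle : centralizer ({y} : Set G) ≤ normalizer (zpowers y : Set G) :=
    hC ▸ centralizer_le_normalizer _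
  have hnor : ((centralizer ({y} : Set G)).subgroupOf (normalizer (zpowers y : Set G))).Normal := by
    rw [hC]
    infer_instance
  generalize normalizer (zpowers y : Set G) = N at hz hle hnor
  have := Fintype.ofFinite (centralizer ({y} : Set G))
  have := Fintype.ofFinite ((centralizer ({y} : Set G)).subgroupOf N)
  obtain ⟨m, h2, hm⟩ := cen_avg h hc h1 h11
  obtain ⟨m', hm'⟩ := ext_avg (r := r) (isCharacter_res N (irr_isCharacter χ.2))
    ((centralizer ({y} : Set G)).subgroupOf N) (z := ⟨z, hz⟩) (Subtype.ext g.pow_p)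
    (fun e => hn (mem_centralizer_singleton_iff.1 e).symm) (b := -a)
    fun w hw => val_sing g h5 ha fun e => hw (isPReg_coe.1 e)
  refine ⟨m, m', h2, ?_⟩
  have e : ∑ c : (centralizer ({y} : Set G)).subgroupOf N, (χ : G → ℂ) (c : N) =
      ∑ c : centralizer ({y} : Set G), (χ : G → ℂ) c :=
    (subgroupOfEquivOfLe hle).toEquiv.sum_comp fun c => (χ : G → ℂ) c
  rw [Nat.card_congr (subgroupOfEquivOfLe hle).toEquiv, e, hm] at hm'
  have c0 : (Nat.card (centralizer ({y} : Set G)) : ℂ) ≠ 0 := by exact_mod_cast Nat.card_pos.ne'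
  have : (m : ℂ) - (r - 1) * a = r * m' := mul_left_cancel₀ c0 (by linear_combination hm')
  exact_mod_cast this

theorem ufil [Fact (Nat.Prime 11)] [Fact (Nat.Prime 5)] [NS G] (h : Ctx 11 y) (g : Ctx 5 z)
    (hz : z ∈ normalizer (zpowers y : Set G)) (hn : ¬ Commute y z) (hc : Nat.card h.K ≠ 1)
    {χ : IrrCharacter G} (h1 : χ ≠ triv) (h5 : χ ∈ B0 5 G) (h11 : χ ∉ B0 11 G) {a : ℤ}
    (ha : ∀ u : (ZMod 5)ˣ, g.co u χ = a) :
    ∃ m : ℕ, 11 * m < dg χ ∧ 4 * a ≤ m ∧ (5 : ℤ) ∣ m - 4 * a := by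
  obtain ⟨m, m', h2, h3⟩ := ufil' h g hz hn hc h1 h5 h11 ha
  push_cast at h3
  exact ⟨m, h2, by omega, ⟨m', by omega⟩⟩

end Cfsg.Agent.H8.B24
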