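import Mathlib
import Cfsg.Agent.H4.C12P3
import Cfsg.Agent.H9.FxTransfer

/-!
# The group `2 × D₈` as a Sylow subgroup of an involution centralizer
-/

set_option autoImplicit false

namespace Cfsg.Agent.L0.C12

open Subgroup Cfsg.Agent.L0.SC3 Cfsg.Agent.H9 Cfsg.Agent.H1.T3
open scoped commutatorElement Pointwise

/-- A model of `2 × D₈`. -/
structure W16 where
  i : Bool
  j : Bool
  k : Bool
  l : Bool
  deriving DecidableEq

namespace W16

instance : Fintype W16 :=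
  Fintype.ofEquiv (Bool × Bool × Bool × Bool)
    ⟨fun p => ⟨p.1, p.2.1, p.2.2.1, p.2.2.2⟩, fun p => (p.i, p.j, p.k, p.l), fun _ => rfl,
      fun _ => rfl⟩

instance : Mul W16 :=
  ⟨fun p q => ⟨xor p.i q.i, xor p.j q.j, xor p.k q.k, xor (xor p.l q.l) (p.k && q.j)⟩⟩
instance : One W16 := ⟨⟨false, false, false, false⟩⟩
instance : Inv W16 := ⟨fun p => ⟨p.i, p.j, p.k, xor p.l (p.j && p.k)⟩⟩

instance : Group W16 := Group.ofLeftAxioms (by decide +kernel) (by decide) (by decide)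

/-- Generators. -/
def wt : W16 := ⟨true, false, false, false⟩
/-- Generators. -/
def wa : W16 := ⟨false, true, false, false⟩
/-- Generators. -/
def wb : W16 := ⟨false, false, true, false⟩
/-- Generators. -/
def wv : W16 := ⟨false, false, false, true⟩

theorem card : Nat.card W16 = 16 := by rw [Nat.card_eq_fintype_card]; rfl

/-- The subgroup `D₈`. -/
def sD : Subgroup W16 where
  carrier := {p | p.i = false}
  one_mem' := rfl
  mul_mem' := fun {a b} => by simp only [Set.mem_ofPred_eq]; revert a b; decide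
  inv_mem' := fun {a} => by simp only [Set.mem_ofPred_eq]; revert a; decide

/-- The subgroup `⟨t, a, v⟩`. -/
def sE : Subgroup W16 where
  carrier := {p | p.k = false}
  one_mem' := rfl
  mul_mem' := fun {a b} => by simp only [Set.mem_ofPred_eq]; revert a b; decide
  inv_mem' := fun {a} => by simp only [Set.mem_ofPred_eq]; revert a; decide

/-- The subgroup `⟨a, v⟩`. -/
def sF : Subgroup W16 := sD ⊓ sE

end W16

open W16

variable {G : Type*} [Group G]

/-- The word for an element of the model. -/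
def ev16 (t a b v : G) (p : W16) : G :=
  (cond p.i t 1) * (cond p.j a 1) * (cond p.k b 1) * (cond p.l v 1)

/-- The relations of `⟨t⟩ × ⟨a, b⟩ ≅ 2 × D₈`, `v = [a, b]`. -/
structure R16 (t a b v : G) : Prop where
  tt : t * t = 1
  aa : a * a = 1
  bb : b * b = 1
  vv : v * v = 1
  ta : Commute t a
  tb : Commute t b
  va : Commute v a
  vb : Commute v b
  ba : b * a = a * b * v
  t1 : t ≠ 1
  v1 : v ≠ 1
  tv : t ≠ v

namespace R16

variable {t a b v : G} (h : R16 t a b v)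
include h

theorem v_eq : v = b⁻¹ * a⁻¹ * b * a := by rw [mul_assoc _ b, h.ba]; group

theorem ctv : Commute t v := by
  rw [h.v_eq]
  exact ((h.tb.inv_right.mul_right h.ta.inv_right).mul_right h.tb).mul_right h.ta

theorem ev_mul (p q : W16) : ev16 t a b v (p * q) = ev16 t a b v p * ev16 t a b v q := by
  have e1 : ∀ g, t * (t * g) = g := fun g => by rw [← mul_assoc, h.tt, one_mul]
  have e2 : ∀ g, a * (a * g) = g := fun g => by rw [← mul_assoc, h.aa, one_mul]
  have e3 : ∀ g, b * (b * g) = g := fun g => by rw [← mul_assoc, h.bb, one_mul]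
  have e4 : ∀ g, v * (v * g) = g := fun g => by rw [← mul_assoc, h.vv, one_mul]
  have f1 : ∀ g, a * (t * g) = t * (a * g) := fun g => by rw [← mul_assoc, ← h.ta.eq, mul_assoc]
  have f2 : ∀ g, b * (t * g) = t * (b * g) := fun g => by rw [← mul_assoc, ← h.tb.eq, mul_assoc]
  have f3 : ∀ g, v * (t * g) = t * (v * g) := fun g => by rw [← mul_assoc, ← h.ctv.eq, mul_assoc]
  have f4 : ∀ g, v * (a * g) = a * (v * g) := fun g => by rw [← mul_assoc, h.va.eq, mul_assoc]
  have f5 : ∀ g, v * (b * g) = b * (v * g) := fun g => by rw [← mul_assoc, h.vb.eq, mul_assoc]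
  have f6 : ∀ g, b * (a * g) = a * (b * (v * g)) := fun g => by
    rw [← mul_assoc, h.ba, mul_assoc, mul_assoc]
  rw [← mul_one (ev16 t a b v (p * q)), ← mul_one (ev16 t a b v q)]
  generalize (1 : G) = z
  obtain ⟨i, j, k, l⟩ := p
  obtain ⟨i', j', k', l'⟩ := q
  change ev16 t a b v ⟨xor i i', xor j j', xor k k', xor (xor l l') (k && j')⟩ * z = _
  cases i <;> cases j <;> cases k <;> cases l <;> cases i' <;> cases j' <;> cases k' <;>
    cases l' <;>
    simp only [ev16, Bool.xor_false, Bool.xor_true, Bool.not_true, Bool.not_false,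
      Bool.and_false, Bool.and_true, cond_true, cond_false, one_mul, mul_one, mul_assoc, e1, e2,
      e3, e4, f1, f2, f3, f4, f5, f6]

/-- The homomorphism from the model. -/
def φ : W16 →* G := MonoidHom.mk' (ev16 t a b v) h.ev_mul

theorem φ_apply (p : W16) : h.φ p = ev16 t a b v p := rfl

theorem φt : h.φ wt = t := by simp [φ_apply, ev16, wt]
theorem φa : h.φ wa = a := by simp [φ_apply, ev16, wa]
theorem φb : h.φ wb = b := by simp [φ_apply, ev16, wb]
theorem φv : h.φ wv = v := by simp [φ_apply, ev16, wv]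

theorem φ_t (p : W16) : h.φ p * t⁻¹ = h.φ (p * wt⁻¹) := by rw [map_mul, map_inv, h.φt]

theorem inj : Function.Injective h.φ := by
  rw [injective_iff_map_eq_one]
  intro p hp
  rcases (by decide : ∀ p : W16, p = 1 ∨ p = wt ∨ p = wv ∨ p = wt * wv ∨
    ∃ q, p * q * p⁻¹ * q⁻¹ = wv) p with e | e | e | e | ⟨q, e⟩
  · exact e
  · exact absurd (by rw [← h.φt, ← e, hp]) h.t1
  · exact absurd (by rw [← h.φv, ← e, hp]) h.v1
  · rw [e, map_mul, h.φt, h.φv] at hp
    exact absurd (by rw [eq_inv_of_mul_eq_one_left hp, inv_eq_of_mul_eq_one_right h.vv]) h.tv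
  · exact absurd (by rw [← h.φv, ← e]; simp [hp]) h.v1

/-- `T = ⟨t, a, b⟩`. -/
def T : Subgroup G := h.φ.range
/-- `D = ⟨a, b⟩`. -/
def D : Subgroup G := sD.map h.φ
/-- `E = ⟨t, a, v⟩`. -/
def E : Subgroup G := sE.map h.φ
/-- `F = ⟨a, v⟩`. -/
def F : Subgroup G := sF.map h.φ

theorem memT (p : W16) : h.φ p ∈ h.T := ⟨p, rfl⟩
theorem memD {p : W16} : h.φ p ∈ h.D ↔ p.i = false := mem_map_iff_mem h.inj
theorem memE {p : W16} : h.φ p ∈ h.E ↔ p.k = false := mem_map_iff_mem h.inj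
theorem memF {p : W16} : h.φ p ∈ h.F ↔ p.i = false ∧ p.k = false := mem_map_iff_mem h.inj
theorem D_le : h.D ≤ h.T := map_le_range _ _
theorem E_le : h.E ≤ h.T := map_le_range _ _
theorem F_le : h.F ≤ h.E := map_mono inf_le_right
theorem tT : t ∈ h.T := ⟨wt, h.φt⟩
theorem aT : a ∈ h.T := ⟨wa, h.φa⟩
theorem bT : b ∈ h.T := ⟨wb, h.φb⟩
theorem vT : v ∈ h.T := ⟨wv, h.φv⟩

theorem card_T : Nat.card h.T = 16 := by
  rw [← W16.card]; exact (Nat.card_congr (MonoidHom.ofInjective h.inj).toEquiv).symm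

theorem T_le {L : Subgroup G} (h1 : t ∈ L) (h2 : a ∈ L) (h3 : b ∈ L) : h.T ≤ L := by
  have h4 : v ∈ L := h.v_eq ▸ mul_mem (mul_mem (mul_mem (inv_mem h3) (inv_mem h2)) h3) h2
  rintro _ ⟨⟨i, j, k, l⟩, rfl⟩
  refine mul_mem (mul_mem (mul_mem ?_ ?_) ?_) ?_
  · cases i <;> simp [h1]
  · cases j <;> simp [h2]
  · cases k <;> simp [h3]
  · cases l <;> simp [h4]

theorem mem_E_iff {g : G} : g ∈ h.E ↔ g = 1 ∨ g = v ∨ g = a ∨ g = a * v ∨ g = t ∨ g = t * v ∨
    g = t * a ∨ g = t * a * v := by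
  constructor
  · rintro ⟨⟨i, j, k, l⟩, hp, rfl⟩
    obtain rfl : k = false := hp
    cases i <;> cases j <;> cases l <;> simp [φ_apply, ev16]
  · have e : ∀ i j l, ev16 t a b v ⟨i, j, false, l⟩ ∈ h.E := fun i j l => ⟨_, rfl, rfl⟩
    rintro (rfl | rfl | rfl | rfl | rfl | rfl | rfl | rfl)
    exacts [one_mem _, by simpa [ev16] using e false false true,
      by simpa [ev16] using e false true false, by simpa [ev16] using e false true true,
      by simpa [ev16] using e true false false, by simpa [ev16] using e true false true,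
      by simpa [ev16] using e true true false, by simpa [ev16] using e true true true]

theorem mem_F_iff {g : G} : g ∈ h.F ↔ g = 1 ∨ g = v ∨ g = a ∨ g = a * v := by
  constructor
  · rintro ⟨⟨i, j, k, l⟩, hp, rfl⟩
    obtain rfl : k = false := hp.2
    obtain rfl : i = false := hp.1
    cases j <;> cases l <;> simp [φ_apply, ev16]
  · have e : ∀ j l, ev16 t a b v ⟨false, j, false, l⟩ ∈ h.F := fun j l => ⟨_, ⟨rfl, rfl⟩, rfl⟩
    rintro (rfl | rfl | rfl | rfl)
    exacts [one_mem _, by simpa [ev16] using e false true,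
      by simpa [ev16] using e true false, by simpa [ev16] using e true true]

theorem comm_t {g : G} (hg : g ∈ h.T) : Commute t g :=
  (SC3.mem_cent.1 (h.T_le (L := centralizer {t}) (SC3.mem_cent.2 (Commute.refl t))
    (SC3.mem_cent.2 h.ta.symm) (SC3.mem_cent.2 h.tb.symm) hg)).symm

theorem comm_v {g : G} (hg : g ∈ h.T) : Commute v g :=
  (SC3.mem_cent.1 (h.T_le (L := centralizer {v}) (SC3.mem_cent.2 h.ctv)
    (SC3.mem_cent.2 h.va.symm) (SC3.mem_cent.2 h.vb.symm) hg)).symm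

theorem isPGroup : IsPGroup 2 h.T := IsPGroup.of_card (n := 4) h.card_T

/-- An element normalizing `T` centralizes `v`. -/
theorem conj_v {g : G} (hg : ∀ x ∈ h.T, g * x * g⁻¹ ∈ h.T) : g * v * g⁻¹ = v := by
  obtain ⟨p, hp⟩ := hg _ (h.memT (wa * wb))
  have e : g * v * g⁻¹ = h.φ (p * p) := by
    rw [map_mul, hp, conj_mul, ← map_mul, (by decide : wa * wb * (wa * wb) = wv), h.φv]
  rcases (by decide : ∀ p : W16, p * p = 1 ∨ p * p = wv) p with e' | e' <;> rw [e'] at e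
  · exact absurd (by simpa using e) h.v1
  · rw [e, h.φv]

/-- An element normalizing `T` maps `t` to `t` or `t v`. -/
theorem conj_t {g : G} (hg : ∀ x ∈ h.T, g * x * g⁻¹ ∈ h.T) [Finite G] :
    g * t * g⁻¹ = t ∨ g * t * g⁻¹ = t * v := by
  obtain ⟨p, hp⟩ := hg _ h.tT
  have hn := inv_mem (mem_normalizer_of_conj hg)
  have c : ∀ q, p * q = q * p := fun q => h.inj (by
    have := (h.comm_t (conj_mem_of_mem_normalizer hn (h.memT q))).conj g
    rw [map_mul, map_mul, hp]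
    simpa [mul_assoc] using this.eq)
  rcases (by decide : ∀ p : W16, (∀ q, p * q = q * p) → p = 1 ∨ p = wv ∨ p = wt ∨ p = wt * wv) p c
    with rfl | rfl | rfl | rfl
  · exact absurd (by simpa using hp.symm) h.t1
  · rw [h.φv, ← h.conj_v hg] at hp
    exact absurd (by simpa using hp.symm) h.tv
  · exact Or.inl (by rw [← hp, h.φt])
  · exact Or.inr (by rw [← hp, map_mul, h.φt, h.φv])

end R16

theorem mem_sup_two [Finite G] {D : Subgroup G} {w g : G} (hn : ∀ d ∈ D, w * d * w⁻¹ ∈ D)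
    (h2 : w * w ∈ D) : g ∈ D ⊔ zpowers w ↔ g ∈ D ∨ g * w⁻¹ ∈ D := by
  have hn' : ∀ d ∈ D, w⁻¹ * d * w ∈ D := fun d hd => by
    simpa using C12.conj_mem_of_mem_normalizer (inv_mem (mem_normalizer_of_conj hn)) hd
  let M : Subgroup G :=
    { carrier := {g | g ∈ D ∨ g * w⁻¹ ∈ D}
      one_mem' := Or.inl (one_mem _)
      mul_mem' := by
        rintro x y (hx | hx) (hy | hy)
        · exact Or.inl (mul_mem hx hy)
        · exact Or.inr (by simpa [mul_assoc] using mul_mem hx hy)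
        · exact Or.inr (by simpa [mul_assoc] using mul_mem hx (hn _ hy))
        · exact Or.inl (by simpa [mul_assoc] using mul_mem (mul_mem hx (hn _ hy)) h2)
      inv_mem' := by
        rintro x (hx | hx)
        · exact Or.inl (inv_mem hx)
        · exact Or.inr (by simpa [mul_assoc] using mul_mem (hn' _ (inv_mem hx)) (inv_mem h2)) }
  refine ⟨fun hg => (sup_le (fun d hd => Or.inl hd) (zpowers_le_of_mem (Or.inr (by simp))) :
    _ ≤ M) hg, fun hg => hg.elim (fun e => mem_sup_left e) fun e => ?_⟩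
  simpa using mul_mem (mem_sup_left e : _ ∈ D ⊔ zpowers w) (mem_sup_right (mem_zpowers w))

/-- The involutions of `D` are not conjugate to `t`. -/
structure C16 (t a b v : G) : Prop extends R16 t a b v where
  nv : ¬ IsConj t v
  na : ¬ IsConj t a
  nb : ¬ IsConj t b
  cv : IsConj t (t * v)
  ca : IsConj t (t * a)
  cb : IsConj t (t * b)

/-- The action of an element interchanging the two elementary subgroups of order eight. -/
def sw16 (ε δ : Bool) (p : W16) : W16 :=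
  ev16 (wt * wv) (wb * cond ε wv 1) (wa * cond δ wv 1) wv p

namespace C16

variable {t a b v : G} (h : C16 t a b v)
include h

theorem sq_of_isConj {u : G} (hu : IsConj t u) : u * u = 1 := by
  obtain ⟨g, rfl⟩ := isConj_iff.1 hu
  rw [conj_mul, h.tt]; simp

theorem ne_of_isConj {u : G} (hu : IsConj t u) : u ≠ 1 := fun e => h.t1 (by simpa [e] using hu)

theorem i_eq {p : W16} (hp : IsConj t (h.φ p)) : p.i = true ∧ p * p = 1 := by
  have h2 : p * p = 1 := h.inj (by rw [map_mul, h.sq_of_isConj hp, map_one])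
  refine ⟨?_, h2⟩
  rcases (by decide : ∀ p : W16, p * p = 1 → p.i = true ∨ p = 1 ∨ ∃ q, q * p * q⁻¹ = wv ∨
    q * p * q⁻¹ = wa ∨ q * p * q⁻¹ = wb) p h2 with e | rfl | ⟨q, e⟩
  · exact e
  · exact absurd (map_one _) (h.ne_of_isConj hp)
  have := hp.trans (isConj_mk (h.φ q) _)
  rw [← map_inv, ← map_mul, ← map_mul] at this
  rcases e with e | e | e <;> rw [e] at this
  exacts [absurd (h.φv ▸ this) h.nv, absurd (h.φa ▸ this) h.na, absurd (h.φb ▸ this) h.nb]

theorem isConj_of {p : W16} (h1 : p.i = true) (h2 : p * p = 1) : IsConj t (h.φ p) := by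
  obtain ⟨q, e⟩ := (by decide : ∀ p : W16, p.i = true → p * p = 1 → ∃ q, p = q * wt * q⁻¹ ∨
    p = q * (wt * wv) * q⁻¹ ∨ p = q * (wt * wa) * q⁻¹ ∨ p = q * (wt * wb) * q⁻¹) p h1 h2
  rcases e with rfl | rfl | rfl | rfl <;>
    simp only [map_mul, map_inv, h.φt, h.φv, h.φa, h.φb] <;> refine IsConj.trans ?_ (isConj_mk _ _)
  exacts [IsConj.refl t, h.cv, h.ca, h.cb]

theorem notMem_D {u : G} (hu : IsConj t u) : u ∉ h.D := by
  rintro ⟨p, hp, rfl⟩
  have := (h.i_eq hu).1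
  rw [show p.i = false from hp] at this
  exact absurd this (by decide)

/-- `m` interchanges the two elementary subgroups. -/
def Sw (m : G) : Prop := ∃ ε δ, ∀ p, m * h.φ p * m⁻¹ = h.φ (sw16 ε δ p)

theorem sw_of {m : G} {ε δ : Bool} (h1 : m * t * m⁻¹ = t * v) (h2 : m * v * m⁻¹ = v)
    (h3 : m * a * m⁻¹ = h.φ (wb * cond ε wv 1)) (h4 : m * b * m⁻¹ = h.φ (wa * cond δ wv 1)) :
    h.Sw m := by
  refine ⟨ε, δ, fun ⟨i, j, k, l⟩ => ?_⟩
  have e : ∀ (c : Bool) (x : G) (y : W16), m * x * m⁻¹ = h.φ y →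
      m * cond c x 1 * m⁻¹ = h.φ (cond c y 1) := fun c x y e => by cases c <;> simp [e]
  rw [R16.φ_apply, sw16, ev16, ev16, map_mul, map_mul, map_mul, ← e i t _ (by
    rw [h1, map_mul, h.φt, h.φv]), ← e j a _ h3, ← e k b _ h4, ← e l v _ (by rw [h2, h.φv])]
  group

theorem Sw.mul {m : G} (hm : h.Sw m) (q : W16) : h.Sw (m * h.φ q) := by
  obtain ⟨ε, δ, e⟩ := hm
  obtain ⟨ε', δ', e'⟩ := (by decide : ∀ ε δ q, ∃ ε' δ', ∀ p,
    sw16 ε δ (q * p * q⁻¹) = sw16 ε' δ' p) ε δ q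
  refine ⟨ε', δ', fun p => ?_⟩
  rw [← e', ← e, map_mul, map_mul, map_inv]
  group

theorem sw_of_notMem {n : G} (hN : ∀ x ∈ h.T, n * x * n⁻¹ ∈ h.T) (h1 : n * t * n⁻¹ = t * v)
    (hna : n * a * n⁻¹ ∉ h.E) : h.Sw n := by
  have h2 := h.conj_v hN
  obtain ⟨p, hp⟩ := hN _ h.aT
  obtain ⟨q, hq⟩ := hN _ h.bT
  have z : ∀ (x : G) (p : W16), x * x = 1 → ¬ IsConj t x → h.φ p = n * x * n⁻¹ →
      p * p = 1 ∧ p.i = false := fun x p hx hc e => by
    have e1 : p * p = 1 := h.inj (by rw [map_mul, e, conj_mul, hx]; simp)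
    refine ⟨e1, by_contra fun hn => hc ((h.isConj_of (by simpa using hn) e1).trans ?_)⟩
    rw [e]; exact (isConj_mk n x).symm
  obtain ⟨p1, p2⟩ := z a p h.aa h.na hp
  obtain ⟨q1, q2⟩ := z b q h.bb h.nb hq
  have p3 : ¬ p.k = false := fun e => hna (hp ▸ h.memE.2 e)
  have c : ¬ p * q = q * p := fun e => h.v1 (by
    have := congrArg h.φ e
    rw [map_mul, map_mul, hp, hq, conj_mul, conj_mul, h.ba] at this
    simpa using this)
  obtain ⟨ε, δ, rfl, rfl⟩ := (by decide : ∀ p q : W16, p * p = 1 → p.i = false → q * q = 1 →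
    q.i = false → ¬ p.k = false → ¬ p * q = q * p →
    ∃ ε δ, p = wb * cond ε wv 1 ∧ q = wa * cond δ wv 1) p q p1 p2 q1 q2 p3 c
  exact h.sw_of h1 h2 hp.symm hq.symm

/-- **D32**: no element of a Sylow `2`-subgroup interchanges the two elementary subgroups. -/
theorem d32 [Finite G] (hG : commutator G = ⊤) {S : Subgroup G} (hS : IsSylowIn 2 S ⊤) (hT : h.T ≤ S)
    (hC : ∀ g ∈ S, Commute g t → g ∈ h.T) {n : G} (hn : n ∈ S) (hnT : n ∉ h.T)
    (hN : ∀ x ∈ h.T, n * x * n⁻¹ ∈ h.T) (hna : n * a * n⁻¹ ∉ h.E) : False := by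
  have mv : ∀ m ∈ S, m ∉ h.T → (∀ x ∈ h.T, m * x * m⁻¹ ∈ h.T) → m * t * m⁻¹ = t * v :=
    fun m hm hmT hN => (h.conj_t hN).resolve_left fun e => hmT (hC m hm (conj_eq_iff.1 e))
  have sn := h.sw_of_notMem hN (mv n hn hnT hN) hna
  have cos : ∀ m ∈ S, m ∉ h.T → (∀ x ∈ h.T, m * x * m⁻¹ ∈ h.T) → n⁻¹ * m ∈ h.T :=
    fun m hm hmT hM => hC _ (mul_mem (inv_mem hn) hm) (conj_eq_iff.1 (by
      calc _ = n⁻¹ * (m * t * m⁻¹) * n := by group
        _ = _ := by rw [mv m hm hmT hM, ← mv n hn hnT hN]; group))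
  have sw : ∀ m ∈ S, m ∉ h.T → (∀ x ∈ h.T, m * x * m⁻¹ ∈ h.T) → h.Sw m := fun m hm hmT hM => by
    obtain ⟨q, hq⟩ := cos m hm hmT hM
    have := sn.mul h q
    rwa [hq, mul_inv_cancel_left] at this
  have fix : ∀ m ∈ S, m ∉ h.T → (∀ x ∈ h.T, m * x * m⁻¹ ∈ h.T) → ∀ u ∈ h.T, u * u = 1 →
      Commute m u → u = 1 ∨ u = v := by
    rintro m hm hmT hM _ ⟨p, rfl⟩ h2 hc
    obtain ⟨ε, δ, e⟩ := sw m hm hmT hM
    rcases (by decide : ∀ ε δ p, p * p = 1 → p = sw16 ε δ p → p = 1 ∨ p = wv) ε δ p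
      (h.inj (by rw [map_mul, h2, map_one])) (h.inj (by rw [← e, hc.eq, mul_inv_cancel_right]))
      with rfl | rfl
    exacts [Or.inl (map_one _), Or.inr h.φv]
  have two : ∀ m ∈ S, m ∉ h.T → (∀ x ∈ h.T, m * x * m⁻¹ ∈ h.T) → ∀ m' ∈ S, m' ∉ h.T →
      (∀ x ∈ h.T, m' * x * m'⁻¹ ∈ h.T) → m * m'⁻¹ ∈ h.T := fun m hm hmT hM m' hm' hmT' hM' => by
    have := hN _ (mul_mem (cos m hm hmT hM) (inv_mem (cos m' hm' hmT' hM')))
    rwa [show n * (n⁻¹ * m * (n⁻¹ * m')⁻¹) * n⁻¹ = m * m'⁻¹ by group] at this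
  have hall : S ≤ S ⊓ normalizer (h.T : Set G) := by
    by_contra hc
    obtain ⟨g, hg, g1, g2⟩ := exists_mem_normalizer hS.isPGroup inf_le_left hc
    have k1 : ∀ x ∈ h.T, g * x * g⁻¹ ∈ S ∧ ∀ y ∈ h.T, g * x * g⁻¹ * y * (g * x * g⁻¹)⁻¹ ∈ h.T :=
      fun x hx => by
        have := C12.conj_mem_of_mem_normalizer g2 (b := x) ⟨hT hx, le_normalizer hx⟩
        exact ⟨this.1, fun y hy => C12.conj_mem_of_mem_normalizer this.2 hy⟩
    have k2 : g * t * g⁻¹ ∉ h.T := fun e => g1 ⟨hg, mem_normalizer_of_conj fun x hx => by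
      by_contra hx'
      rcases fix _ (k1 x hx).1 hx' (k1 x hx).2 _ e (by rw [conj_mul, h.tt]; simp)
        ((h.comm_t hx).symm.conj g) with e' | e'
      · exact h.t1 (by simpa using e')
      · exact h.nv (e' ▸ isConj_mk g t)⟩
    have k3 : ∀ p : W16, p * p = 1 → p ≠ 1 → p ≠ wt →
        g * h.φ p * g⁻¹ = v ∨ g * h.φ (p * wt⁻¹) * g⁻¹ = v := fun p h2 h1 h3 => by
      have c := h.comm_t (h.memT p)
      by_cases e : g * h.φ p * g⁻¹ ∈ h.T
      · refine Or.inl ((fix _ (k1 t h.tT).1 k2 (k1 t h.tT).2 _ e (by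
          rw [conj_mul, ← map_mul, h2]; simp) (c.conj g)).resolve_left fun e' => h1 (h.inj ?_))
        simpa using e'
      · have e' := two _ (k1 _ (h.memT p)).1 e (k1 _ (h.memT p)).2 _ (k1 t h.tT).1 k2
          (k1 t h.tT).2
        rw [show g * h.φ p * g⁻¹ * (g * t * g⁻¹)⁻¹ = g * (h.φ p * t⁻¹) * g⁻¹ by group,
          h.φ_t] at e'
        refine Or.inr ((fix _ (k1 t h.tT).1 k2 (k1 t h.tT).2 _ e' (by
          rw [conj_mul, ← map_mul, (by decide : ∀ p : W16, p * p = 1 →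
            p * wt⁻¹ * (p * wt⁻¹) = 1) p h2]; simp) ((h.comm_t (h.memT _)).conj g)).resolve_left
          fun e'' => h3 (mul_inv_eq_one.1 (h.inj ?_)))
        simpa using e''
    have k4 : ∀ p q : W16, g * h.φ p * g⁻¹ = v → g * h.φ q * g⁻¹ = v → p = q := fun p q e e' =>
      h.inj (by simpa using e.trans e'.symm)
    rcases k3 wa (by decide) (by decide) (by decide) with e | e <;>
      rcases k3 wv (by decide) (by decide) (by decide) with e' | e' <;>
      exact absurd (k4 _ _ e e') (by decide)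
  have hM : ∀ m ∈ S, ∀ x ∈ h.T, m * x * m⁻¹ ∈ h.T := fun m hm x hx =>
    C12.conj_mem_of_mem_normalizer (hall hm).2 hx
  have ii : ∀ m ∈ S, ∀ p, ∃ q, m * h.φ p * m⁻¹ = h.φ q ∧ q.i = p.i := fun m hm p => by
    by_cases e : m ∈ h.T
    · obtain ⟨r, rfl⟩ := e
      exact ⟨r * p * r⁻¹, by simp, (by decide : ∀ r p : W16, (r * p * r⁻¹).i = p.i) r p⟩
    · obtain ⟨ε, δ, e⟩ := sw m hm e (hM m hm)
      exact ⟨_, e p, (by decide : ∀ ε δ p, (sw16 ε δ p).i = p.i) ε δ p⟩
  have nD : ∀ m ∈ S, ∀ d ∈ h.D, m * d * m⁻¹ ∈ h.D := by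
    rintro m hm _ ⟨p, hp, rfl⟩
    obtain ⟨q, e, e'⟩ := ii m hm p
    rw [e, h.memD, e']; exact hp
  have c1 : ∀ m ∈ S, ∀ x ∈ h.T, m * x * m⁻¹ * x⁻¹ ∈ h.D := by
    rintro m hm _ ⟨p, rfl⟩
    obtain ⟨q, e, e'⟩ := ii m hm p
    rw [e, ← map_inv, ← map_mul, h.memD]
    exact (by decide : ∀ p q : W16, q.i = p.i → (q * p⁻¹).i = false) p q e'
  have c2 : ⁅S, S⁆ ≤ h.D := commutator_le.2 fun x hx y hy => by
    rw [commutatorElement_def]
    by_cases e : y ∈ h.T
    · exact c1 x hx y e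
    by_cases e' : x ∈ h.T
    · simpa [mul_assoc] using inv_mem (c1 y hy x e')
    have := c1 x hx _ (two y hy e (hM y hy) x hx e' (hM x hx))
    rwa [show x * (y * x⁻¹) * x⁻¹ * (y * x⁻¹)⁻¹ = x * y * x⁻¹ * y⁻¹ by group] at this
  have odd : Odd S.index := by
    have := hS.not_dvd
    rw [relIndex_top_right] at this
    exact Nat.odd_iff.2 (by omega)
  have key : ∀ M : Subgroup G, h.D ≤ M →
      (∀ u ∈ S, u ∉ h.T → u * u = 1 → u * t⁻¹ ∈ M) → t ∈ M := fun M h1 h2 => by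
    have := Fx4.transfer_pow' hG (c2.trans h1) (hT h.tT) fun k g hg => by
      rcases Fx4.pow_of_sq h.tt k with e | e <;> rw [e] at hg ⊢
      · simp
      have cj : IsConj t (g⁻¹ * t * g) := by simpa using isConj_mk g⁻¹ t
      by_cases e' : g⁻¹ * t * g ∈ h.T
      · obtain ⟨p, hp⟩ := e'
        rw [← hp] at cj ⊢
        refine h1 ?_
        rw [h.φ_t, h.memD]
        exact (by decide : ∀ p : W16, p.i = true → (p * wt⁻¹).i = false) p (h.i_eq cj).1
      · exact h2 _ hg e' (h.sq_of_isConj cj)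
    obtain ⟨j, hj⟩ := odd
    rwa [hj, pow_succ, pow_mul, pow_two, h.tt, one_pow, one_mul] at this
  by_cases hA : ∃ m ∈ S, m ∉ h.T ∧ m * m = 1
  swap
  · exact h.notMem_D (IsConj.refl t) (key _ le_rfl fun u h1 h2 h3 => absurd ⟨u, h1, h2, h3⟩ hA)
  obtain ⟨m, hm, mT, mm⟩ := hA
  have mi := inv_eq_of_mul_eq_one_right mm
  have ti := inv_eq_of_mul_eq_one_right h.tt
  have mt := mv m hm mT (hM m hm)
  have vD : v ∈ h.D := ⟨wv, rfl, h.φv⟩
  have wS : t * m ∈ S := mul_mem (hT h.tT) hm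
  have ww : t * m * (t * m) = v := by
    calc _ = t * (m * t * m⁻¹) := by rw [mi]; group
      _ = _ := by rw [mt, ← mul_assoc, h.tt, one_mul]
  have k : t ∈ h.D ⊔ zpowers (t * m) := key _ le_sup_left fun u hu uT uu => by
    obtain ⟨p, hp⟩ := two u hu uT (hM u hu) m hm mT (hM m hm)
    obtain ⟨ε, δ, e⟩ := sw m hm mT (hM m hm)
    have e1 : sw16 ε δ (sw16 ε δ wa) = wa := h.inj (by
      rw [← e, ← e, show ∀ x, m * (m * x * m⁻¹) * m⁻¹ = m * m * x * (m * m)⁻¹ by intro x; group, mm]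
      simp)
    have e2 : p * sw16 ε δ p = 1 := h.inj (by
      rw [map_mul, ← e, hp, map_one]
      calc _ = u * (m⁻¹ * m) * u * (m * m)⁻¹ := by group
        _ = 1 := by rw [mm]; simpa using uu)
    have e3 := h.memD.2 ((by decide : ∀ ε δ p, sw16 ε δ (sw16 ε δ wa) = wa → p * sw16 ε δ p = 1 →
      p.i = false) ε δ p e1 e2)
    refine (mem_sup_two (nD _ wS) (ww ▸ vD)).2 (Or.inr ?_)
    rw [show u * t⁻¹ * (t * m)⁻¹ = u * m⁻¹ * (t * (m * t * m⁻¹))⁻¹ by group, mt, ← mul_assoc t,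
      h.tt, one_mul, ← hp]
    exact mul_mem e3 (inv_mem vD)
  rcases (mem_sup_two (nD _ wS) (ww ▸ vD)).1 k with e | e
  · exact h.notMem_D (IsConj.refl t) e
  · have := mul_mem (mul_mem (inv_mem h.tT) (h.D_le e)) h.tT
    exact mT (by simpa [mul_assoc] using this)

end C16

end Cfsg.Agent.L0.C12
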