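import Mathlib
import Cfsg.Agent.H8.C12D32
import Cfsg.Agent.H6.C12C4

/-!
# The case `C(t) ≅ 2 × L₂(7)`: the order count
-/

set_option autoImplicit false

namespace Cfsg.Agent.L0.C12

open Subgroup Cfsg.Agent.L0.SC3 Cfsg.Agent.H9 Cfsg.Agent.H1.T3
open scoped commutatorElement Pointwise

universe u

section
variable {G : Type*} [Group G] [Finite G]

theorem v2l_index {p : ℕ} [hp : Fact p.Prime] {P L : Subgroup G} (hP : IsSylowIn p P L) :
    ∃ r, r % p = 1 ∧ Nat.card (L ⊓ normalizer (P : Set G) : Subgroup G) * r = Nat.card L := by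
  refine ⟨(normalizer (P : Set G)).relIndex L, ?_, ?_⟩
  · have := card_sylow_modEq_one p L
    rw [hP.toSylow.card_eq_index_normalizer] at this
    change (normalizer ((P.subgroupOf L : Subgroup L) : Set L)).index ≡ 1 [MOD p] at this
    rwa [← subgroupOf_normalizer_eq hP.le, Nat.ModEq, Nat.mod_eq_of_lt hp.out.one_lt] at this
  · rw [← inf_relIndex_left, card_mul_relIndex_of_le inf_le_left]

theorem v2l_aut {p : ℕ} (hp : p.Prime) {y : G} (hy : orderOf y = p) :
    ∃ e, e ∣ p - 1 ∧ Nat.card (centralizer ({y} : Set G)) * e =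
      Nat.card (normalizer (zpowers y : Set G)) := by
  have h1 : Nat.card (zpowers y) = p := by rw [Nat.card_zpowers, hy]
  have h2 : centralizer (zpowers y : Set G) = centralizer {y} := by
    rw [zpowers_eq_closure, centralizer_closure]
  refine ⟨_, ?_, h2 ▸ card_mul_relIndex_of_le (centralizer_le_normalizer (zpowers y : Set G))⟩
  have := card_dvd_of_injective _ (QuotientGroup.kerLift_injective (zpowers y).normalizerMonoidHom)
  rwa [normalizerMonoidHom_ker, ← index, ← relIndex, IsCyclic.card_mulAut, h1,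
    Nat.totient_prime hp, h2] at this

end

theorem v2l_ar1 {n : ℕ} (l1 : 42336 ≤ n) (l2 : n ≤ 207552) (d1 : 336 ∣ n) (d2 : 256 ∣ n)
    (d3 : ¬ 5 ∣ n) (d4 : ¬ 9 ∣ n) (d5 : ¬ 512 ∣ n) : ∃ m, n = 5376 * m ∧
    (m = 11 ∨ m = 13 ∨ m = 17 ∨ m = 19 ∨ m = 23 ∨ m = 29 ∨ m = 31 ∨ m = 37) := by
  obtain ⟨m, rfl⟩ : 5376 ∣ n := by
    clear l1 l2 d3 d4 d5
    omega
  refine ⟨m, rfl, ?_⟩
  have h1 : 8 ≤ m := by omega
  have h2 : m ≤ 38 := by omega
  interval_cases m <;> simp_all

theorem v2l_ar2 {m j r : ℕ}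
    (m1 : m = 11 ∨ m = 13 ∨ m = 17 ∨ m = 19 ∨ m = 23 ∨ m = 29 ∨ m = 31 ∨ m = 37)
    (h1 : r % 7 = 1) (h2 : 42 * j * r = 5376 * m) (h3 : ¬ 4 ∣ 42 * j) : m = 11 := by
  have j1 : j ∣ m := (Nat.Coprime.pow_right 7 (Nat.coprime_two_right.2 (Nat.odd_iff.2 (by
    omega)))).dvd_of_dvd_mul_left ⟨r, by linarith⟩
  have mp : m.Prime := by rcases m1 with e | e | e | e | e | e | e | e <;> rw [e] <;> norm_num
  rcases (Nat.dvd_prime mp).1 j1 with rfl | rfl
  · omega
  · have : r = 128 := Nat.eq_of_mul_eq_mul_left (by omega : 0 < 42 * j) (by linarith)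
    omega

theorem v2l_ar3 {z e r : ℕ} (h1 : 11 ∣ z) (h2 : z ∣ 77) (h3 : e ∣ 10) (h4 : r % 11 = 1)
    (h5 : z * e * r = 5376 * 11) : False := by
  have c4 : z = 11 ∨ z = 77 := by
    have := Nat.le_of_dvd (by norm_num) h2
    obtain ⟨w, rfl⟩ := h1
    have : w ≤ 7 := by omega
    interval_cases w <;> omega
  have := Nat.le_of_dvd (by norm_num) h3
  rcases c4 with rfl | rfl <;> interval_cases e <;> omega

variable {G : Type u} [Group G] [Finite G] {x s t : G}

namespace C2

variable (c : C2 x s t)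
include c

omit [Finite G] in
theorem v2l_tt : t * t = 1 := c.sq (mem_zpowers t)

theorem v2l_bound (nst : ¬ IsConj t (s * t)) (hH : Nat.card (centralizer ({t} : Set G)) = 336)
    (hZ : Nat.card (centralizer ({s * t} : Set G)) = 256) :
    42336 ≤ Nat.card G ∧ Nat.card G ≤ 207552 := by
  classical
  have := Fintype.ofFinite G
  have mt := mem_zpowers t
  have tt := c.v2l_tt
  have t1 := c.t1
  have ts := c.ts
  have hc : Nat.card (zpowers t) = 2 := by rw [Nat.card_zpowers, orderOf_two tt t1]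
  have ne : (1 : zpowers t) ≠ ⟨t, mt⟩ := fun e => t1 (congrArg Subtype.val e).symm
  have hu : (Finset.univ : Finset (zpowers t)) = {1, ⟨t, mt⟩} := by
    ext ⟨g, hg⟩
    simpa using (mem_zpowers_two tt).1 hg
  obtain ⟨d, γ, e, b, y, k⟩ := c.chars
  have yc : ∀ u v, IsConj u v → y u = y v := fun u v h => by
    obtain ⟨g, rfl⟩ := isConj_iff.1 h
    rw [k.conj]
  have h1 := k.sumV
  have h2 := k.sumS
  rw [finsum_eq_sum_of_fintype, hu, Finset.sum_pair ne, hc] at h1 h2
  simp only [OneMemClass.coe_one, k.one, mul_one, ← yc t s ts] at h1 h2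
  have hf : ∀ u, fcl s (zpowers t) u = (if IsConj u s then 1 else 0) +
      if IsConj u (s * t) then 1 else 0 := fun u => by
    refine Nat.cast_injective (R := ℂ) ?_
    rw [H6.C12.fcl_eq, hu, Finset.sum_pair ne]
    simp
  have st := (c.shift mt).ss
  have st1 := (c.shift mt).s_ne
  have p1 := k.pos t tt t1
  have f1 := k.form t t tt t1 tt t1
  have f2 := k.cross tt t1 st st1
  have hd := k.deg
  have hg := k.ge
  rw [hf t, if_pos ts, if_neg nst, hH] at f1 f2
  rw [hf (s * t), if_neg fun h' => nst (ts.trans h'.symm), if_pos (IsConj.refl _), hZ] at f2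
  rw [hc] at f1
  obtain ⟨j, rfl⟩ : ∃ j, b = 7 * j := ⟨b / 7, by omega⟩
  have e1 : y t = 42 * j := by omega
  have j0 : 1 ≤ j := by omega
  rw [e1] at f1
  have f3 : Nat.card G * (j * j) = 96 * (d * (d + 1)) := by nlinarith
  have l1 : 21 * j ≤ d := by omega
  have l2 : d ≤ 46 * j := by omega
  have l3 : d + 1 ≤ 47 * j := by omega
  have jj : 0 < j * j := by positivity
  refine ⟨Nat.le_of_mul_le_mul_right ?_ jj, Nat.le_of_mul_le_mul_right ?_ jj⟩ <;> rw [f3]
  · nlinarith [Nat.mul_le_mul l1 (l1.trans d.le_succ)]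
  · nlinarith [Nat.mul_le_mul l2 l3]

theorem v2l_odd (hH : Nat.card (centralizer ({t} : Set G)) = 336)
    (hZ : Nat.card (centralizer ({s * t} : Set G)) = 256) {y : G} (hy : orderOf y = 11) :
    (Nat.card (centralizer ({y} : Set G))).Coprime 6 := by
  have key : ∀ u : G, Commute u y → 11 ∣ Nat.card (centralizer ({u} : Set G)) := fun u h =>
    hy ▸ orderOf_dvd_natCard _ (SC3.mem_cent.2 h.symm)
  refine Nat.Coprime.mul_right (k := _) (m := 2) (n := 3) ?_ ?_ <;>
    refine ((Nat.Prime.coprime_iff_not_dvd (by norm_num)).2 fun e => ?_).symm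
  · obtain ⟨u, hu, ho⟩ := exists_mem_orderOf_eq_prime e
    have := key u (SC3.mem_cent.1 hu)
    rcases c.cls u (by rw [← sq, ← ho, pow_orderOf_eq_one]) (fun e => by simp [e] at ho) with e | e <;>
      rw [card_cent_conj e] at this <;> omega
  · have := Fact.mk Nat.prime_three
    obtain ⟨u, hu, ho⟩ := exists_mem_orderOf_eq_prime e
    have h1 := (key u (SC3.mem_cent.1 hu)).trans (c.t3.of_cube (fun e => by simp [e] at ho)
      (by rw [← ho, pow_orderOf_eq_one])).dvd
    omega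

theorem v2l_not (nst : ¬ IsConj t (s * t)) (hH : Nat.card (centralizer ({t} : Set G)) = 336)
    (hZ : Nat.card (centralizer ({s * t} : Set G)) = 256) (h512 : ¬ 512 ∣ Nat.card G) {θ : G}
    (hθ : orderOf θ = 7) (tθ : Commute t θ) (h42 : Nat.card
      (centralizer {t} ⊓ normalizer (zpowers θ : Set G) : Subgroup G) = 42) : False := by
  obtain ⟨l1, l2⟩ := c.v2l_bound nst hH hZ
  obtain ⟨m, hm, m1⟩ := v2l_ar1 l1 l2 (hH ▸ card_subgroup_dvd_card (centralizer ({t} : Set G)))
    (hZ ▸ card_subgroup_dvd_card (centralizer ({s * t} : Set G))) c.t3.five c.t3.not_nine h512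
  clear l1 l2 h512
  have : Fact (Nat.Prime 7) := ⟨by norm_num⟩
  obtain ⟨r, r1, r2⟩ := v2l_index (isSylowIn_zpowers (mem_top θ) hθ (by
    rw [card_top, hm]
    rcases m1 with e | e | e | e | e | e | e | e <;> rw [e] <;> norm_num))
  rw [top_inf_eq, card_top] at r2
  set N := normalizer (zpowers θ : Set G)
  have tN : t ∈ N := centralizer_le_normalizer _ (by
    rw [zpowers_eq_closure, centralizer_closure]; exact SC3.mem_cent.2 tθ)
  have n4 : ¬ 4 ∣ Nat.card N := fun e => by
    obtain ⟨Q, hQ, tQ⟩ := exists_isSylowIn_ge (zpowers_le_of_mem tN) (El2.of_sq c.v2l_tt).isPGroup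
    have ct : Nat.card (zpowers t) = 2 := by rw [Nat.card_zpowers, orderOf_two c.v2l_tt c.t1]
    have q1 : ¬ Q ≤ zpowers t := fun e' => by
      have h1 := card_mul_relIndex_of_le hQ.le
      have h2 := hQ.not_dvd
      rw [le_antisymm e' tQ, ct] at h1
      rw [le_antisymm e' tQ] at h2
      omega
    obtain ⟨g, gQ, g1, g2⟩ := exists_mem_normalizer hQ.isPGroup tQ q1
    have g3 : g ∈ centralizer {t} := by
      rcases (mem_zpowers_two c.v2l_tt).1 (C12.conj_mem_of_mem_normalizer g2 (mem_zpowers t))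
        with e' | e'
      · exact absurd (by simpa using e') c.t1
      · exact SC3.mem_cent.2 (conj_eq_iff.1 e')
    have h1 := two_mul_card_le (H := zpowers t) (K := centralizer {t} ⊓ Q) (le_inf
      (zpowers_le_of_mem (SC3.mem_cent.2 (Commute.refl t))) tQ) fun e' => g1 (e' ⟨g3, gQ⟩)
    have h2 := card_dvd_of_le (inf_le_inf_left (centralizer {t}) hQ.le)
    obtain ⟨k, hk⟩ := (hQ.isPGroup.to_le (inf_le_right (a := centralizer {t}))).exists_card_eq
    rw [ct, hk] at h1
    rw [h42, hk] at h2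
    have h3 : 2 ≤ k := by
      by_contra h3
      interval_cases k <;> omega
    have := (pow_dvd_pow 2 h3).trans h2
    omega
  obtain ⟨j, hj⟩ := h42 ▸ card_dvd_of_le (inf_le_right (a := centralizer {t}) (b := N))
  rw [hj] at r2 n4
  obtain rfl := v2l_ar2 m1 r1 (r2.trans hm) n4
  have : Fact (Nat.Prime 11) := ⟨by norm_num⟩
  obtain ⟨y, hy⟩ := exists_prime_orderOf_dvd_card' (G := G) 11 (by rw [hm]; norm_num)
  obtain ⟨r', r3, r4⟩ := v2l_index (isSylowIn_zpowers (mem_top y) hy (by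
    rw [card_top, hm]; norm_num))
  obtain ⟨e, e1, e2⟩ := v2l_aut (by norm_num) hy
  rw [top_inf_eq, card_top, ← e2, hm] at r4
  have c1 := c.v2l_odd hH hZ hy
  have c2 : 11 ∣ Nat.card (centralizer ({y} : Set G)) :=
    hy ▸ orderOf_dvd_natCard _ (SC3.mem_cent.2 (Commute.refl y))
  have c3 : Nat.card (centralizer ({y} : Set G)) ∣ 77 :=
    (c1.pow_right 8).dvd_of_dvd_mul_left ((card_subgroup_dvd_card _).trans (by rw [hm]; norm_num))
  exact v2l_ar3 c2 c3 e1 r3 r4

end C2

end Cfsg.Agent.L0.C12
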