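import Cfsg.Agent.H1.ElA
import Cfsg.Agent.H6.ElB

/-! Degree `2pq`: a small Jordan set when `E` is not cyclic. -/

set_option autoImplicit false
set_option linter.unusedSectionVars false

namespace Cfsg.Agent.H1.El

open Finset

variable {G : Type*} [Group G] [Finite G] {Ω : Type*} [MulAction G Ω] [FaithfulSMul G Ω]
  [Fintype Ω] [DecidableEq Ω] {p q : ℕ} {P : Sylow p G} {E : Subgroup G} {x : G} {F : Finset Ω}

theorem th_conj (hp : p.Prime) {W A B : Subgroup G} (hA : IsPGroup p A) (hB : IsPGroup p B)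
    (h1 : A ≤ W) (h2 : B ≤ W) : ∃ w ∈ W, ∃ S : Subgroup G, IsPGroup p S ∧ A ≤ S ∧
      ∀ y ∈ B, w * y * w⁻¹ ∈ S := by
  have := Fact.mk hp
  obtain ⟨S1, e1⟩ := (hA.comap_subtype (K := W)).exists_le_sylow
  obtain ⟨S2, e2⟩ := (hB.comap_subtype (K := W)).exists_le_sylow
  obtain ⟨w, hw⟩ := MulAction.exists_smul_eq W S2 S1
  refine ⟨w, w.2, (S1 : Subgroup W).map W.subtype, S1.isPGroup'.map _,
    fun y hy => ⟨⟨y, h1 hy⟩, e1 hy, rfl⟩, fun y hy => ⟨w * ⟨y, h2 hy⟩ * w⁻¹, ?_, rfl⟩⟩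
  have := Subgroup.smul_mem_pointwise_smul _ (MulAut.conj w) _ (e2 (show (⟨y, h2 hy⟩ : W) ∈ _ from hy))
  rwa [← Sylow.coe_subgroup_smul, hw] at this

theorem Cx.th_pg (h : Cx p q P E x F) (g : G) : IsPGroup p (cj g E) :=
  (P.isPGroup'.to_le h.le).comap_of_injective _ (MulEquiv.injective _)

theorem Cx.th_comm (h : Cx p q P E x F) {g a b : G} (ha : a ∈ cj g E) (hb : b ∈ cj g E) :
    a * b = b * a := by
  have := h.comm _ (mem_cj.1 ha) _ (mem_cj.1 hb)
  refine mul_left_cancel (a := g⁻¹) (mul_right_cancel (b := g) ?_)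
  simpa [mul_assoc] using this

theorem Cx.th_pow (h : Cx p q P E x F) {g a : G} (ha : a ∈ cj g E) : a ^ p = 1 := by
  have := (h.om _ (h.le (mem_cj.1 ha))).2 (mem_cj.1 ha)
  rwa [show g⁻¹ * a * g = g⁻¹ * a * g⁻¹⁻¹ by rw [inv_inv], conj_pow, conj_eq_one_iff] at this

theorem Cx.th_orb (h : Cx p q P E x F) {d y : G} (hd : d ∈ E) (hy : y ∈ E) {c : Ω}
    (hc : d • c ≠ c) : ∃ m : ℕ, y • c = d ^ m • c := by
  have := Fact.mk h.hp
  have hF : c ∉ F := fun e => hc ((h.memF c).1 e d hd)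
  obtain ⟨k, hk⟩ := h.orbE c hF d hd
  obtain ⟨l, hl⟩ := h.orbE c hF y hy
  have hz : (x ^ p) ^ p = 1 := (h.om _ (h.le h.zE)).2 h.zE
  have h1 : ∀ m : ℕ, d ^ m • c = (x ^ p) ^ (k * m) • c := fun m => by
    induction m with
    | zero => simp
    | succ m ih =>
      rw [pow_succ, mul_smul, hk, ← mul_smul, h.comm _ (pow_mem hd m) _ (pow_mem h.zE k), mul_smul,
        ih, ← mul_smul, ← pow_add, mul_add, mul_one, add_comm]
  have h2 : (k : ZMod p) ≠ 0 := fun e => by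
    obtain ⟨j, rfl⟩ := (ZMod.natCast_eq_zero_iff k p).1 e
    rw [pow_mul, hz, one_pow, one_smul] at hk
    exact hc hk
  refine ⟨((l : ZMod p) / k).val, ?_⟩
  rw [h1, hl, pow_eq_pow_of_modEq (n := p) ?_ hz]
  rw [← ZMod.natCast_eq_natCast_iff]
  push_cast
  rw [ZMod.natCast_zmod_val, mul_div_cancel₀ _ h2]

theorem Cx.th_orb' (h : Cx p q P E x F) {g d y : G} (hd : d ∈ cj g E) (hy : y ∈ cj g E) {c : Ω}
    (hc : d • c ≠ c) : ∃ m : ℕ, y • c = d ^ m • c := by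
  obtain ⟨m, hm⟩ := h.th_orb (mem_cj.1 hd) (mem_cj.1 hy) (c := g⁻¹ • c) (by simpa [mul_smul] using hc)
  refine ⟨m, ?_⟩
  rw [show g⁻¹ * d * g = g⁻¹ * d * g⁻¹⁻¹ by rw [inv_inv], conj_pow] at hm
  simpa [mul_smul] using hm

theorem th_card (hp : p.Prime) {y : G} (hy : y ^ p = 1) {c : Ω} (hc : y • c ≠ c) :
    ((range p).image fun i => y ^ i • c).card = p := by
  have := Fact.mk hp
  have h1 : MulAction.period y c = p := ((Nat.dvd_prime hp).1
    (MulAction.pow_smul_eq_iff_period_dvd.1 (by rw [hy, one_smul]))).resolve_left fun e => hc (by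
      simpa [e] using MulAction.pow_period_smul y c)
  have key : ∀ i j, i ≤ j → j < p → y ^ i • c = y ^ j • c → i = j := fun i j hij hj e => by
    obtain ⟨k, rfl⟩ := Nat.exists_eq_add_of_le hij
    rw [pow_add, mul_smul, smul_left_cancel_iff, eq_comm, MulAction.pow_smul_eq_iff_period_dvd,
      h1] at e
    have := Nat.eq_zero_of_dvd_of_lt e (by omega)
    omega
  rw [card_image_of_injOn fun i hi j hj e => (le_total i j).elim
    (fun l => key i j l (mem_range.1 hj) e) fun l => (key j i l (mem_range.1 hi) e.symm).symm,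
    card_range]

theorem Cx.theta (h : Cx p q P E x F) (hE : E ≠ Subgroup.zpowers (x ^ p)) :
    ∃ (V : Subgroup G) (T : Finset Ω), V ≤ Subgroup.normalClosure (E : Set G) ∧ 2 ≤ T.card ∧
      2 * T.card < Fintype.card Ω ∧ (∀ v ∈ V, ∀ a, a ∉ T → v • a = a) ∧
      ∀ a ∈ T, ∀ b ∈ T, ∃ v ∈ V, v • a = b := by
  classical
  have hp := h.hp
  have := Fact.mk hp
  obtain ⟨f5, fq, f2⟩ := h.five
  have hz : (x ^ p) ^ p = 1 := (h.om _ (h.le h.zE)).2 h.zE
  obtain ⟨a, ha⟩ : ∃ a, a ∉ F := by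
    by_contra hn
    have h1 : F = univ := eq_univ_of_forall fun a => by_contra fun e => hn ⟨a, e⟩
    have h2 := h.cardF
    rw [h1, card_univ] at h2
    have := pow_pos hp.pos 2
    omega
  have hxF : ∀ (i : ℕ) c, x ^ i • c ∈ F ↔ c ∈ F := fun i =>
    h.invF (h.nrm _ (pow_mem h.xP i))
  let D : Subgroup G := E ⊓ MulAction.stabilizer G a
  obtain ⟨d0, hd0, hd1⟩ : ∃ d ∈ D, d ≠ 1 := by
    obtain ⟨e, he, hn⟩ := SetLike.exists_of_lt
      (lt_of_le_of_ne (Subgroup.zpowers_le.2 h.zE) hE.symm)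
    obtain ⟨k, hk⟩ := h.orbE a ha e he
    refine ⟨((x ^ p) ^ k)⁻¹ * e, ⟨E.mul_mem (E.inv_mem (E.pow_mem h.zE k)) he, ?_⟩, fun e1 => hn ?_⟩
    · exact show _ • a = a by rw [mul_smul, hk, inv_smul_smul]
    · rw [← inv_mul_eq_one.1 e1]; exact pow_mem (Subgroup.mem_zpowers _) k
  let X : Finset Ω := univ.filter fun c => ∀ d ∈ D, d • c = c
  have mX : ∀ c, c ∈ X ↔ ∀ d ∈ D, d • c = c := fun c => by simp only [X, mem_filter, mem_univ, true_and]
  have cX : X.card = F.card + p := by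
    have h1 : X \ F = (range p).image fun i => (x ^ p) ^ i • a := by
      ext c
      simp only [mem_sdiff, mem_image, mem_range, mX]
      constructor
      · rintro ⟨h1, h2⟩
        obtain ⟨j, rfl⟩ := h.trL ha h2
        by_cases hj : p ∣ j
        · obtain ⟨i, rfl⟩ := hj
          exact ⟨i % p, Nat.mod_lt _ hp.pos, by
            rw [pow_mul, pow_eq_pow_of_modEq (Nat.mod_modEq i p) hz]⟩
        refine absurd (eq_of_smul_eq_smul (α := Ω) fun c => ?_) hd1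
        rw [one_smul]
        by_cases hc : c ∈ F
        · exact (h.memF c).1 hc d0 hd0.1
        have h3 : ∀ m : ℕ, ∀ d ∈ D, d • x ^ (j * m) • a = x ^ (j * m) • a := fun m => by
          induction m with
          | zero => intro d hd; simpa using hd.2
          | succ m ih =>
            intro d hd
            have h4 := h1 ((x ^ (j * m))⁻¹ * d * (x ^ (j * m))⁻¹⁻¹)
              ⟨h.nrm _ (inv_mem (pow_mem h.xP _)) d hd.1, show _ • a = a by
                rw [inv_inv, mul_smul, mul_smul, ih d hd, inv_smul_smul]⟩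
            rw [inv_inv, mul_smul, mul_smul, inv_smul_eq_iff] at h4
            rw [mul_add, mul_one, pow_add, mul_smul, h4]
        obtain ⟨l, rfl⟩ := h.trL ha hc
        obtain ⟨m, hm⟩ := Nat.exists_mul_mod_eq_of_coprime (k := p ^ 2) l
          ((hp.coprime_iff_not_dvd.2 hj).symm.pow_right 2) (pow_pos hp.pos 2).ne'
        have h4 := h3 m d0 hd0
        rwa [pow_eq_pow_of_modEq (n := p ^ 2) (x := x) hm.2 (h.ord ▸ pow_orderOf_eq_one x)] at h4
      · rintro ⟨i, -, rfl⟩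
        refine ⟨fun d hd => ?_, by rwa [← pow_mul, hxF]⟩
        rw [← mul_smul, h.comm _ hd.1 _ (pow_mem h.zE i), mul_smul, show d • a = a from hd.2]
    have h2 : F ⊆ X := fun c hc => (mX c).2 fun d hd => (h.memF c).1 hc d hd.1
    rw [← card_sdiff_add_card_eq_card h2, h1, th_card hp hz (h.zmv a ha), add_comm]
  let S : Set G := {y | ∃ g, D ≤ cj g E ∧ y ∈ cj g E}
  let J := Subgroup.closure S
  have c1 : cj 1 E = E := Subgroup.ext fun y => by simp [mem_cj]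
  have hES : ∀ e ∈ E, e ∈ S := fun e he => ⟨1, c1.symm ▸ inf_le_left, c1.symm ▸ he⟩
  have hJD : ∀ j ∈ J, ∀ d ∈ D, d * j = j * d := fun j hj =>
    (Subgroup.closure_le (Subgroup.centralizer (D : Set G))).2
      (by rintro y ⟨g, h1, h2⟩ d hd; exact h.th_comm (h1 hd) h2) hj
  have hJX : ∀ j ∈ J, ∀ c, j • c ∈ X ↔ c ∈ X := fun j hj c => by
    simp only [mX]
    exact forall₂_congr fun d hd => by rw [← mul_smul, hJD j hj d hd, mul_smul, smul_left_cancel_iff]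
  let O : G → Finset Ω := fun g => X.filter fun c => g⁻¹ • c ∉ F
  have mO : ∀ g c, c ∈ O g ↔ c ∈ X ∧ ∃ y ∈ cj g E, y • c ≠ c := fun g c => by
    simp only [O, mem_filter, ← h.fix_cj, not_forall, exists_prop]
  have cO : ∀ g, D ≤ cj g E → (O g).card = p := fun g hg => by
    have h1 := card_filter_add_card_filter_not (s := X) fun c => g⁻¹ • c ∈ F
    have h2 : (X.filter fun c => g⁻¹ • c ∈ F) = F.image (g • ·) := by
      ext c
      simp only [mem_filter, mem_image]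
      exact ⟨fun e => ⟨_, e.2, smul_inv_smul _ _⟩, fun ⟨b, hb, e⟩ => by
        have h3 : g⁻¹ • c ∈ F := by rwa [← e, inv_smul_smul]
        exact ⟨(mX c).2 fun d hd => (h.fix_cj g c).2 h3 d (hg hd), h3⟩⟩
    rw [h2, card_image_of_injective _ (MulAction.injective g), cX] at h1
    exact Nat.add_left_cancel h1
  have iO : ∀ g, D ≤ cj g E → ∀ y ∈ cj g E, ∀ c ∈ O g, y • c ∈ O g := fun g hg y hy c hc => by
    obtain ⟨h1, y', h2, h3⟩ := (mO g c).1 hc
    refine (mO g _).2 ⟨(hJX y (Subgroup.subset_closure ⟨g, hg, hy⟩) c).2 h1, y', h2, ?_⟩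
    rwa [← mul_smul, h.th_comm h2 hy, mul_smul, Ne, smul_left_cancel_iff]
  have tO : ∀ g, D ≤ cj g E → ∀ c ∈ O g, ∀ c' ∈ O g, ∃ y ∈ cj g E, y • c = c' :=
    fun g hg c hc c' hc' => by
      obtain ⟨-, y, h2, h3⟩ := (mO g c).1 hc
      have h4 := eq_of_subset_of_card_le (s := (range p).image fun i => y ^ i • c) (t := O g)
        (fun b hb => by
          obtain ⟨i, -, rfl⟩ := mem_image.1 hb
          exact iO g hg _ (pow_mem h2 i) c hc) (by rw [cO g hg, th_card hp (h.th_pow h2) h3])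
      obtain ⟨i, -, e⟩ := mem_image.1 (h4 ▸ hc')
      exact ⟨_, pow_mem h2 i, e⟩
  have nO : ∀ g k, D ≤ cj g E → D ≤ cj k E → ∃ c ∈ O g, c ∈ O k := fun g k hg hk => by
    by_contra hn
    have h1 : ∀ y ∈ cj g E, ∀ c ∈ O k, y • c = c := fun y hy c hc => by_contra fun e =>
      hn ⟨c, (mO g c).2 ⟨((mO k c).1 hc).1, y, hy, e⟩, hc⟩
    let W : Subgroup G :=
      { carrier := {w | ∀ c, w • c ∈ O k ↔ c ∈ O k}
        one_mem' := fun c => by rw [one_smul]
        mul_mem' := fun {u v} hu hv c => by rw [mul_smul, hu, hv]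
        inv_mem' := fun {u} hu c => by rw [← hu, smul_inv_smul] }
    obtain ⟨w, hw, S', s1, s2, s3⟩ := th_conj hp (W := W) (h.th_pg g) (h.th_pg k)
      (fun y hy c => ⟨fun e => by
        have := h1 _ (inv_mem hy) _ e
        rw [inv_smul_smul] at this
        rwa [this], fun e => by rwa [h1 y hy c e]⟩)
      fun y hy c => ⟨fun e => by simpa using iO k hk _ (inv_mem hy) _ e, iO k hk y hy c⟩
    have h2 := h.wc s1 s2 (k := w * k) fun y hy => by
      have := s3 (w⁻¹ * y * w) (mem_cj.2 (by simpa [mul_assoc] using mem_cj.1 hy))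
      simpa [mul_assoc] using this
    obtain ⟨c, hc⟩ := card_pos.1 (cO k hk ▸ hp.pos : 0 < (O k).card)
    obtain ⟨-, y, h3, h4⟩ := (mO k c).1 hc
    have h5 := h1 (w * y * w⁻¹) (h2 ▸ mem_cj.2 (by simpa [mul_assoc] using mem_cj.1 h3)) (w • c)
      ((hw c).2 hc)
    exact h4 (by simpa [mul_smul] using h5)
  let T : Finset Ω := X.filter fun c => ∃ y ∈ S, y • c ≠ c
  have mT : ∀ c, c ∈ T ↔ ∃ g, D ≤ cj g E ∧ c ∈ O g := fun c => by
    simp only [T, mem_filter, mO]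
    exact ⟨fun ⟨h1, y, ⟨g, h2, h3⟩, h4⟩ => ⟨g, h2, h1, y, h3, h4⟩,
      fun ⟨g, h2, h1, y, h3, h4⟩ => ⟨h1, y, ⟨g, h2, h3⟩, h4⟩⟩
  have fT : ∀ j ∈ J, ∀ c ∈ X, c ∉ T → j • c = c := fun j hj c hc hn =>
    (Subgroup.closure_le (MulAction.stabilizer G c)).2
      (fun y hy => by_contra fun e => hn (mem_filter.2 ⟨hc, y, hy, e⟩)) hj
  have iT : ∀ j ∈ J, ∀ c ∈ T, j • c ∈ T := fun j hj c hc => by_contra fun e => by
    have := fT _ (inv_mem hj) _ ((hJX j hj c).2 (mem_filter.1 hc).1) e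
    rw [inv_smul_smul] at this
    exact e (this ▸ hc)
  have tT : ∀ c ∈ T, ∀ c' ∈ T, ∃ j ∈ J, j • c = c' := fun c hc c' hc' => by
    obtain ⟨g, hg, h1⟩ := (mT c).1 hc
    obtain ⟨k, hk, h2⟩ := (mT c').1 hc'
    obtain ⟨b, h3, h4⟩ := nO g k hg hk
    obtain ⟨y, hy, rfl⟩ := tO g hg c h1 b h3
    obtain ⟨y', hy', rfl⟩ := tO k hk _ h4 c' h2
    exact ⟨y' * y, mul_mem (Subgroup.subset_closure ⟨k, hk, hy'⟩)
      (Subgroup.subset_closure ⟨g, hg, hy⟩), mul_smul _ _ _⟩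
  have oX : ∀ c, c ∉ X → ∀ j ∈ J, ∃ d ∈ D, j • c = d • c := fun c hc j hj => by
    induction hj using Subgroup.closure_induction'' with
    | one => exact ⟨1, one_mem _, rfl⟩
    | mem y hy =>
      obtain ⟨g, h1, h2⟩ := hy
      obtain ⟨d, hd, h3⟩ : ∃ d ∈ D, d • c ≠ c := by simpa only [mX, not_forall, exists_prop] using hc
      obtain ⟨m, hm⟩ := h.th_orb' (h1 hd) h2 h3
      exact ⟨_, pow_mem hd m, hm⟩
    | inv_mem y hy =>
      obtain ⟨g, h1, h2⟩ := hy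
      obtain ⟨d, hd, h3⟩ : ∃ d ∈ D, d • c ≠ c := by simpa only [mX, not_forall, exists_prop] using hc
      obtain ⟨m, hm⟩ := h.th_orb' (h1 hd) (inv_mem h2) h3
      exact ⟨_, pow_mem hd m, hm⟩
    | mul u v hu hv h1 h2 =>
      obtain ⟨d, hd, e⟩ := h1
      obtain ⟨d', hd', e'⟩ := h2
      exact ⟨d' * d, mul_mem hd' hd, by
        rw [mul_smul, e', ← mul_smul, ← hJD u hu d' hd', mul_smul, e, mul_smul]⟩
  let V : Subgroup G := J ⊓ ⨅ c ∈ Xᶜ, MulAction.stabilizer G c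
  have mV : ∀ v, v ∈ V ↔ v ∈ J ∧ ∀ c, c ∉ X → v • c = c := fun v => by
    simp [V, Subgroup.mem_iInf]
  have aT : a ∈ T := mem_filter.2 ⟨(mX a).2 fun d hd => hd.2, _, hES _ h.zE, h.zmv a ha⟩
  refine ⟨V, T, fun v hv => (Subgroup.closure_le _).2 ?_ hv.1,
    one_lt_card.2 ⟨_, aT, _, iT _ (Subgroup.subset_closure (hES _ h.zE)) a aT, (h.zmv a ha).symm⟩,
    ?_, fun v hv c hc => ?_, trn hp S T (fun y hy => ?_) tT V (fun y hy v hv => ?_)
      (fun v hv => iT v hv.1) ?_⟩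
  · rintro y ⟨g, -, hy⟩
    simpa [mul_assoc] using (Subgroup.normalClosure_normal (s := (E : Set G))).conj_mem _
      (Subgroup.subset_normalClosure (mem_cj.1 hy)) g
  · have h1 : T.card ≤ X.card := card_filter_le _ _
    rw [cX, h.cF] at h1
    have h2 : (2 * q - p) * p + p ≤ (q - 1) * p := by
      rw [← add_one_mul]; exact Nat.mul_le_mul_right _ (by omega)
    have h3 : (q - 1) * p < q * p := Nat.mul_lt_mul_of_pos_right (by omega) hp.pos
    rw [h.card, mul_assoc, mul_comm p]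
    omega
  · by_cases h1 : c ∈ X
    · exact fT v hv.1 c h1 hc
    · exact ((mV v).1 hv).2 c h1
  · obtain ⟨g, h1, h2⟩ := id hy
    refine ⟨h.th_pow h2, iT y (Subgroup.subset_closure hy), lt_of_le_of_lt (card_le_card
      (t := O g) fun c hc => (mO g c).2 ⟨(mem_filter.1 (mem_filter.1 hc).1).1, y, h2,
        (mem_filter.1 hc).2⟩) (by rw [cO g h1]; omega)⟩
  · have hy' : y ∈ J := Subgroup.subset_closure hy
    refine (mV _).2 ⟨mul_mem (mul_mem hy' hv.1) (inv_mem hy'), fun c hc => ?_⟩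
    rw [mul_smul, mul_smul, ((mV v).1 hv).2 _ (mt (hJX _ (inv_mem hy') c).1 hc), smul_inv_smul]
  · obtain ⟨g, h1, h2⟩ := h.syl (D := D) (P.isPGroup'.to_le (inf_le_left.trans h.le)) (a := a)
      fun d hd => hd.2
    obtain ⟨c, hc⟩ := card_pos.1 (cO g h1 ▸ hp.pos : 0 < (O g).card)
    obtain ⟨-, y, h3, h4⟩ := (mO g c).1 hc
    have hy : y ∈ J := Subgroup.subset_closure ⟨g, h1, h3⟩
    obtain ⟨j, hj, rfl⟩ := tT a aT c ((mT c).2 ⟨g, h1, hc⟩)
    refine ⟨(j * y)⁻¹ * (y * j), (mV _).2 ⟨mul_mem (inv_mem (mul_mem hj hy)) (mul_mem hy hj),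
      fun c hc => ?_⟩, a, aT, fun e => h4 ?_⟩
    · obtain ⟨d, hd, e⟩ := oX c hc j hj
      obtain ⟨d', hd', e'⟩ := oX c hc y hy
      rw [mul_smul, inv_smul_eq_iff, mul_smul, mul_smul, e, e', ← mul_smul, ← mul_smul,
        ← hJD y hy d hd, ← hJD j hj d' hd', mul_smul, mul_smul, e, e', ← mul_smul, ← mul_smul,
        h.comm _ hd.1 _ hd'.1]
    · rwa [mul_smul, inv_smul_eq_iff, mul_smul, mul_smul, h2 y h3] at e

end Cfsg.Agent.H1.El
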