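import Mathlib
import Cfsg.Agent.H8.C12V2La
import Cfsg.Agent.L0.C12TI

/-!
# The case `C(t) ≅ 2 × L₂(7)`: the local analysis
-/

set_option autoImplicit false

namespace Cfsg.Agent.L0.C12

open Subgroup Cfsg.Agent.L0.SC3 Cfsg.Agent.H9 Cfsg.Agent.H1.T3 W16
open scoped commutatorElement Pointwise

universe u

theorem v2l_dvd {G : Type*} [Group G] [Finite G] {A P : Subgroup G} (hP : IsPGroup 2 P)
    (h : A ≤ P) (hn : ¬ P ≤ A) : 2 * Nat.card A ∣ Nat.card P := by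
  obtain ⟨k, hk⟩ := hP.exists_card_eq
  have h1 := card_mul_relIndex_of_le h
  obtain ⟨i, -, hi⟩ := (Nat.dvd_prime_pow Nat.prime_two).1 (hk ▸ Dvd.intro_left _ h1)
  rw [← h1, mul_comm 2, hi]
  refine Nat.mul_dvd_mul_left _ (dvd_pow_self 2 ?_)
  rintro rfl
  exact hn (relIndex_eq_one.1 hi)

/-- The configuration `C(t) ≅ 2 × L₂(7)` with a subgroup `2 × S₄`. -/
structure V2L {G : Type u} [Group G] (x s t a v : G) : Prop extends C2 x s t where
  r : R16 t a (s * t) v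
  xa : x * a * x⁻¹ = v
  xv : x * v * x⁻¹ = a * v
  hH : Nat.card (centralizer ({t} : Set G)) = 336
  n7 : ∀ θ, orderOf θ = 7 → Commute t θ →
    Nat.card (centralizer {t} ⊓ normalizer (zpowers θ : Set G) : Subgroup G) = 42

namespace V2L

variable {G : Type u} [Group G] [Finite G] {x s t a v : G} (c : V2L x s t a v)
include c

omit [Finite G] in
theorem syl : IsSylowIn 2 c.r.T (centralizer {t}) := by
  have h1 : c.r.T ≤ centralizer {t} := fun g hg => SC3.mem_cent.2 (c.r.comm_t hg).symm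
  refine ⟨h1, c.r.isPGroup, ?_⟩
  have := card_mul_relIndex_of_le h1
  rw [c.r.card_T, c.hH] at this
  omega

omit [Finite G] in
theorem cent_S {S : Subgroup G} (hS : IsPGroup 2 S) (hT : c.r.T ≤ S) {g : G} (hg : g ∈ S)
    (h : Commute g t) : g ∈ c.r.T :=
  (c.syl.eq_of_le (hS.to_le (inf_le_left : S ⊓ centralizer {t} ≤ S)) inf_le_right
    (le_inf hT c.syl.le)).le ⟨hg, SC3.mem_cent.2 h⟩

theorem not_syl : ¬ IsSylowIn 2 c.r.T ⊤ := fun hS => by
  have r := c.r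
  let P : Sylow 2 G := hS.isPGroup.toSylow (by simpa using hS.not_dvd)
  have key : ∀ u w : G, (∀ g ∈ c.r.T, Commute u g) → (∀ g ∈ c.r.T, Commute w g) → IsConj u w →
      ∃ n, (∀ g ∈ c.r.T, n * g * n⁻¹ ∈ c.r.T) ∧ n * u * n⁻¹ = w := fun u w hu hw h => by
    obtain ⟨g, rfl⟩ := isConj_iff.1 h
    obtain ⟨n, hn, e⟩ := P.conj_eq_normalizer_conj_of_mem_centralizer u g⁻¹
      (fun y hy => (hu y hy).eq.symm) (fun y hy => by simpa using (hw y hy).eq.symm)
    exact ⟨n⁻¹, fun y hy => C12.conj_mem_of_mem_normalizer (inv_mem hn) hy, by simpa using e.symm⟩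
  have ct := fun g hg => r.comm_t (g := g) hg
  have cv := fun g hg => r.comm_v (g := g) hg
  have ctv := fun g hg => (ct g hg).mul_left (cv g hg)
  have k1 : ¬ IsConj v t := fun h => by
    obtain ⟨n, hn, e⟩ := key _ _ cv ct h
    exact r.tv (by rw [← e, r.conj_v hn])
  have k2 : ¬ IsConj v (t * v) := fun h => by
    obtain ⟨n, hn, e⟩ := key _ _ cv ctv h
    exact r.t1 (by simpa [r.conj_v hn] using e.symm)
  have k3 : ¬ IsConj t (t * v) := fun h => by
    obtain ⟨n, hn, e⟩ := key _ _ ct ctv h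
    obtain ⟨k, m, ⟨j, rfl⟩, ho⟩ := Nat.exists_eq_two_pow_mul_odd (orderOf_pos n).ne'
    have h1 : El2 (n ^ (2 * j + 1)) := ⟨k, by rw [← pow_mul, mul_comm, ← ho, pow_orderOf_eq_one]⟩
    have h2 := hS.eq_of_le (IsPGroup.to_sup_of_normal_left' hS.isPGroup h1.isPGroup
      (zpowers_le_of_mem (pow_mem (mem_normalizer_of_conj hn) _))) le_top le_sup_left
    have h3 := ct _ (h2.le (mem_sup_right (mem_zpowers _)))
    have h4 : Commute t (n ^ 2) := (conj_eq_iff.1 (by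
      rw [show n ^ 2 * t * (n ^ 2)⁻¹ = n * (n * t * n⁻¹) * n⁻¹ by rw [sq]; group, e, ← conj_mul, e,
        r.conj_v hn, mul_assoc, r.vv, mul_one])).symm
    rw [pow_succ, pow_mul] at h3
    have h5 := (h4.pow_right j).inv_right.mul_right h3
    rw [inv_mul_cancel_left] at h5
    rw [← h5.eq, mul_inv_cancel_right] at e
    exact r.v1 (by simpa using e)
  have tv2 : t * v * (t * v) = 1 := by
    rw [← sq, r.ctv.mul_pow, sq, sq, r.tt, r.vv, one_mul]
  have tv1 : t * v ≠ 1 := fun e => r.tv (by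
    rw [eq_inv_of_mul_eq_one_left e, inv_eq_of_mul_eq_one_right r.vv])
  exact k2 (((c.cls v r.vv r.v1).resolve_left k1).trans
    ((c.cls _ tv2 tv1).resolve_left fun e => k3 e.symm).symm)

omit [Finite G] in
theorem xt : Commute x t := c.cx (mem_zpowers t)

omit [Finite G] in
theorem bx : s * t * x * (s * t)⁻¹ = x⁻¹ := (c.shift (mem_zpowers t)).sx

omit [Finite G] in
theorem not_conj {u : G} (h : 32 ∣ Nat.card (centralizer ({u} : Set G))) : ¬ IsConj t u :=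
  fun e => by rw [← card_cent_conj e, c.hH] at h; omega

theorem exists_n : ∃ (_ : C16 t a (s * t) v) (n : G), n * t * n⁻¹ = t * v ∧ Commute n a ∧
    Commute n v := by
  have r := c.r
  obtain ⟨S, hS, hT⟩ := exists_isSylowIn_ge le_top r.isPGroup
  obtain ⟨n, hn, nT, hN⟩ := exists_mem_normalizer hS.isPGroup hT fun e =>
    c.not_syl (le_antisymm e hT ▸ hS)
  have hN' := fun g hg => C12.conj_mem_of_mem_normalizer (b := g) hN hg
  have hC := fun g => c.cent_S (g := g) hS.isPGroup hT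
  have h1 := (r.conj_t hN').resolve_left fun e => nT (hC n hn (conj_eq_iff.1 e))
  have h2 := r.conj_v hN'
  have nv : ¬ IsConj t v := c.not_conj (by
    have := v2l_dvd (hS.isPGroup.to_le (inf_le_left (b := centralizer {v})))
      (le_inf hT fun g hg => SC3.mem_cent.2 (r.comm_v hg).symm) fun e =>
        nT (e ⟨hn, SC3.mem_cent.2 (conj_eq_iff.1 h2)⟩)
    rw [r.card_T] at this
    exact this.trans (card_dvd_of_le inf_le_right))
  have cv : IsConj t (t * v) := h1 ▸ isConj_mk n t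
  have h : C16 t a (s * t) v := ⟨r, nv, fun e => nv (e.trans (c.xa ▸ isConj_mk x a)),
    fun e => nv ((c.cls v r.vv r.v1).elim (·.symm) fun e' => e.trans e'.symm), cv,
    cv.trans (IsConj.symm (by
      have := isConj_mk x (t * a)
      rwa [← conj_mul, c.xa, c.xt.eq, mul_inv_cancel_right] at this)), by
      rw [← mul_assoc, ← (c.sV t (mem_zpowers t)).eq, mul_assoc, r.tt, mul_one]; exact c.ts⟩
  have := c.simple
  have h3 : n * a * n⁻¹ ∈ r.E := by
    by_contra e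
    exact h.d32 (comm_top_of_simple c.nab) hS hT hC hn nT hN' e
  obtain ⟨p, p1, hp⟩ := h3
  have p2 : p * p = 1 := r.inj (by rw [map_mul, hp, conj_mul, r.aa]; simp)
  have p3 : ¬ p.i = true := fun e => h.na ((h.isConj_of e p2).trans (hp ▸ (isConj_mk n a).symm))
  refine ⟨h, ?_⟩
  rcases (by decide : ∀ p : W16, p.k = false → ¬ p.i = true → p = 1 ∨ p = wv ∨ p = wa ∨
    p = wa * wv) p p1 p3 with rfl | rfl | rfl | rfl
  · exact absurd (r.inj (by simpa [r.φa] using hp.symm)) (by decide : wa ≠ 1)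
  · rw [r.φv, ← h2] at hp
    exact absurd (r.inj (by simpa [r.φa, r.φv] using hp)) (by decide : wv ≠ wa)
  · exact ⟨n, h1, conj_eq_iff.1 (by rw [← hp, r.φa]), conj_eq_iff.1 h2⟩
  · refine ⟨n * (s * t), ?_, conj_eq_iff.1 ?_, Commute.mul_left (conj_eq_iff.1 h2) r.vb.symm⟩
    · rw [mul_assoc n, ← r.tb.eq, ← h1]; group
    · rw [mul_assoc n, r.ba, mul_assoc a, ← r.vb.eq, show n * (a * (v * (s * t))) * (n * (s * t))⁻¹ =
        n * a * n⁻¹ * (n * v * n⁻¹) by group, ← hp, h2, map_mul, r.φa, r.φv, mul_assoc, r.vv,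
        mul_one]

theorem nst : ¬ IsConj t (s * t) := let ⟨h, _⟩ := c.exists_n; h.nb

theorem cent_v {g : G} (h1 : Commute g t) (h2 : Commute g v) : g ∈ c.r.T := by
  obtain ⟨h, -⟩ := c.exists_n
  have r := c.r
  have hT : r.T ≤ centralizer {t} ⊓ centralizer {v} :=
    le_inf c.syl.le fun g hg => SC3.mem_cent.2 (r.comm_v hg).symm
  have d1 := card_dvd_of_le hT
  have d2 := card_dvd_of_le (inf_le_left : centralizer {t} ⊓ centralizer {v} ≤ _)
  have d3 : ¬ 3 ∣ Nat.card (centralizer {t} ⊓ centralizer {v} : Subgroup G) :=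
    not_dvd_card_iff.2 fun y hy h3 => by_contra fun y1 => by
      obtain ⟨w, hw, e⟩ := c.isConj_of_commute r.vv y1 h3 (SC3.mem_cent.1 hy.2)
      rcases (mem_zpowers_two r.tt).1 hw with rfl | rfl
      exacts [r.v1 (by simpa using e), h.nv e.symm]
  have d4 : ¬ 7 ∣ Nat.card (centralizer {t} ⊓ centralizer {v} : Subgroup G) := fun e => by
    have : Fact (Nat.Prime 7) := ⟨by norm_num⟩
    obtain ⟨θ, hθ, ho⟩ := exists_mem_orderOf_eq_prime e
    have k : ∀ u, Commute θ u → u ∈ normalizer (zpowers θ : Set G) := fun u hu =>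
      centralizer_le_normalizer _ (by
        rw [zpowers_eq_closure, centralizer_closure]; exact SC3.mem_cent.2 hu.symm)
    have e1 := card_sup_invol (K := zpowers t) r.vv (fun k hk => by
      rcases (mem_zpowers_two r.tt).1 hk with rfl | rfl
      · simp
      · rw [← r.ctv.eq]; simp) fun e => ((mem_zpowers_two r.tt).1 e).elim r.v1 r.tv.symm
    have e2 := card_dvd_of_le (sup_le (zpowers_le_of_mem ⟨SC3.mem_cent.2 (Commute.refl t),
      k t (SC3.mem_cent.1 hθ.1)⟩) (zpowers_le_of_mem ⟨SC3.mem_cent.2 r.ctv.symm,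
      k v (SC3.mem_cent.1 hθ.2)⟩) : _ ≤ centralizer {t} ⊓ normalizer (zpowers θ : Set G))
    rw [e1, c.n7 θ ho (SC3.mem_cent.1 hθ.1).symm, Nat.card_zpowers, orderOf_two r.tt r.t1] at e2
    omega
  rw [r.card_T] at d1
  rw [c.hH] at d2
  rw [eq_of_le_of_card_ge hT (by
    rw [r.card_T]
    obtain ⟨j, hj⟩ := d1
    rw [hj] at d2 d3 d4 ⊢
    have h1 : j ∣ 21 := Nat.dvd_of_mul_dvd_mul_left (by norm_num : 0 < 16) d2
    have := Nat.le_of_dvd (by norm_num) h1
    interval_cases j <;> omega)]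
  exact ⟨SC3.mem_cent.2 h1, SC3.mem_cent.2 h2⟩

theorem nt {u w : G} (hu : IsConj t u) (hw : IsConj t w) (h : Commute u w) :
    ¬ IsConj t (u * w) := fun e => by
  obtain ⟨k, -⟩ := c.exists_n
  obtain ⟨g, rfl⟩ := isConj_iff.1 hu
  obtain ⟨l, hl, p, hp⟩ := exists_conj_mem_sylow c.syl ((El2.of_sq (k.sq_of_isConj hw)).conj g⁻¹)
    (SC3.mem_cent.2 (by simpa using (T3.commute_conj h).symm))
  have h1 := (k.i_eq (p := p) (hp ▸ (hw.trans (isConj_mk _ _)).trans (isConj_mk _ _))).1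
  have h2 := (k.i_eq (p := wt * p) (by
    rw [map_mul, c.r.φt, hp, show t * (l * (g⁻¹ * w * g⁻¹⁻¹) * l⁻¹) =
      l * g⁻¹ * (g * t * g⁻¹ * w) * (l * g⁻¹)⁻¹ by
        rw [← mul_assoc, ← mul_assoc, ← (SC3.mem_cent.1 hl).eq]; group]
    exact e.trans (isConj_mk _ _))).1
  exact (by decide : ∀ p : W16, p.i = true → ¬ (wt * p).i = true) p h1 h2

omit [Finite G] in
theorem commF {u : G} (h1 : Commute u a) (h2 : Commute u v) : ∀ f ∈ c.r.F, Commute u f :=
  fun f hf => by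
    rcases c.r.mem_F_iff.1 hf with rfl | rfl | rfl | rfl
    exacts [Commute.one_right u, h2, h1, h1.mul_right h2]

omit [Finite G] in
theorem sqF {f : G} (hf : f ∈ c.r.F) : f * f = 1 := by
  obtain ⟨p, hp, rfl⟩ := hf
  rw [← map_mul, (by decide : ∀ p : W16, p.k = false → p * p = 1) p hp.2, map_one]

omit [Finite G] in
theorem xF {f : G} (hf : f ∈ c.r.F) : x * f * x⁻¹ ∈ c.r.F := by
  rw [c.r.mem_F_iff] at hf ⊢
  rcases hf with rfl | rfl | rfl | rfl
  · simp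
  · simp [c.xv]
  · simp [c.xa]
  · rw [← conj_mul, c.xa, c.xv, ← mul_assoc, c.r.va.eq, mul_assoc, c.r.vv]; simp

omit [Finite G] in
theorem TF {g f : G} (hg : g ∈ c.r.T) (hf : f ∈ c.r.F) : g * f * g⁻¹ ∈ c.r.F := by
  obtain ⟨q, rfl⟩ := hg
  obtain ⟨p, hp, rfl⟩ := hf
  rw [← map_inv, ← map_mul, ← map_mul, c.r.memF]
  exact (by decide : ∀ p q : W16, p.i = false ∧ p.k = false →
    (q * p * q⁻¹).i = false ∧ (q * p * q⁻¹).k = false) p q hp

omit [Finite G] in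
theorem tF : t ∉ c.r.F := fun e => by
  have := c.r.memF.1 (c.r.φt.symm ▸ e : c.r.φ wt ∈ c.r.F)
  exact absurd this.1 (by decide)

omit [Finite G] in
theorem normF {f : G} (hf : f ∈ c.r.F) : f * (x * f * x⁻¹) * (x⁻¹ * f * x) = 1 := by
  have e1 : x⁻¹ * v * x = a := by rw [← c.xa]; group
  have e2 : x⁻¹ * (a * v) * x = v := by rw [← c.xv]; group
  have e3 : x⁻¹ * a * x = a * v := by
    rw [← c.xv, ← c.xa, show x * (x * a * x⁻¹) * x⁻¹ = x * x * a * (x * x)⁻¹ by group,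
      c.t3.mul_self, inv_inv]
  have e4 : x * (a * v) * x⁻¹ = a := by rw [← e3]; group
  rcases c.r.mem_F_iff.1 hf with rfl | rfl | rfl | rfl
  · simp
  · rw [c.xv, e1, ← mul_assoc, c.r.va.eq, mul_assoc a, c.r.vv, mul_one, c.r.aa]
  · rw [c.xa, e3, mul_assoc, ← mul_assoc v, c.r.va.eq, mul_assoc, c.r.vv, mul_one, c.r.aa]
  · rw [e4, e2, mul_assoc a, c.r.va.eq, ← mul_assoc, c.r.aa, one_mul, c.r.vv]

/-- The centralizer of `F` in the normalizer of `E`. -/
def U1 : Subgroup G where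
  carrier := {u | (∀ f ∈ c.r.F, Commute u f) ∧ u * t * u⁻¹ * t⁻¹ ∈ c.r.F}
  one_mem' := ⟨fun f _ => Commute.one_left f, by simp⟩
  mul_mem' := fun {u w} hu hw => ⟨fun f hf => (hu.1 f hf).mul_left (hw.1 f hf), by
    have := mul_mem hw.2 hu.2
    rw [← mul_inv_cancel_right (w * t * w⁻¹ * t⁻¹) u, ← (hu.1 _ hw.2).eq] at this
    convert this using 1; group⟩
  inv_mem' := fun {u} hu => ⟨fun f hf => (hu.1 f hf).inv_left, by
    have h1 := inv_mem hu.2
    rw [show u⁻¹ * t * u⁻¹⁻¹ * t⁻¹ = u⁻¹ * (u * t * u⁻¹ * t⁻¹)⁻¹ * u by group,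
      (hu.1 _ h1).inv_left.eq, inv_mul_cancel_right]
    exact h1⟩

theorem U1_conj {g u : G} (h1 : Commute g t) (h2 : ∀ f ∈ c.r.F, g * f * g⁻¹ ∈ c.r.F)
    (hu : u ∈ c.U1) : g * u * g⁻¹ ∈ c.U1 := by
  refine ⟨fun f hf => ?_, ?_⟩
  · simpa [mul_assoc] using (hu.1 _ (C12.conj_mem_of_mem_normalizer
      (inv_mem (mem_normalizer_of_conj h2)) hf)).conj g
  · have := h2 _ hu.2
    rw [show g * (u * t * u⁻¹ * t⁻¹) * g⁻¹ = g * u * g⁻¹ * (g * t * g⁻¹) * (g * u * g⁻¹)⁻¹ *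
      (g * t * g⁻¹)⁻¹ by group, h1.eq, mul_inv_cancel_right] at this
    exact this

theorem xU1 {u : G} (hu : u ∈ c.U1) : x * u * x⁻¹ ∈ c.U1 := c.U1_conj c.xt (fun _ => c.xF) hu

theorem xU1' {u : G} (hu : u ∈ c.U1) : x⁻¹ * u * x ∈ c.U1 := by
  simpa using C12.conj_mem_of_mem_normalizer (inv_mem (mem_normalizer_of_conj fun _ => c.xU1)) hu

omit [Finite G] in
theorem tU1 : t ∈ c.U1 := ⟨c.commF c.r.ta c.r.ctv, by simp⟩

omit [Finite G] in
theorem FU1 : c.r.F ≤ c.U1 := fun f hf => ⟨fun g hg => by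
    obtain ⟨p, hp, rfl⟩ := hf
    obtain ⟨q, hq, rfl⟩ := hg
    exact Commute.map ((by decide : ∀ p q : W16, p.k = false → q.k = false → p * q = q * p) p q
      hp.2 hq.2) _, by
    rw [← (c.r.comm_t (c.r.E_le (c.r.F_le hf))).eq]; simp⟩

theorem ker1 {u : G} (hu : u ∈ c.U1) (h : Commute u t) : u ∈ c.r.F ∨ u * t⁻¹ ∈ c.r.F := by
  have aF : a ∈ c.r.F := c.r.mem_F_iff.2 (by simp)
  obtain ⟨p, rfl⟩ := c.cent_v h (hu.1 v (c.r.mem_F_iff.2 (by simp)))
  have e : p * wa = wa * p := c.r.inj (by rw [map_mul, map_mul, c.r.φa, (hu.1 a aF).eq])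
  rw [c.r.φ_t, c.r.memF, c.r.memF]
  exact (by decide : ∀ p : W16, p * wa = wa * p → (p.i = false ∧ p.k = false) ∨
    ((p * wt⁻¹).i = false ∧ (p * wt⁻¹).k = false)) p e

theorem sq1 {u : G} (hu : u ∈ c.U1) : u * u ∈ c.r.F := by
  have k : Commute (u * u) t := conj_eq_iff.1 (by
    have e1 := c.sqF hu.2
    nth_rw 1 [← mul_inv_cancel_right (u * t * u⁻¹ * t⁻¹) u, ← (hu.1 _ hu.2).eq] at e1
    rw [← mul_inv_eq_one, ← e1]; group)
  refine (c.ker1 (mul_mem hu hu) k).elim id fun e => ?_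
  have k1 : Commute u t := by
    have := (hu.1 _ e).inv_right.mul_right ((Commute.refl u).mul_right (Commute.refl u))
    rwa [show (u * u * t⁻¹)⁻¹ * (u * u) = t by group] at this
  rcases c.ker1 hu k1 with e' | e'
  · exact mul_mem e' e'
  · have := c.sqF e'
    rw [mul_assoc, ← mul_assoc t⁻¹, ← k1.inv_right.eq, mul_assoc, ← mul_inv_rev, c.r.tt] at this
    rw [show u * u = 1 by simpa using this]
    exact one_mem _

theorem comm1 {u w : G} (hu : u ∈ c.U1) (hw : w ∈ c.U1) : u * w * u⁻¹ * w⁻¹ ∈ c.r.F := by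
  have e := inv_mem (c.sq1 hu)
  have := mul_mem (mul_mem (c.sq1 (mul_mem hu hw)) e) (inv_mem (c.sq1 hw))
  rw [← mul_inv_cancel_right (u * u)⁻¹ w⁻¹, ← (hw.1 _ e).inv_left.eq] at this
  convert this using 1; group

omit [Finite G] in
theorem cF {u f : G} (hu : u ∈ c.U1) (hf : f ∈ c.r.F) : u * f * u⁻¹ ∈ c.r.F := by
  rwa [(hu.1 f hf).eq, mul_inv_cancel_right]

theorem norm_mul {u w : G} (hu : u ∈ c.U1) (hw : w ∈ c.U1) : ∃ f ∈ c.r.F,
    u * w * (x * (u * w) * x⁻¹) * (x⁻¹ * (u * w) * x) =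
      f * (u * (x * u * x⁻¹) * (x⁻¹ * u * x)) * (w * (x * w * x⁻¹) * (x⁻¹ * w * x)) :=
  ⟨_, mul_mem (c.cF hu (c.comm1 hw (c.xU1 hu))) (c.cF (mul_mem hu (c.xU1 hu))
    (c.comm1 (mul_mem hw (c.xU1 hw)) (c.xU1' hu))), by group⟩

/-- The commutator subgroup `[U₁, x]`. -/
def U0 : Subgroup G where
  carrier := {u | u ∈ c.U1 ∧ u * (x * u * x⁻¹) * (x⁻¹ * u * x) ∈ c.r.F}
  one_mem' := ⟨one_mem _, by simp⟩
  mul_mem' := fun {u w} hu hw => ⟨mul_mem hu.1 hw.1, by
    obtain ⟨f, hf, e⟩ := c.norm_mul hu.1 hw.1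
    rw [e]
    exact mul_mem (mul_mem hf hu.2) hw.2⟩
  inv_mem' := fun {u} hu => ⟨inv_mem hu.1, by
    obtain ⟨f, hf, e⟩ := c.norm_mul hu.1 (inv_mem hu.1)
    have := mul_mem hf hu.2
    rw [← mul_mem_cancel_left this, ← e]
    simp⟩

omit [Finite G] in
theorem norm_t : t * (x * t * x⁻¹) * (x⁻¹ * t * x) = t := by
  rw [c.xt.eq, c.xt.inv_left.eq, mul_inv_cancel_right, inv_mul_cancel_right, c.r.tt, one_mul]

theorem tU0 : t ∉ c.U0 := fun e => c.tF (by simpa only [c.norm_t] using e.2)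

theorem FU0 : c.r.F ≤ c.U0 := fun _ hf => ⟨c.FU1 hf, by rw [c.normF hf]; exact one_mem _⟩

theorem or0 {u : G} (hu : u ∈ c.U1) : u ∈ c.U0 ∨ u * t ∈ c.U0 := by
  have h1 := mul_mem (mul_mem hu (c.xU1 hu)) (c.xU1' hu)
  have e : ∀ w ∈ c.U1, ∀ w' ∈ c.U1, w * w' * t * (w * w')⁻¹ * t⁻¹ =
      (w * t * w⁻¹ * t⁻¹) * (w' * t * w'⁻¹ * t⁻¹) := fun w hw w' hw' => by
    rw [← ((c.FU1 hw'.2).1 _ hw.2).eq, ← mul_inv_cancel_right (w' * t * w'⁻¹ * t⁻¹) w,
      ← (hw.1 _ hw'.2).eq]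
    group
  have e' : ∀ g, Commute g t → g * u * g⁻¹ * t * (g * u * g⁻¹)⁻¹ * t⁻¹ =
      g * (u * t * u⁻¹ * t⁻¹) * g⁻¹ := fun g hg => by
    rw [show g * (u * t * u⁻¹ * t⁻¹) * g⁻¹ = g * u * g⁻¹ * (g * t * g⁻¹) * (g * u * g⁻¹)⁻¹ *
      (g * t * g⁻¹)⁻¹ by group, hg.eq, mul_inv_cancel_right]
  have e'' := e' x⁻¹ c.xt.inv_left
  rw [inv_inv] at e''
  rcases c.ker1 h1 (conj_eq_iff.1 (by
    rw [← mul_inv_eq_one, e _ (mul_mem hu (c.xU1 hu)) _ (c.xU1' hu), e _ hu _ (c.xU1 hu),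
      e' x c.xt, e'', c.normF hu.2])) with k | k
  · exact Or.inl ⟨hu, k⟩
  · refine Or.inr ⟨mul_mem hu c.tU1, ?_⟩
    obtain ⟨f, hf, e⟩ := c.norm_mul hu c.tU1
    rw [e, c.norm_t, mul_assoc]
    exact mul_mem hf (by rwa [inv_eq_of_mul_eq_one_right c.r.tt] at k)

theorem fpf : Fpf x c.U0 ⊥ := by
  refine ⟨c.t3.cube, c.t3.ne, ⟨fun u hu => ⟨c.xU1 hu.1, ?_⟩, fun u hu h3 => ?_⟩, bot_le, by simp,
    by simp, fun u hu h => ?_⟩
  · have := c.cF (inv_mem hu.1) hu.2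
    convert this using 1
    rw [show x * (x * u * x⁻¹) * x⁻¹ = x * x * u * (x * x)⁻¹ by group, c.t3.mul_self]
    group
  · have := c.sqF (c.sq1 hu.1)
    rwa [show u * u * (u * u) = u ^ 3 * u by simp [pow_succ, mul_assoc], h3, one_mul] at this
  · have h4 := c.sqF (c.sq1 hu.1)
    have h6 := c.t3.six u h
    rw [show u ^ 6 = u * u * (u * u) * (u * u) by simp [pow_succ, mul_assoc], h4, one_mul] at h6
    rcases (mem_zpowers_two c.r.tt).1 ((c.memV u).2 ⟨h, h6⟩) with rfl | rfl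
    exacts [one_mem _, absurd hu c.tU0]

theorem bU0 {u : G} (hu : u ∈ c.U0) : s * t * u * (s * t)⁻¹ ∈ c.U0 := by
  have h1 := c.U1_conj c.r.tb.symm (fun _ => c.TF c.r.bT) hu.1
  refine ⟨h1, ?_⟩
  have := mul_mem (c.cF h1 (c.comm1 (c.xU1 h1) (c.xU1' h1))) (c.TF c.r.bT hu.2)
  have e1 := c.bx
  have e2 : s * t * x⁻¹ * (s * t)⁻¹ = x := by rw [← conj_inv, e1, inv_inv]
  rw [show ∀ b, b * (u * (x * u * x⁻¹) * (x⁻¹ * u * x)) * b⁻¹ = b * u * b⁻¹ * (b * x * b⁻¹ *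
    (b * u * b⁻¹) * (b * x⁻¹ * b⁻¹)) * (b * x⁻¹ * b⁻¹ * (b * u * b⁻¹) * (b * x * b⁻¹)) by
      intro b; group, e1, e2] at this
  convert this using 1; group

theorem tU0' {u : G} (hu : u ∈ c.U0) : t * u * t⁻¹ ∈ c.U0 := by
  simpa [mul_assoc] using mul_mem (c.FU0 (inv_mem hu.1.2)) hu

theorem dvd128 : 128 ∣ Nat.card G := by
  obtain ⟨h, n, n1, n2, n3⟩ := c.exists_n
  have r := c.r
  have vF : v ∈ r.F := r.mem_F_iff.2 (by simp)
  have aF : a ∈ r.F := r.mem_F_iff.2 (by simp)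
  have nU : n ∈ c.U1 := ⟨c.commF n2 n3, by rwa [n1, r.ctv.eq, mul_inv_cancel_right]⟩
  obtain ⟨u, hu, u1⟩ : ∃ u ∈ c.U0, u * t * u⁻¹ = t * v := (c.or0 nU).elim (fun e => ⟨n, e, n1⟩)
    fun e => ⟨_, e, by rw [← n1]; group⟩
  have c4 : 4 ≤ Nat.card r.F := by
    have := two_mul_card_le (zpowers_le_of_mem vF) fun e => by
      rcases (mem_zpowers_two r.vv).1 (e aF) with e | e
      · exact absurd (r.inj ((r.φa.trans e).trans (map_one _).symm)) (by decide)
      · exact absurd (r.inj ((r.φa.trans e).trans r.φv.symm)) (by decide)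
    rwa [Nat.card_zpowers, orderOf_two r.vv r.v1] at this
  have hz : ∀ g, g ∈ zpowers t ⊔ zpowers v ↔ g ∈ zpowers t ∨ g * v ∈ zpowers t := fun g =>
    mem_sup_invol r.vv fun k hk => by
      rcases (mem_zpowers_two r.tt).1 hk with rfl | rfl
      · simp
      · rw [← r.ctv.eq]; simp
  have nz : ∀ g, Commute g v → (g * t * g⁻¹ = t ∨ g * t * g⁻¹ = t * v) →
      g ∈ normalizer ((zpowers t ⊔ zpowers v : Subgroup G) : Set G) := fun g h1 h2 =>
    mem_normalizer_of_conj fun k hk => by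
      have : zpowers t ⊔ zpowers v ≤ (zpowers t ⊔ zpowers v).comap (MulAut.conj g).toMonoidHom :=
        sup_le (zpowers_le_of_mem (by
          change g * t * g⁻¹ ∈ zpowers t ⊔ zpowers v
          rcases h2 with e | e <;> rw [e]
          exacts [mem_sup_left (mem_zpowers t), mul_mem_sup (mem_zpowers t) (mem_zpowers v)]))
          (zpowers_le_of_mem (by
            change g * v * g⁻¹ ∈ zpowers t ⊔ zpowers v
            rw [h1.eq, mul_inv_cancel_right]; exact mem_sup_right (mem_zpowers v)))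
      exact this hk
  have c8 := two_mul_card_le (H := r.F) (K := c.U0 ⊓ normalizer _) (le_inf c.FU0 fun f hf =>
    nz f ((c.FU1 hf).1 v vF) (Or.inl (by rw [← (r.comm_t (r.E_le (r.F_le hf))).eq]; simp)))
    fun e => r.v1 (by
      have := e ⟨hu, nz u (hu.1.1 v vF) (Or.inr u1)⟩
      rw [← (r.comm_t (r.E_le (r.F_le this))).eq] at u1
      simpa using u1)
  have c16 := two_mul_card_le (inf_le_left : c.U0 ⊓ normalizer
    ((zpowers t ⊔ zpowers v : Subgroup G) : Set G) ≤ _) fun e => by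
      have := C12.conj_mem_of_mem_normalizer (e (c.fpf.inv.conj u hu)).2
        (mem_sup_left (mem_zpowers t))
      rw [show x * u * x⁻¹ * t * (x * u * x⁻¹)⁻¹ = x * (u * (x⁻¹ * t * x) * u⁻¹) * x⁻¹ by group,
        c.xt.inv_left.eq, inv_mul_cancel_right, u1, ← conj_mul, c.xv, c.xt.eq, mul_inv_cancel_right,
        hz, mem_zpowers_two r.tt, mem_zpowers_two r.tt] at this
      have e1 : t * (a * v) = r.φ (wt * (wa * wv)) := by rw [map_mul, map_mul, r.φt, r.φa, r.φv]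
      have e2 : t * (a * v) * v = r.φ (wt * (wa * wv) * wv) := by rw [map_mul, ← e1, r.φv]
      rw [e2, e1] at this
      rcases this with (e | e) | (e | e)
      · exact absurd (r.inj (e.trans (map_one _).symm)) (by decide)
      · exact absurd (r.inj (e.trans r.φt.symm)) (by decide)
      · exact absurd (r.inj (e.trans (map_one _).symm)) (by decide)
      · exact absurd (r.inj (e.trans r.φt.symm)) (by decide)
  have ba : ¬ Commute (s * t) a := fun e => r.v1 (by simpa [e.eq] using r.ba)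
  have bU : s * t ∉ c.U0 := fun e => ba (e.1.1 a aF)
  have p0 : IsPGroup 2 c.U0 := isPGroup_of_el2 fun g hg => ⟨2, by
    rw [← c.sqF (c.sq1 hg.1)]; simp [pow_succ, mul_assoc]⟩
  have c32 := card_sup_invol r.bb (fun _ => c.bU0) bU
  have p1 := isPGroup_sup_invol r.bb (fun _ => c.bU0) p0
  have hM := fun g => mem_sup_invol (g := g) r.bb fun _ => c.bU0
  have tM : ∀ k ∈ c.U0 ⊔ zpowers (s * t), t * k * t⁻¹ ∈ c.U0 ⊔ zpowers (s * t) := fun k hk => by
    rw [hM] at hk ⊢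
    refine hk.imp c.tU0' fun e => ?_
    have := c.tU0' e
    rwa [← mul_assoc t, mul_assoc (t * k), ← r.tb.inv_left.eq, ← mul_assoc] at this
  have c64 := card_sup_invol r.tt tM fun e => ((hM t).1 e).elim c.tU0 fun e =>
    ba (by simpa [← mul_assoc, r.tt] using r.ta.mul_left (e.1.1 a aF))
  obtain ⟨S, hS, le⟩ := exists_isSylowIn_ge le_top (isPGroup_sup_invol r.tt tM p1)
  have := c.simple
  refine dvd_trans ?_ S.card_subgroup_dvd_card
  obtain ⟨k, hk⟩ := hS.isPGroup.exists_card_eq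
  by_contra k7
  have k8 : k ≤ 6 := by
    by_contra k8
    exact k7 (hk ▸ pow_dvd_pow 2 (by omega : 7 ≤ k))
  have k9 : Nat.card S ≤ 64 := hk ▸ Nat.pow_le_pow_right two_pos k8
  obtain ⟨g, hg⟩ := Fx4.thompson (comm_top_of_simple c.nab) (by
    have := hS.not_dvd
    rw [relIndex_top_right] at this
    exact Nat.odd_iff.2 (by omega)) (le_sup_left.trans le) (by omega)
    (le (mem_sup_right (mem_zpowers t))) r.tt
  have cj : IsConj t (g⁻¹ * t * g) := by simpa using isConj_mk g⁻¹ t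
  generalize g⁻¹ * t * g = w at hg cj
  have w2 := h.sq_of_isConj cj
  rcases (hM w).1 hg with e | e
  · refine c.nt cj (cj.trans (isConj_mk x w)) (commutatorElement_eq_one_iff_commute.1
      (c.fpf.comm_self e)) ?_
    rw [eq_inv_of_mul_eq_one_left (c.fpf.norm e), show (x⁻¹ * w * x)⁻¹ = x⁻¹ * w⁻¹ * x⁻¹⁻¹ by group,
      inv_eq_of_mul_eq_one_right w2]
    exact cj.trans (isConj_mk _ _)
  · obtain ⟨y, -, e'⟩ := c.fpf.outer c.bx (fun _ => c.bU0) e (by
      rw [mul_assoc w, r.bb, mul_one, w2])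
    rw [mul_assoc w, r.bb, mul_one] at e'
    exact h.nb (cj.trans (e' ▸ (isConj_mk _ _).symm))

theorem false {θ : G} (hθ : orderOf θ = 7) (tθ : Commute t θ) : False := by
  obtain ⟨S, hS⟩ := exists_isSylowIn 2 (⊤ : Subgroup G)
  have h1 := c.dvd128
  have h2 := card_mul_relIndex_of_le hS.le
  have h3 := hS.not_dvd
  rw [card_top] at h2
  have h4 : ∀ k, 2 ^ k ∣ Nat.card G → 2 ^ k ∣ Nat.card S := fun k e =>
    (Nat.Coprime.pow_left k ((Nat.Prime.coprime_iff_not_dvd Nat.prime_two).2 h3)).dvd_of_dvd_mul_right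
      (h2 ▸ e)
  obtain ⟨z, -, z1, z2, hz⟩ := exists_invol_center hS.isPGroup fun e => by
    have := h4 7 h1
    rw [e, card_bot] at this
    omega
  have h5 := card_dvd_of_le (show S ≤ centralizer {z} from fun g hg => SC3.mem_cent.2 (hz g hg).symm)
  have h6 := (c.cls z z2 z1).resolve_left fun e => c.not_conj
    ((dvd_trans (by norm_num) (h4 7 h1)).trans h5) e.symm
  rw [card_cent_conj h6] at h5
  have l1 := c.lo c.nst
  have l2 := c.hi c.nst
  rw [c.hH] at l1 l2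
  have h7 : ¬ 3 ∣ Nat.card (centralizer ({s * t} : Set G)) :=
    not_dvd_card_iff.2 fun y hy h3 => by_contra fun y1 => by
      obtain ⟨w, hw, e⟩ := c.isConj_of_commute c.r.bb y1 h3 (SC3.mem_cent.1 hy)
      rcases (mem_zpowers_two c.r.tt).1 hw with rfl | rfl
      exacts [(c.shift (mem_zpowers t)).s_ne (by simpa using e), c.nst e.symm]
  have h8 := (h4 7 h1).trans h5
  have h9 : Nat.card (centralizer ({s * t} : Set G)) = 256 := by omega
  exact c.toC2.v2l_not c.nst c.hH h9 (fun e => by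
    have := (h4 9 e).trans h5
    omega) hθ tθ (c.n7 θ hθ tθ)

end V2L

end Cfsg.Agent.L0.C12
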