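import Mathlib
import Cfsg.Agent.H8.C12V2Lb
import Cfsg.Agent.H7.C12T3

/-!
# The centralizer of `t` is not of type II
-/

set_option autoImplicit false

namespace Cfsg.Agent.L0.C12

open Subgroup Cfsg.Agent.L0.SC3 Cfsg.Agent.H9 Cfsg.Agent.H1.T3
open scoped commutatorElement Pointwise MatrixGroups

universe u

theorem v2l_model : ∃ y a b g : L7, y ≠ 1 ∧ y ^ 3 = 1 ∧ a ≠ 1 ∧
    a * (y * a * y⁻¹) * (y⁻¹ * a * y) = 1 ∧ b * y * b⁻¹ = y⁻¹ ∧
    b * (y * a * y⁻¹) * b⁻¹ = y * a * y⁻¹ ∧ g * b * g⁻¹ = a := by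
  refine ⟨QuotientGroup.mk' _ (sfm 7 0 1 6 6 rfl), QuotientGroup.mk' _ (sfm 7 0 2 3 0 rfl),
    QuotientGroup.mk' _ (sfm 7 3 6 3 4 rfl), QuotientGroup.mk' _ (sfm 7 0 2 3 4 rfl), ?_⟩
  simp only [← map_mul, ← map_pow, ← map_inv,
    ← map_one (QuotientGroup.mk' (center SL(2, ZMod 7))), sf_mk_eq, ne_eq]
  decide +kernel

variable {G : Type u} [Group G] [Finite G] {x s t : G}

namespace C2

variable (c : C2 x s t)
include c

omit [Finite G] in
theorem v2l_inv : C2 x⁻¹ s t := ⟨c.toCtx.inv, c.t1, c.ts, c.cls, c.one, c.lo, c.hi⟩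

theorem v2l_cube {y : G} (y1 : y ≠ 1) (y3 : y ^ 3 = 1) (h : Commute y t) : ∃ s', C2 y s' t := by
  obtain ⟨l, hl, e⟩ := c.t3.exists_conj (L := centralizer {t})
    (SC3.mem_cent.2 (c.cx (mem_zpowers t))) (SC3.mem_cent.2 h) y1 y3
  have e' : l * t * l⁻¹ = t := by rw [(SC3.mem_cent.1 hl).eq, mul_inv_cancel_right]
  rcases e with rfl | rfl
  · exact ⟨_, e' ▸ c.conj l⟩
  · exact ⟨_, e' ▸ c.v2l_inv.conj l⟩

theorem v2l_quo {K M : Subgroup G} (h : TII x (centralizer {t}) K M) :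
    Quo L7 (zpowers t) (centralizer {t}) := by
  have tt := c.v2l_tt
  have n0 : ∀ l ∈ centralizer ({t} : Set G), ∀ d ∈ zpowers t, l * d * l⁻¹ ∈ zpowers t :=
    fun l hl d hd => by
      rcases (mem_zpowers_two tt).1 hd with rfl | rfl
      · simp
      · rw [(SC3.mem_cent.1 hl).eq]; simp
  have h1 : zpowers t ≤ K := h.max _ (zpowers_le_of_mem (SC3.mem_cent.2 (Commute.refl t))) n0
    fun e => c.t3.ne ((El2.of_sq (c.sq e)).cube c.t3.cube)
  have xH := h.le' h.mem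
  have h2 : K = zpowers t := le_antisymm (h.L0 c.t3 ⟨c.t3.cube, c.t3.ne, ⟨h.nK x xH, h.cube⟩, h1,
    fun b hb => n0 b (h.le' (h.le hb)), n0 x xH, fun b hb e => c.mem_of_commute h.cube hb e⟩
    (c.Lodd h) n0 h.nK) h1
  have h3 : M = centralizer {t} := le_antisymm h.le' fun g hg => by
    obtain ⟨m, hm, k, -, k1, k2, rfl⟩ := h.fra g hg
    exact mul_mem hm (h.le (h1 ((c.memV k).2 ⟨k1, k2⟩)))
  rw [← h2, ← h3]
  refine h.quo.resolve_right fun q => ?_
  obtain ⟨-, v, hv, -, e⟩ := c.L13' h q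
  exact e (h1 hv)

/-- **V2L**. -/
theorem typeII {K M : Subgroup G} (h : TII x (centralizer {t}) K M) : False := by
  have tt := c.v2l_tt
  have q := c.v2l_quo h
  have tH : t ∈ centralizer {t} := SC3.mem_cent.2 (Commute.refl t)
  have hH := q.card (zpowers_le_of_mem tH)
  rw [Nat.card_zpowers, orderOf_two tt c.t1, card_psl27] at hH
  obtain ⟨π, hπ, hk⟩ := q
  have πt : π ⟨t, tH⟩ = 1 := (hk _).2 (mem_zpowers t)
  have ct : ∀ g : centralizer ({t} : Set G), Commute t g := fun g => (SC3.mem_cent.1 g.2).symm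
  have eqv : ∀ p q : centralizer ({t} : Set G), π p = π q → (p : G) = q ∨ (p : G) = t * q :=
    fun p q e => ((mem_zpowers_two tt).1 ((hk (p * q⁻¹)).1 (by simp [e]))).imp
      (fun e => mul_inv_eq_one.1 e) fun e => mul_inv_eq_iff_eq_mul.1 e
  have : Fact (Nat.Prime 7) := ⟨by norm_num⟩
  have n7 : ∀ θ, orderOf θ = 7 → Commute t θ →
      Nat.card (centralizer {t} ⊓ normalizer (zpowers θ : Set G) : Subgroup G) = 42 :=
    fun θ ho hc => by
      have θH : θ ∈ centralizer {t} := SC3.mem_cent.2 hc.symm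
      obtain ⟨r, r1, r2⟩ := v2l_index (isSylowIn_zpowers θH ho (by rw [hH]; norm_num))
      obtain ⟨j, hj⟩ := ho ▸ orderOf_dvd_natCard
        (centralizer {t} ⊓ normalizer (zpowers θ : Set G)) ⟨θH, le_normalizer (mem_zpowers θ)⟩
      have r3 : r ≠ 1 := fun e => by
        rw [e, mul_one] at r2
        have h1 := inf_eq_left.1 (eq_of_le_of_card_ge inf_le_left r2.ge)
        have h2 : (zpowers (⟨θ, θH⟩ : centralizer ({t} : Set G))).Normal := ⟨fun n hn g => by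
          obtain ⟨k, rfl⟩ := mem_zpowers_iff.1 hn
          obtain ⟨m, hm⟩ := mem_zpowers_iff.1 (C12.conj_mem_of_mem_normalizer (h1 g.2)
            (zpow_mem (mem_zpowers θ) k))
          exact ⟨m, Subtype.ext hm⟩⟩
        have := sf7.simple
        rcases (h2.map π hπ).eq_bot_or_eq_top with e | e <;> rw [MonoidHom.map_zpowers] at e
        · have := orderOf_dvd_of_pow_eq_one ((sq θ).trans (c.sq ((hk _).1 (zpowers_eq_bot.1 e))))
          rw [ho] at this
          omega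
        · have h3 := orderOf_map_dvd π ⟨θ, θH⟩
          rw [← Nat.card_zpowers, e, card_top, card_psl27, orderOf_mk, ho] at h3
          omega
      rw [hj, hH] at r2
      have r4 : r ≤ 48 := Nat.le_of_dvd (by norm_num) ⟨j, by linarith⟩
      rw [hj]
      interval_cases r <;> omega
  obtain ⟨θ, hθ, ho⟩ := exists_mem_orderOf_eq_prime (p := 7) (H := centralizer {t})
    (by rw [hH]; norm_num)
  obtain ⟨y0, a0, b0, g0, y1, y3, a1, ha, hb, hv, hg⟩ := v2l_model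
  obtain ⟨y0, rfl⟩ := hπ y0
  obtain ⟨b0, rfl⟩ := hπ b0
  obtain ⟨g, rfl⟩ := hπ g0
  obtain ⟨y, -, y3', e⟩ := lift3 π (fun g h1 h3 => Subtype.ext
    ((El2.of_sq (c.sq ((hk g).1 h1))).cube (congrArg Subtype.val h3))) y3
  rw [← e] at y1 ha hb hv
  have y3'' : (y : G) ^ 3 = 1 := congrArg Subtype.val y3'
  obtain ⟨s1, c1⟩ := c.v2l_cube (y := y) (fun e => y1 (by rw [show y = 1 from Subtype.ext e, map_one]))
    y3'' (ct y).symm
  have hb' : (b0 : G) * y * (b0 : G)⁻¹ = (y : G)⁻¹ :=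
    (eqv (b0 * y * b0⁻¹) y⁻¹ (by simpa using hb)).resolve_right fun e => c.t1 (by
      have h3 := congrArg (· ^ 3) e
      simp only [coe_mul, coe_inv, conj_pow, y3'', (ct y).inv_right.mul_pow, inv_pow] at h3
      simpa [pow_succ, tt] using h3.symm)
  obtain ⟨w, hw, k, hk', e1⟩ := c1.isConj_of_inverts hb'
  have c2 := c1.conj k
  have kt : Commute t k := by obtain ⟨i, rfl⟩ := hk'; exact (ct y).zpow_right i
  have ky : Commute (y : G) k := by obtain ⟨i, rfl⟩ := hk'; exact (Commute.refl _).zpow_right i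
  rw [← kt.eq, ← ky.eq, mul_inv_cancel_right, mul_inv_cancel_right] at c2
  obtain ⟨b, b1, b2⟩ : ∃ b : centralizer ({t} : Set G), π b = π b0 ∧ (b : G) = k * s1 * k⁻¹ * t := by
    rcases (mem_zpowers_two tt).1 hw with rfl | rfl
    · exact ⟨b0 * ⟨t, tH⟩, by simp [πt], by simp [e1]⟩
    · exact ⟨b0, rfl, by rw [e1, mul_assoc _ k⁻¹, ← kt.inv_right.eq]; group⟩
  have c3 := c2.shift (mem_zpowers t)
  rw [← b2] at c3
  rw [← b1] at hv hg
  obtain ⟨a, a2, a3, a4⟩ : ∃ a : centralizer ({t} : Set G), π a = a0 ∧ (a : G) * a = 1 ∧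
      (a : G) * (y * a * (y : G)⁻¹) * ((y : G)⁻¹ * a * y) = 1 := by
    have h1 : π (g * b * g⁻¹) = a0 := by simpa using hg
    have h2 : ((g * b * g⁻¹ : centralizer ({t} : Set G)) : G) * (g * b * g⁻¹ :) = 1 := by
      simp only [coe_mul, coe_inv, conj_mul, c3.ss]; simp
    generalize g * b * g⁻¹ = a at h1 h2
    rcases eqv (a * (y * a * y⁻¹) * (y⁻¹ * a * y)) 1 (by simpa [h1] using ha) with e | e
    · exact ⟨a, h1, h2, e⟩
    · refine ⟨a * ⟨t, tH⟩, by simp [πt, h1], ?_, ?_⟩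
      · rw [coe_mul, ← sq, (ct a).symm.mul_pow, sq, sq, h2, tt, one_mul]
      · have e' : (a : G) * (y * a * (y : G)⁻¹) * ((y : G)⁻¹ * a * y) = t := by simpa using e
        have f : ∀ p : centralizer ({t} : Set G), ∀ z, t * (p * z) = p * (t * z) := fun p z => by
          rw [← mul_assoc, (ct p).eq, mul_assoc]
        have f' : ∀ p : centralizer ({t} : Set G), ∀ z, t * ((p : G)⁻¹ * z) = (p : G)⁻¹ * (t * z) :=
          fun p => f p⁻¹
        calc _ = (a : G) * (y * a * (y : G)⁻¹) * ((y : G)⁻¹ * a * y) * t * (t * t) := by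
              simp only [coe_mul, mul_assoc, f, f', (ct y).eq]
          _ = 1 := by rw [e', tt, one_mul]
  have vv : (y : G) * a * (y : G)⁻¹ * (y * a * (y : G)⁻¹) = 1 := by rw [conj_mul, a3]; simp
  have ai := inv_eq_of_mul_eq_one_right a3
  have av : (a : G) * (y * a * (y : G)⁻¹) = (y : G)⁻¹ * a * y := by
    rw [eq_inv_of_mul_eq_one_left a4, mul_inv_rev, mul_inv_rev, ai, inv_inv, mul_assoc]
  have va : Commute ((y : G) * a * (y : G)⁻¹) a := by
    have := congrArg (·⁻¹) av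
    simp only [mul_inv_rev (a : G), inv_eq_of_mul_eq_one_right vv, ai] at this
    rw [mul_inv_rev, mul_inv_rev, ai, inv_inv, ← mul_assoc, ← av] at this
    exact this
  have xv : (y : G) * (y * a * (y : G)⁻¹) * (y : G)⁻¹ = a * (y * a * (y : G)⁻¹) := by
    rw [av, show (y : G) * (y * a * (y : G)⁻¹) * (y : G)⁻¹ = y * y * a * ((y : G) * y)⁻¹ by group,
      c1.t3.mul_self, inv_inv]
  have by' : (b : G) * (y : G)⁻¹ * (b : G)⁻¹ = y := by rw [← conj_inv, c3.sx, inv_inv]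
  have p1 : ∀ z, (b : G) * ((y : G)⁻¹ * z * y) * (b : G)⁻¹ = y * (b * z * (b : G)⁻¹) * (y : G)⁻¹ :=
    fun z => by rw [← conj_mul, ← conj_mul, by', c3.sx]
  have p2 : ∀ z, (b : G) * (y * z * (y : G)⁻¹) * (b : G)⁻¹ = (y : G)⁻¹ * (b * z * (b : G)⁻¹) * y :=
    fun z => by rw [← conj_mul, ← conj_mul, by', c3.sx]
  have ba : (b : G) * a * (b : G)⁻¹ = y * (b * (y * a * (y : G)⁻¹) * (b : G)⁻¹) * (y : G)⁻¹ := by
    rw [← p1]; group
  have bv : (b : G) * (y * a * (y : G)⁻¹) * (b : G)⁻¹ = y * a * (y : G)⁻¹ :=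
    (eqv (b * (y * a * y⁻¹) * b⁻¹) (y * a * y⁻¹) (by simpa [a2] using hv)).resolve_right fun e => by
      have e' : (b : G) * (y * a * (y : G)⁻¹) * (b : G)⁻¹ = t * (y * a * (y : G)⁻¹) := e
      have e2 := p2 (y * a * (y : G)⁻¹)
      have cv : Commute t (y * a * (y : G)⁻¹) := ct (y * a * y⁻¹)
      rw [xv, ← conj_mul, ba, e', ← conj_mul, xv, ← (ct y).eq, mul_inv_cancel_right,
        ← mul_assoc (y : G)⁻¹, ← (ct y).inv_right.eq, mul_assoc t, mul_assoc (a : G), cv.eq,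
        ← mul_assoc _ _ t, vv, one_mul, ← (ct a).eq, ← mul_assoc, tt, one_mul] at e2
      exact c.t1 (by simpa [mul_assoc] using e2)
  exact V2L.false ⟨c2, ⟨tt, a3, b2 ▸ c3.ss, vv, ct a, b2 ▸ ct b, va,
    b2 ▸ (conj_eq_iff.1 bv : Commute _ _).symm, by
      rw [← b2, ← inv_mul_cancel_right ((b : G) * a) b, ba, bv, xv, mul_assoc (a : G),
        ← conj_eq_iff.1 bv, mul_assoc (a : G)], c.t1,
    fun e => a1 (by rw [← a2, show a = 1 from Subtype.ext (by simpa using e), map_one]),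
    fun e => a1 (by simpa [a2] using (hk (y * a * y⁻¹)).2 ⟨1, by simpa using e⟩)⟩, rfl, xv, hH, n7⟩
    ho (SC3.mem_cent.1 hθ).symm

end C2

end Cfsg.Agent.L0.C12
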