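import Cfsg.Agent.H8.ElT
import Cfsg.Agent.H5.ElBu
import Cfsg.Agent.L0.ElW
import Cfsg.Agent.H2.ElA

/-! Degree `2pq`: the normal closure of `E` has no orbits of length `2q`. -/

set_option autoImplicit false
set_option linter.unusedSectionVars false

namespace Cfsg.Agent.H1.El

open Finset

variable {G : Type*} [Group G] [Finite G] {Ω : Type*} [MulAction G Ω] [FaithfulSMul G Ω]
  [Fintype Ω] [DecidableEq Ω] {p q : ℕ} {P : Sylow p G} {E : Subgroup G} {x : G} {F : Finset Ω}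

theorem Cx.impF (h : Cx p q P E x F) (O : Finset Ω) (hO : O.card = 2 * q)
    (inv : ∀ m ∈ Subgroup.normalClosure (E : Set G), ∀ a ∈ O, m • a ∈ O)
    (tr : ∀ a ∈ O, ∀ b ∈ O, ∃ m ∈ Subgroup.normalClosure (E : Set G), m • a = b)
    (hcov : ∀ a : Ω, ∃ k < p, (x ^ k)⁻¹ • a ∈ O)
    (hdis : ∀ j < p, ∀ k < p, ∀ a : Ω, (x ^ j)⁻¹ • a ∈ O → (x ^ k)⁻¹ • a ∈ O → j = k) : False := by
  classical
  have hp := h.hp
  obtain ⟨f5, fq, f2⟩ := h.five
  set M := Subgroup.normalClosure (E : Set G) with hM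
  have hMn : M.Normal := Subgroup.normalClosure_normal
  have hz : (x ^ p) ^ p = 1 := (h.om _ (h.le h.zE)).2 h.zE
  have hzM : x ^ p ∈ M := Subgroup.subset_normalClosure h.zE
  have hxF : ∀ (i : ℕ) c, (x ^ i)⁻¹ • c ∈ F ↔ c ∈ F := fun i =>
    h.invF (h.nrm _ (inv_mem (pow_mem h.xP i)))
  have key : ∀ V ≤ M, (∀ y ∈ M, ∀ v ∈ V, y * v * y⁻¹ ∈ V) → (∃ v ∈ V, ∃ a ∈ O, v • a ≠ a) →
      ∀ a ∈ O, ∀ b ∈ O, ∃ v ∈ V, v • a = b := fun V hV hn =>
    trn hp (Group.conjugatesOfSet (E : Set G)) O (fun y hy => ⟨by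
        obtain ⟨e, he, hc⟩ := Group.mem_conjugatesOfSet_iff.1 hy
        obtain ⟨c, rfl⟩ := isConj_iff.1 hc
        rw [conj_pow, (h.om _ (h.le he)).2 he, mul_one, mul_inv_cancel],
      inv y (Subgroup.subset_closure hy), (card_filter_le _ _).trans_lt (by
        have := h.qp; omega)⟩) tr V
      (fun y hy => hn y (Subgroup.subset_closure hy)) fun v hv => inv v (hV hv)
  by_cases hE : E = Subgroup.zpowers (x ^ p)
  · obtain ⟨a, ha, haF⟩ : ∃ a ∈ O, a ∉ F := by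
      obtain ⟨a, ha⟩ := h.exL
      obtain ⟨k, -, hk⟩ := hcov a
      exact ⟨_, hk, mt (hxF k a).1 ha⟩
    have h1 : ∀ i : ℕ, x ^ i ∈ M → p ∣ i := fun i hi => by
      have h2 : x ^ (i % p) ∈ M := by
        rwa [← Nat.mod_add_div i p, pow_add, pow_mul, mul_mem_cancel_right (pow_mem hzM _)] at hi
      exact Nat.dvd_of_mod_eq_zero (hdis _ (Nat.mod_lt _ hp.pos) 0 hp.pos (x ^ (i % p) • a)
        (by rwa [inv_smul_smul]) (by simpa using inv _ h2 a ha))
    have h2 : ∀ n ∈ M ⊔ Subgroup.zpowers x, ∃ m ∈ M, ∃ k : ℕ, n = m * x ^ k := fun n hn => by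
      obtain ⟨m, hm, y, hy, rfl⟩ := Subgroup.mem_sup_of_normal_left.1 hn
      obtain ⟨k, rfl⟩ := mem_powers_iff_mem_zpowers.2 hy
      exact ⟨m, hm, k, rfl⟩
    obtain ⟨U, hU, hn, hc, hg⟩ := bu hp (M ⊔ Subgroup.zpowers x) x
      (Subgroup.mem_sup_right (Subgroup.mem_zpowers x)) h.ord (h.cyc hE).2.2.1 fun n hn hx => by
        obtain ⟨m, hm, k, rfl⟩ := h2 n hn
        obtain ⟨i, hi⟩ := mem_powers_iff_mem_zpowers.2 (mul_mem hx (inv_mem (Subgroup.mem_zpowers x)))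
        have h3 : m * x ^ k * x * (m * x ^ k)⁻¹ * x⁻¹ = m * (x * m⁻¹ * x⁻¹) := by group
        obtain ⟨j, rfl⟩ := h1 i (by
          simp only at hi; rw [hi, h3]; exact mul_mem hm (hMn.conj_mem _ (inv_mem hm) x))
        simp only at hi
        rw [← conj_pow, mul_inv_eq_iff_eq_mul.1 hi.symm, ← pow_succ, ← pow_mul, add_mul,
          one_mul, pow_add, mul_right_comm, ← sq, pow_mul, ← h.ord, pow_orderOf_eq_one, one_pow,
          one_mul]
    have hUM : U ≤ M := fun u hu => by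
      obtain ⟨m, hm, k, rfl⟩ := h2 u (hU hu)
      rw [← QuotientGroup.eq_one_iff, ← orderOf_eq_one_iff]
      refine Nat.eq_one_of_dvd_coprimes ((hp.coprime_iff_not_dvd).2 hc)
        (orderOf_dvd_of_pow_eq_one ?_) ((orderOf_map_dvd (QuotientGroup.mk' M) _).trans
          (U.orderOf_dvd_natCard hu))
      rw [QuotientGroup.mk_mul, (QuotientGroup.eq_one_iff m).2 hm, one_mul,
        ← QuotientGroup.mk_pow, QuotientGroup.eq_one_iff, ← pow_mul, mul_comm, pow_mul]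
      exact pow_mem hzM k
    have h4 := th_card hp hz (h.zmv a haF)
    refine cl hp h.hq h.q2 h.qp U hc (x ^ p) hz (hn _ (Subgroup.mem_sup_left hzM)) O hO
      (fun u hu => inv u (hUM hu)) (key U hUM (fun y hy => hn y (Subgroup.mem_sup_left hy)) ?_)
      ?_ ?_
    · by_contra hne
      push Not at hne
      have h5 : O ⊆ (range p).image fun i => (x ^ p) ^ i • a := fun b hb => by
        obtain ⟨m, hm, rfl⟩ := tr a ha b hb
        obtain ⟨u, hu, k, rfl⟩ := hg m (Subgroup.mem_sup_left hm)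
        have h6 := (mul_mem_cancel_left (hUM hu)).1 hm
        obtain ⟨j, rfl⟩ := h1 k h6
        refine mem_image.2 ⟨j % p, mem_range.2 (Nat.mod_lt _ hp.pos), ?_⟩
        rw [mul_smul, hne u hu _ (inv _ h6 a ha), pow_mul,
          pow_eq_pow_of_modEq (Nat.mod_modEq j p) hz]
      have := card_le_card h5
      omega
    · obtain ⟨b, hb⟩ := h.exF
      obtain ⟨k, -, hk⟩ := hcov b
      exact ⟨_, hk, (h.memF _).1 ((hxF k b).2 hb) _ h.zE⟩
    · have h5 := card_filter_add_card_filter_not (s := O) fun c => x ^ p • c = c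
      have h6 := card_le_card (s := (range p).image fun i => (x ^ p) ^ i • a)
        (t := O.filter fun c => ¬ x ^ p • c = c) fun b hb => by
          obtain ⟨i, -, rfl⟩ := mem_image.1 hb
          refine mem_filter.2 ⟨inv _ (pow_mem hzM i) a ha, ?_⟩
          rw [← mul_smul, ← pow_succ', pow_succ, mul_smul, smul_left_cancel_iff]
          exact h.zmv a haF
      have := h.qp
      omega
  obtain ⟨V, T, hV, h2, -, hfix, htr⟩ := h.theta hE
  obtain ⟨t, ht, t', ht', hne⟩ := one_lt_card.1 h2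
  obtain ⟨k, -, hk⟩ := hcov t
  obtain ⟨v, hv, rfl⟩ := htr t ht t' ht'
  let K : Subgroup G := M ⊓ ⨅ c ∈ Oᶜ, MulAction.stabilizer G c
  have mK : ∀ v, v ∈ K ↔ v ∈ M ∧ ∀ c, c ∉ O → v • c = c := fun v => by
    simp [K, Subgroup.mem_iInf]
  have hcj : ∀ v ∈ V, (x ^ k)⁻¹ * v * (x ^ k)⁻¹⁻¹ ∈ M := fun v hv => hMn.conj_mem _ (hV hv) _
  obtain ⟨u, hu, -, h3, h4⟩ := lq h.hq h.q2 K O hO (fun k hk => inv k hk.1)
    (key K inf_le_left (fun y hy w hw => (mK _).2 ⟨hMn.conj_mem _ hw.1 y, fun c hc => by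
      rw [mul_smul, mul_smul, ((mK w).1 hw).2 _ fun e => hc (by simpa using inv y hy _ e),
        smul_inv_smul]⟩) ⟨_, (mK _).2 ⟨hcj v hv, fun c hc => by
      rw [inv_inv, mul_smul, mul_smul, hfix v hv _ fun e => hc ?_, inv_smul_smul]
      obtain ⟨w, hw, e1⟩ := htr t ht _ e
      have := inv _ (hcj w hw) _ hk
      rwa [inv_inv, mul_smul, mul_smul, smul_inv_smul, e1, inv_smul_smul] at this⟩, _, hk, by
      rw [inv_inv, mul_smul, mul_smul, smul_inv_smul, Ne, smul_left_cancel_iff]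
      exact hne.symm⟩)
  refine h.toBas.prodq x u O (eq_of_smul_eq_smul (α := Ω) fun c => ?_) ((mK u).1 hu).2 h3 hcov hdis
  rw [one_smul]
  by_cases hc : c ∈ O
  · exact h4 c hc
  · exact ((mK _).1 (pow_mem hu q)).2 c hc

end Cfsg.Agent.H1.El
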