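import Cfsg.Agent.S3329
import Cfsg.Agent.S3330
import Cfsg.Agent.H1.A9Base
import Cfsg.Agent.H8.G2Am2

/-!
# Three-local recognition of `A₈` and `S₈` from a pair of subgroups of order three
-/

set_option autoImplicit false

namespace Cfsg.Agent.H8.Mc

open Equiv Subgroup Cfsg.Agent.H1 Cfsg.Agent.H1.T3 Cfsg.Agent.H9 Cfsg.Agent.H8.G2

/-- Two subgroups of order three that are interchanged by `σ`. -/
structure Pair {G : Type*} [Group G] (K D : Subgroup G) (z z' σ : G) : Prop where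
  le : D ≤ K
  sK : σ ∈ K
  card : Nat.card D = 9
  cube : ∀ a ∈ D, a ^ 3 = 1
  comm : ∀ a ∈ D, ∀ b ∈ D, a * b = b * a
  zD : z ∈ D
  z'D : z' ∈ D
  z1 : z ≠ 1
  ind : ¬ T3 z z'
  s2 : σ * σ = 1
  sz : σ * z * σ⁻¹ = z'
  two : ∀ g ∈ K, g * z * g⁻¹ ∈ D → T3 z (g * z * g⁻¹) ∨ T3 z' (g * z * g⁻¹)
  cy : ∀ g ∈ K, g * (z * z') = z * z' * g → g * z * g⁻¹ ∈ D

/-- The product of the signs. -/
abbrev chi : Perm (Fin 3) × Perm (Fin 5) →* ℤˣ :=
  (Perm.sign.comp (MonoidHom.fst (Perm (Fin 3)) (Perm (Fin 5)))) *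
    (Perm.sign.comp (MonoidHom.snd (Perm (Fin 3)) (Perm (Fin 5))))

theorem T3.of_ne {G : Type*} [Group G] {z g : G} (h1 : z ≠ 1) (h : T3 z (g * z * g⁻¹)) :
    g * z * g⁻¹ = z ∨ g * z * g⁻¹ = z⁻¹ :=
  h.resolve_left fun e => h1 (conj_eq_one_iff.mp e)

namespace Pair

variable {G : Type*} [Group G] [Finite G] {K D : Subgroup G} {z z' σ : G}

omit [Finite G] in
theorem map (h : Pair K D z z' σ) {H : Type*} [Group H] (p : K →* H) (hp : Function.Surjective p)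
    (inj : ∀ x y : K, x ^ 3 = 1 → y ^ 3 = 1 → p x = p y → x = y) :
    Pair ⊤ ((D.subgroupOf K).map p) (p ⟨z, h.le h.zD⟩) (p ⟨z', h.le h.z'D⟩) (p ⟨σ, h.sK⟩) := by
  have c3 : ∀ x : K, (x : G) ∈ D → x ^ 3 = 1 := fun x hx => Subtype.ext (h.cube x hx)
  have c3' : ∀ g x : K, (x : G) ∈ D → (g * x * g⁻¹) ^ 3 = 1 := fun g x hx => by
    rw [conj_pow, c3 x hx]; simp
  have hT : ∀ x y : K, (x : G) ∈ D → y ^ 3 = 1 → T3 (p x) (p y) → T3 (x : G) y := by
    rintro x y hx hy (e | e | e)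
    · exact Or.inl (congrArg Subtype.val (inj y 1 hy (one_pow _) (e.trans (map_one p).symm)))
    · exact Or.inr (Or.inl (congrArg Subtype.val (inj y x hy (c3 x hx) e)))
    · exact Or.inr (Or.inr (congrArg Subtype.val (inj y x⁻¹ hy (c3 _ (inv_mem hx))
        (e.trans (map_inv p x).symm))))
  have hT' : ∀ x y : K, T3 (x : G) y → T3 (p x) (p y) := fun x y e =>
    (T3.of_map (φ := K.subtype) Subtype.val_injective e).map p
  refine ⟨le_top, mem_top _, ?_, ?_, ?_, ⟨_, h.zD, rfl⟩, ⟨_, h.z'D, rfl⟩, fun e => h.z1 ?_,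
    fun e => h.ind (hT _ _ h.zD (c3 _ h.z'D) e), ?_, ?_, fun g _ hg => ?_, fun g _ hg => ?_⟩
  · rw [← h.card, ← Nat.card_congr (subgroupOfEquivOfLe h.le).toEquiv]
    refine (Nat.card_congr (Equiv.ofBijective (p.subgroupMap _) ⟨fun a b e => Subtype.ext ?_,
      p.subgroupMap_surjective _⟩)).symm
    exact inj _ _ (c3 _ a.2) (c3 _ b.2) (congrArg Subtype.val e)
  · rintro _ ⟨a, ha, rfl⟩
    rw [← map_pow, c3 a ha, map_one]
  · rintro _ ⟨a, ha, rfl⟩ _ ⟨b, hb, rfl⟩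
    rw [← map_mul, ← map_mul]
    exact congrArg p (Subtype.ext (h.comm a ha b hb))
  · exact congrArg Subtype.val (inj _ 1 (c3 _ h.zD) (one_pow _) (e.trans (map_one p).symm))
  · rw [← map_mul, ← map_one p]; exact congrArg p (Subtype.ext h.s2)
  · rw [← map_inv, ← map_mul, ← map_mul]; exact congrArg p (Subtype.ext h.sz)
  · obtain ⟨g, rfl⟩ := hp g
    rw [← map_inv, ← map_mul, ← map_mul] at hg ⊢
    obtain ⟨d, hd, e⟩ := hg
    have := inj _ _ (c3 d hd) (c3' g _ h.zD) e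
    subst this
    exact (h.two g g.2 hd).imp (hT' _ _) (hT' _ _)
  · obtain ⟨g, rfl⟩ := hp g
    rw [← conj_eq_iff, ← map_mul, ← map_inv, ← map_mul, ← map_mul] at hg
    have := inj _ _ (c3' g _ (mul_mem h.zD h.z'D)) (c3 _ (mul_mem h.zD h.z'D)) hg
    rw [← map_inv, ← map_mul, ← map_mul]
    exact ⟨_, h.cy g g.2 (conj_eq_iff.mp (congrArg Subtype.val this)), rfl⟩

variable (h : Pair K D z z' σ)
include h

theorem le_of {A : Subgroup G} (h1 : z ∈ A) (h2 : z' ∈ A) : D ≤ A :=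
  tri_le (H := zpowers z) (n := 1) (zpowers_le.mpr h.zD)
    (by rw [Nat.card_zpowers, orderOf_three (h.cube z h.zD) h.z1, h.card]) h.z'D
    (fun e => h.ind (T3.of_zpowers (h.cube z h.zD) e)) (h.cube _ h.z'D) (zpowers_le.mpr h1) h2

theorem norm {g : G} (h1 : g * z * g⁻¹ ∈ D) (h2 : g * z' * g⁻¹ ∈ D) :
    g ∈ normalizer (D : Set G) :=
  mem_normalizer_of_conj_mem (h.le_of (A := D.comap (MulAut.conj g).toMonoidHom) h1 h2)

omit [Finite G] in
theorem sz' : σ * z' * σ⁻¹ = z := by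
  rw [← h.sz, show σ * (σ * z * σ⁻¹) * σ⁻¹ = σ * σ * z * (σ * σ)⁻¹ by group, h.s2]; simp

theorem cy' {g : G} (hg : g ∈ K) (e : g * (z * z') = z * z' * g) : g ∈ normalizer (D : Set G) := by
  have h1 := h.cy g hg e
  refine h.norm h1 ?_
  rw [show g * z' * g⁻¹ = (g * z * g⁻¹)⁻¹ * (g * (z * z') * g⁻¹) by group, conj_eq_iff.mpr e]
  exact mul_mem (inv_mem h1) (mul_mem h.zD h.z'D)

end Pair

namespace Pair

variable {G : Type*} [Group G] [Finite G] {D : Subgroup G} {z z' σ : G} (h : Pair ⊤ D z z' σ)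
include h

theorem card_norm : Nat.card (normalizer (D : Set G)) =
    2 * Nat.card ↥(normalizer (zpowers z : Set G) ⊓ normalizer (D : Set G)) := by
  have hN := fun g => mem_normalizer_zpowers_three (g := g) (h.cube z h.zD) h.z1
  rw [← card_mul_relIndex_of_le (inf_le_right : normalizer (zpowers z : Set G) ⊓ _ ≤ _),
    inf_relIndex_right, mul_comm, relIndex_eq_two_iff_exists_notMem_and'.mpr
      ⟨σ, h.norm (h.sz ▸ h.z'D) (h.sz' ▸ h.zD), fun e => h.ind (h.sz ▸ Or.inr ((hN σ).mp e)),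
        fun b hb => ?_⟩]
  rw [hN, hN]
  rcases h.two b (mem_top _) (conj_mem_of_mem_normalizer hb h.zD) with e | e
  · exact Or.inr (T3.of_ne h.z1 e)
  · refine Or.inl (T3.of_ne h.z1 ?_)
    simpa only [h.sz', mul_inv_rev, mul_assoc] using e.conj σ

theorem syl {n : ℕ} (hn : Nat.card (normalizer (D : Set G)) = 9 * n) (h3 : ¬ 3 ∣ n) :
    ¬ 27 ∣ Nat.card G := by
  have : Fact (Nat.Prime 3) := ⟨Nat.prime_three⟩
  have h1 : IsSylowIn 3 D (normalizer (D : Set G)) :=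
    ⟨le_normalizer, IsPGroup.of_card (n := 2) h.card, by
      have := card_mul_relIndex_of_le (le_normalizer (H := D))
      rw [hn, h.card] at this
      rwa [Nat.eq_of_mul_eq_mul_left (by norm_num) this]⟩
  simpa using not_dvd_of_syl (k := 2) (syl_of_norm h1 inf_le_left le_top) h.card

theorem inf_eq {X : Type*} [Group X] {ψ : X →* G} (hψ : Function.Injective ψ)
    (hr : ψ.range = normalizer (zpowers z : Set G)) {D0 B : Subgroup X} (eD : D = D0.map ψ)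
    (hB : ∀ k, k ∈ B ↔ ∀ d ∈ D0, k * d * k⁻¹ ∈ D0) :
    Nat.card (normalizer (D : Set G)) = 2 * Nat.card B := by
  rw [h.card_norm, ← card_map_of_injective hψ, ← hr, eD]
  congr 3
  ext g
  constructor
  · rintro ⟨⟨k, rfl⟩, hk⟩
    refine ⟨k, (hB k).mpr fun d hd => ?_, rfl⟩
    obtain ⟨e, he, e'⟩ := conj_mem_of_mem_normalizer hk (mem_map_of_mem ψ hd)
    rwa [← hψ (a₂ := k * d * k⁻¹) (by simpa using e')]
  · rintro ⟨b, hb, rfl⟩
    refine ⟨⟨b, rfl⟩, mem_normalizer_of_conj_mem ?_⟩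
    rintro _ ⟨d, hd, rfl⟩
    exact ⟨_, (hB b).mp hb d hd, by simp⟩

open A8K in
theorem a8 (eL : normalizer (zpowers z : Set G) ≃* chi.ker) :
    Nonempty (G ≃* alternatingGroup (Fin 8)) := by
  obtain ⟨eK⟩ := S3329.equivK
  have hz3 := h.cube z h.zD
  have hN := fun g => mem_normalizer_zpowers_three (g := g) hz3 h.z1
  have hyD := mul_mem h.zD h.z'D
  have hyz := h.comm _ hyD _ h.zD
  have zN := (hN z).mpr (Or.inl (by simp))
  have yN := (hN _).mpr (Or.inl (conj_eq_iff.mpr hyz))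
  obtain ⟨e, he⟩ : ∃ e : normalizer (zpowers z : Set G) ≃* A8.K10, e ⟨z, zN⟩ = A8K.z := by
    let e := eL.trans eK
    rcases p_z (e ⟨z, zN⟩) (fun k => by
      obtain ⟨g, rfl⟩ := e.surjective k
      right
      rw [← map_inv, ← map_inv, ← map_mul, ← map_mul, e.injective.eq_iff, e.injective.eq_iff,
        Subtype.ext_iff, Subtype.ext_iff]
      exact (hN g).mp g.2) (by
      rw [← map_pow, ← map_one e]; exact congrArg e (Subtype.ext hz3)) with h' | h' | h'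
    · exact absurd (congrArg Subtype.val (e.map_eq_one_iff.mp h')) h.z1
    · exact ⟨e, h'⟩
    · refine ⟨e.trans (MulAut.conj r2), ?_⟩
      change r2 * e _ * r2⁻¹ = _
      rw [h', ← conj_inv, p_rel.2.2.2.2.2.2.2.2.2.2.2.2.2.1, inv_inv]
  obtain ⟨t, ht, htD⟩ := p_y (e ⟨_, yN⟩) (by
    rw [← he, ← map_mul, ← map_mul]; exact congrArg e (Subtype.ext hyz)) (by
    rw [← map_pow, ← map_one e]; exact congrArg e (Subtype.ext (h.cube _ hyD)))
  let e' := e.trans (MulAut.conj t)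
  let ψ : A8.K10 →* G := (normalizer (zpowers z : Set G)).subtype.comp e'.symm.toMonoidHom
  have hψ : ∀ g, ψ (e' g) = g := fun g => congrArg Subtype.val (e'.symm_apply_apply g)
  have hinj : Function.Injective ψ := Subtype.val_injective.comp e'.symm.injective
  have ez : ψ A8K.z = z := by rw [← ht, ← he]; exact hψ ⟨z, zN⟩
  have ey : ψ (t * e ⟨_, yN⟩ * t⁻¹) = z * z' := hψ ⟨_, yN⟩
  have eD : D = A8K.D.map ψ := by
    refine eq_of_le_of_card_ge ?_ (by rw [card_map_of_injective hinj, card_D, h.card])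
    have h1 : z ∈ A8K.D.map ψ := ⟨_, p_rel2.1, ez⟩
    exact h.le_of h1 ((mul_mem_cancel_left h1).mp ⟨_, htD, ey⟩)
  have hn := h.inf_eq hinj (le_antisymm (by rintro _ ⟨k, rfl⟩; exact (e'.symm k).2)
    fun g hg => ⟨_, hψ ⟨g, hg⟩⟩) eD (B := B) fun k =>
      ⟨p_BD k, fun hk => (p_B k).mpr ⟨hk _ p_rel2.1, hk _ p_rel2.2.1⟩⟩
  rw [card_B] at hn
  exact Pre.main (ψ := ψ) ⟨hinj, fun g hg => ⟨_, hψ ⟨g, (hN g).mpr (by rwa [ez] at hg)⟩⟩,
    h.syl (n := 8) hn (by norm_num), eD ▸ hn, _, htD, by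
      rw [ey, ← eD]; exact fun g hg => h.cy' (mem_top g) (mem_cent.mp hg)⟩

omit [Finite G] in
theorem cases_y {g : G} (e : g * (z * z') = z * z' * g) :
    (g * z = z * g ∧ g * z' = z' * g) ∨ (σ * g * z = z * (σ * g) ∧ σ * g * z' = z' * (σ * g)) := by
  have z'1 : z' ≠ 1 := fun e => h.ind (Or.inl e)
  have ind' : ¬ T3 z' z := fun e => h.ind (e.symm h.z1)
  have c := h.comm _ h.zD _ h.z'D
  have h1 := h.cy g (mem_top g) e
  have h0 : g * z' * g⁻¹ = (g * z * g⁻¹)⁻¹ * (z * z') := by rw [← conj_eq_iff.mpr e]; group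
  have h2 := h.two (g * σ) (mem_top _)
  rw [show g * σ * z * (g * σ)⁻¹ = g * z' * g⁻¹ by rw [← h.sz]; group] at h2
  replace h2 := h2 (h0 ▸ mul_mem (inv_mem h1) (mul_mem h.zD h.z'D))
  have k1 : ∀ a b : G, a ^ 3 = 1 → ¬ T3 a b → ¬ T3 a (a⁻¹ * b) := fun a b ha hn e =>
    hn (T3.of_zpowers ha ((mul_mem_cancel_left (inv_mem (mem_zpowers a))).mp
      (e.mem (mem_zpowers a))))
  have k2 : ∀ a b : G, b ^ 3 = 1 → ¬ T3 b a → ¬ T3 b (a⁻¹ * b) := fun a b hb hn e =>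
    hn (T3.of_zpowers hb (inv_mem_iff.mp ((mul_mem_cancel_right (mem_zpowers b)).mp
      (e.mem (mem_zpowers b)))))
  have z3 := h.cube z h.zD
  have z3' := h.cube z' h.z'D
  rcases h.two g (mem_top g) h1 with (e1 | e1 | e1) | (e1 | e1 | e1)
  · exact absurd (conj_eq_one_iff.mp e1) h.z1
  · exact Or.inl ⟨conj_eq_iff.mp e1, conj_eq_iff.mp (by rw [h0, e1, inv_mul_cancel_left])⟩
  · rw [h0, e1, inv_inv, ← mul_assoc, L0.SC3.mul_self_of_cube z3] at h2
    exact (h2.elim (k1 _ _ z3 h.ind) (k2 _ _ z3' ind')).elim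
  · exact absurd (conj_eq_one_iff.mp e1) h.z1
  · rw [e1, c, inv_mul_cancel_left] at h0
    refine Or.inr ⟨conj_eq_iff.mp ?_, conj_eq_iff.mp ?_⟩
    · rw [← h.sz', ← e1]; nth_rewrite 1 [e1, h.sz']; group
    · rw [← h.sz, ← h0]; nth_rewrite 1 [h0, h.sz]; group
  · rw [h0, e1, inv_inv, c, ← mul_assoc, L0.SC3.mul_self_of_cube z3'] at h2
    exact (h2.elim (k2 _ _ z3 h.ind) (k1 _ _ z3' ind')).elim

open S8K in
theorem s8 (eL : normalizer (zpowers z : Set G) ≃* Perm (Fin 3) × Perm (Fin 5)) :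
    Nonempty (G ≃* Perm (Fin 8)) ∨ ∃ N : Subgroup G,
      Nonempty (N ≃* alternatingGroup (Fin 5) × alternatingGroup (Fin 5)) ∧ ∀ g : G, g ^ 2 ∈ N := by
  obtain ⟨eK⟩ := S3330.equivK
  have hz3 := h.cube z h.zD
  have hN := fun g => mem_normalizer_zpowers_three (g := g) hz3 h.z1
  have hyD := mul_mem h.zD h.z'D
  have hyz := h.comm _ hyD _ h.zD
  have zN := (hN z).mpr (Or.inl (by simp))
  have yN := (hN _).mpr (Or.inl (conj_eq_iff.mpr hyz))
  obtain ⟨e, he⟩ : ∃ e : normalizer (zpowers z : Set G) ≃* K0, e ⟨z, zN⟩ = S8K.z := by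
    let e := eL.trans eK
    rcases k_z (e ⟨z, zN⟩) (fun k => by
      obtain ⟨g, rfl⟩ := e.surjective k
      right
      rw [← map_inv, ← map_inv, ← map_mul, ← map_mul, e.injective.eq_iff, e.injective.eq_iff,
        Subtype.ext_iff, Subtype.ext_iff]
      exact (hN g).mp g.2) (by
      rw [← map_pow, ← map_one e]; exact congrArg e (Subtype.ext hz3)) with h' | h' | h'
    · exact absurd (congrArg Subtype.val (e.map_eq_one_iff.mp h')) h.z1
    · exact ⟨e, h'⟩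
    · refine ⟨e.trans (MulAut.conj S8K.s0), ?_⟩
      change S8K.s0 * e _ * S8K.s0⁻¹ = _
      rw [h', ← conj_inv, k_rel.2.2.2.2.2.2.2.2.2.1, inv_inv]
  obtain ⟨t, ht, htD⟩ := k_y (e ⟨_, yN⟩) (by
    rw [← he, ← map_mul, ← map_mul]; exact congrArg e (Subtype.ext hyz)) (by
    rw [← map_pow, ← map_one e]; exact congrArg e (Subtype.ext (h.cube _ hyD)))
  let e' := e.trans (MulAut.conj t)
  let ψ : K0 →* G := (normalizer (zpowers z : Set G)).subtype.comp e'.symm.toMonoidHom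
  have hψ : ∀ g, ψ (e' g) = g := fun g => congrArg Subtype.val (e'.symm_apply_apply g)
  have hinj : Function.Injective ψ := Subtype.val_injective.comp e'.symm.injective
  have ez : ψ S8K.z = z := by rw [← ht, ← he]; exact hψ ⟨z, zN⟩
  have ey : ψ (t * e ⟨_, yN⟩ * t⁻¹) = z * z' := hψ ⟨_, yN⟩
  have eD : D = S8K.D.map ψ := by
    refine eq_of_le_of_card_ge ?_ (by rw [card_map_of_injective hinj, card_D, h.card])
    have h1 : z ∈ S8K.D.map ψ := ⟨_, k_rel2.1, ez⟩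
    exact h.le_of h1 ((mul_mem_cancel_left h1).mp ⟨_, htD, ey⟩)
  have hn := h.inf_eq hinj (le_antisymm (by rintro _ ⟨k, rfl⟩; exact (e'.symm k).2)
    fun g hg => ⟨_, hψ ⟨g, hg⟩⟩) eD (B := B) fun k =>
      ⟨fun hk => (k_BD k hk).2.2, fun hk => (k_B k).mpr ⟨hk _ k_rel2.1, hk _ k_rel2.2.1⟩⟩
  rw [card_B] at hn
  obtain ⟨-, wD, -, -, -, -, -, -, -, -, -, a2, a1, az, aw, -⟩ := k_rel2
  have wD' : ψ w ∈ D := eD ▸ mem_map_of_mem ψ wD
  have hc : ∀ c : G, c * z = z * c → c * z' = z' * c → (c ∈ D ∨ ψ a * c ∈ D) ∧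
      (c * c = 1 → c = 1 ∨ c = ψ a) := fun c c1 c2 => by
    have c3 := mem_cent.mp (h.le_of (A := centralizer {c}) (mem_cent.mpr c1.symm)
      (mem_cent.mpr c2.symm) wD')
    obtain ⟨k, rfl⟩ : ∃ k, ψ k = c := ⟨_, hψ ⟨c, (hN c).mpr (Or.inl (conj_eq_iff.mpr c1))⟩⟩
    rw [← ez, ← map_mul, ← map_mul] at c1
    rw [← map_mul, ← map_mul] at c3
    obtain ⟨k1, k2⟩ := (k_cD k (hinj c1)).2 (hinj c3).symm
    rw [eD, ← map_mul]
    exact ⟨k1.imp (mem_map_of_mem ψ) (mem_map_of_mem ψ), fun e => (k2 (hinj (by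
      rw [map_mul, e, map_one]))).imp (fun e => by rw [e, map_one]) fun e => by rw [e]⟩
  have aD : ∀ d ∈ D, d * ψ a = ψ a * d := fun d hd => by
    rw [eD] at hd
    obtain ⟨d, hd, rfl⟩ := hd
    rw [← map_mul, ← map_mul, (k_BD d ((k_B d).mpr ⟨mul_mem (mul_mem hd k_rel2.1) (inv_mem hd),
      mul_mem (mul_mem hd wD) (inv_mem hd)⟩)).1]
  have aa : ψ a * ψ a = 1 := by rw [← map_mul, a2, map_one]
  have sN := h.norm (h.sz ▸ h.z'D) (h.sz' ▸ h.zD)
  have sa : σ * ψ a * σ⁻¹ = ψ a := by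
    refine ((hc _ ?_ ?_).2 (by rw [conj_mul, aa]; simp)).resolve_left fun e =>
      a1 (hinj ((conj_eq_one_iff.mp e).trans (map_one ψ).symm))
    · rw [← h.sz', conj_mul, conj_mul, aD _ h.z'D]
    · rw [← h.sz, conj_mul, conj_mul, aD _ h.zD]
  have key : ∀ c c' : G, (c ∈ D ∨ ψ a * c ∈ D) → (c ∈ D → c' ∈ D) → (ψ a * c ∈ D → ψ a * c' ∈ D) →
      c' * c ∈ D := by
    rintro c c' (e | e) k1 k2
    · exact mul_mem (k1 e) e
    · have := mul_mem (k2 e) e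
      rwa [← mul_assoc, aD _ (k2 e), ← mul_assoc, aa, one_mul] at this
  refine (Pre.main (ψ := ψ) ⟨hinj, fun g hg => ⟨_, hψ ⟨g, (hN g).mpr (by rwa [ez] at hg)⟩⟩,
    h.syl (n := 16) hn (by norm_num), eD ▸ hn, _, htD, ?_, ?_⟩).imp id
      fun ⟨N, _, _, h1, _, _, h2⟩ => ⟨N, h1, h2⟩
  · rw [ey, ← eD]; exact fun g hg => h.cy' (mem_top g) (mem_cent.mp hg)
  · rw [ey, ← eD]
    intro g hg
    rcases h.cases_y hg with ⟨c1, c2⟩ | ⟨c1, c2⟩
    · exact key g g (hc g c1 c2).1 id id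
    · have := key _ (σ * (σ * g) * σ⁻¹) (hc _ c1 c2).1 (conj_mem_of_mem_normalizer sN) fun e => by
        have := conj_mem_of_mem_normalizer sN e
        rwa [← conj_mul, sa] at this
      rwa [← mul_assoc σ σ, h.s2, one_mul, ← mul_assoc, inv_mul_cancel_right] at this

end Pair

end Cfsg.Agent.H8.Mc
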