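import Cfsg.Agent.H8.McGlue
import Cfsg.Agent.H8.McData
import Cfsg.Agent.H5.ReeH

/-!
# The three-local setting for the McLaughlin group
-/

set_option autoImplicit false

namespace Cfsg.Agent.H8.Mc

open Equiv Subgroup Cfsg.Agent.H1.T3 Cfsg.Agent.H9 Cfsg.Agent.H8.G2 Cfsg.Agent.H4.Small
open scoped Pointwise commutatorElement

/-- `μ` is a homomorphism from `M` onto `X` with kernel `J`. -/
structure PH {G X : Type*} [Group G] [Group X] (M J : Subgroup G) (μ : G → X) : Prop where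
  le : J ≤ M
  mul : ∀ {a b}, a ∈ M → b ∈ M → μ (a * b) = μ a * μ b
  surj : ∀ x, ∃ a ∈ M, μ a = x
  ker : ∀ {a}, a ∈ M → (μ a = 1 ↔ a ∈ J)

theorem exists_PH {G X : Type*} [Group G] [Group X] {M J : Subgroup G} (h : J ≤ M)
    [(J.subgroupOf M).Normal] (e : M ⧸ J.subgroupOf M ≃* X) : ∃ μ : G → X, PH M J μ := by
  classical
  refine ⟨fun a => if h : a ∈ M then e (QuotientGroup.mk ⟨a, h⟩) else 1, h, fun ha hb => ?_,
    fun x => ?_, fun ha => ?_⟩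
  · rw [dif_pos ha, dif_pos hb, dif_pos (mul_mem ha hb), ← map_mul]; rfl
  · obtain ⟨y, rfl⟩ := e.surjective x
    obtain ⟨a, rfl⟩ := QuotientGroup.mk_surjective y
    exact ⟨a, a.2, dif_pos a.2⟩
  · rw [dif_pos ha, e.map_eq_one_iff, QuotientGroup.eq_one_iff, mem_subgroupOf]

namespace PH

variable {G X : Type*} [Group G] [Group X] {M J : Subgroup G} {μ : G → X} (h : PH M J μ)
include h

/-- The homomorphism. -/
def hom : M →* X := MonoidHom.mk' (fun a => μ a) fun a b => h.mul a.2 b.2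

theorem one : μ 1 = 1 := h.hom.map_one

theorem inv {a : G} (ha : a ∈ M) : μ a⁻¹ = (μ a)⁻¹ := h.hom.map_inv ⟨a, ha⟩

theorem pow {a : G} (ha : a ∈ M) (n : ℕ) : μ (a ^ n) = μ a ^ n := h.hom.map_pow ⟨a, ha⟩ n

theorem conj {a b : G} (ha : a ∈ M) (hb : b ∈ M) : μ (a * b * a⁻¹) = μ a * μ b * (μ a)⁻¹ := by
  rw [h.mul (mul_mem ha hb) (inv_mem ha), h.mul ha hb, h.inv ha]

theorem eq {a b : G} (ha : a ∈ M) (hb : b ∈ M) : μ a = μ b ↔ a * b⁻¹ ∈ J := by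
  rw [← h.ker (mul_mem ha (inv_mem hb)), h.mul ha (inv_mem hb), h.inv hb, mul_inv_eq_one]

theorem eq' {a b : G} (ha : a ∈ M) (hb : b ∈ M) : μ a = μ b ↔ a⁻¹ * b ∈ J := by
  rw [← h.ker (mul_mem (inv_mem ha) hb), h.mul (inv_mem ha) hb, h.inv ha, inv_mul_eq_one]

theorem of_mem {a : G} (ha : a ∈ J) : μ a = 1 := (h.ker (h.le ha)).mpr ha

theorem cj (x : X) : PH M J fun a => x * μ a * x⁻¹ :=
  ⟨h.le, fun ha hb => by rw [h.mul ha hb, conj_mul], fun y => by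
    obtain ⟨a, ha, e⟩ := h.surj (x⁻¹ * y * x)
    exact ⟨a, ha, by rw [e]; group⟩, fun ha => by rw [conj_eq_one_iff, h.ker ha]⟩

/-- The image of a subgroup. -/
def im (A : Subgroup G) : Subgroup X := (A.subgroupOf M).map h.hom

theorem mem_im {A : Subgroup G} {x : X} : x ∈ h.im A ↔ ∃ a ∈ M, a ∈ A ∧ μ a = x :=
  ⟨fun ⟨a, h1, h2⟩ => ⟨a, a.2, h1, h2⟩, fun ⟨a, h0, h1, h2⟩ => ⟨⟨a, h0⟩, h1, h2⟩⟩

theorem mem_of_im {A : Subgroup G} (hA : J ≤ A) {a : G} (ha : a ∈ M) (e : μ a ∈ h.im A) :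
    a ∈ A := by
  obtain ⟨b, h1, h2, h3⟩ := h.mem_im.mp e
  exact (mul_mem_cancel_left (inv_mem h2)).mp (hA ((h.eq' h1 ha).mp h3))

theorem card_im [Finite G] {A : Subgroup G} (h1 : J ≤ A) (h2 : A ≤ M) :
    Nat.card A = Nat.card J * Nat.card (h.im A) := by
  have := (h.hom.domRestrict (A.subgroupOf M)).ker.card_mul_index
  rw [index_ker, MonoidHom.domRestrict_range, Nat.card_congr (subgroupOfEquivOfLe h2).toEquiv,
    MonoidHom.ker_domRestrict, show h.hom.ker = J.subgroupOf M from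
      Subgroup.ext fun a => h.ker a.2,
    Nat.card_congr (subgroupOfEquivOfLe (subgroupOf_mono _ h1)).toEquiv,
    Nat.card_congr (subgroupOfEquivOfLe h.le).toEquiv] at this
  exact this.symm

theorem card [Finite G] : Nat.card M = Nat.card J * Nat.card X := by
  rw [h.card_im h.le le_rfl, show h.im M = ⊤ from eq_top_iff.mpr fun x _ => by
    obtain ⟨a, ha, e⟩ := h.surj x
    exact h.mem_im.mpr ⟨a, ha, ha, e⟩, card_top]

end PH

/-- `A` is generated by the `3`-elements of `N`. -/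
structure O3 {G : Type*} [Group G] (A N : Subgroup G) : Prop where
  le : A ≤ N
  mem : ∀ {g}, g ∈ N → ∀ k, g ^ 3 ^ k = 1 → g ∈ A
  ind : ∀ B : Subgroup G, (∀ g ∈ A, ∀ k, g ^ 3 ^ k = 1 → g ∈ B) → A ≤ B

theorem o3_closure {G : Type*} [Group G] (N : Subgroup G) :
    O3 (closure {g : G | g ∈ N ∧ ∃ k : ℕ, orderOf g = 3 ^ k}) N := by
  refine ⟨(closure_le _).mpr fun g hg => hg.1, fun hg k hk => ?_, fun B hB =>
    (closure_le _).mpr fun g hg => ?_⟩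
  · obtain ⟨j, -, e⟩ := (Nat.dvd_prime_pow Nat.prime_three).mp (orderOf_dvd_of_pow_eq_one hk)
    exact subset_closure ⟨hg, j, e⟩
  · obtain ⟨k, hk⟩ := hg.2
    exact hB g (subset_closure hg) k (hk ▸ pow_orderOf_eq_one g)

theorem O3.conj {G : Type*} [Group G] {A N : Subgroup G} (h : O3 A N) {g x : G} (hg : g ∈ N)
    (hx : x ∈ A) : g * x * g⁻¹ ∈ A :=
  h.ind (A.comap (MulAut.conj g).toMonoidHom) (fun y hy k hk =>
    h.mem (mul_mem (mul_mem hg (h.le hy)) (inv_mem hg)) k (by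
      change (g * y * g⁻¹) ^ _ = 1
      rw [conj_pow, hk]; simp)) hx

theorem O3.le_of {G : Type*} [Group G] {A N R : Subgroup G} (h : O3 A N) (hR : IsPGroup 3 R)
    (hle : R ≤ N) : R ≤ A := fun g hg => by
  obtain ⟨k, hk⟩ := hR ⟨g, hg⟩
  exact h.mem (hle hg) k (congrArg Subtype.val hk)

/-- The normalizer of `⟨z⟩`. -/
abbrev Lz {G : Type*} [Group G] (z : G) : Subgroup G := normalizer (zpowers z : Set G)

/-- The hypotheses. -/
structure Ctx {G : Type*} [Group G] (S J Q L M : Subgroup G) (z : G) : Prop where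
  syl : IsSylowIn 3 S ⊤
  z3 : z ^ 3 = 1
  z1 : z ≠ 1
  zQ : z ∈ Q
  zS : ∀ s ∈ S, s * z = z * s
  ZQ : ∀ x ∈ Q, (∀ q ∈ Q, x * q = q * x) → T3 z x
  JS : J ≤ S
  Jc : ∀ a ∈ J, ∀ b ∈ J, a * b = b * a
  J3 : ∀ a ∈ J, a ^ 3 = 1
  cJ : Nat.card J = 81
  cQ : Nat.card Q = 243
  cS : Nat.card S = 729
  QS : Q ≤ S
  Q3 : ∀ a ∈ Q, a ^ 3 = 1
  Qc : ∀ a ∈ Q, ∀ b ∈ Q, T3 z (a * b * a⁻¹ * b⁻¹)
  eQ : Q = H7.pCoreIn 3 (Lz z)
  oL : O3 L (Lz z)
  oM : O3 M (normalizer (J : Set G))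
  h3 : ∀ x ∈ J, x ≠ 1 → centralizer (H7.pCoreIn 3 (centralizer {x}) : Set G) ≤
    H7.pCoreIn 3 (centralizer {x})

theorem exists_ctx {G : Type*} [Group G] [Finite G] (S : Sylow 3 G) {Z J Q L M : Subgroup G}
    (hZ : Z = (S : Subgroup G) ⊓ centralizer ((S : Subgroup G) : Set G)) (hJS : J ≤ S)
    (hJcomm : IsMulCommutative J) (hJexp : ∀ a ∈ J, a ^ 3 = 1) (hJcard : Nat.card J = 3 ^ 4)
    (hM : O3 M (normalizer (J : Set G))) (hL : O3 L (normalizer (Z : Set G)))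
    (hQ : Q = H7.pCoreIn 3 (normalizer (Z : Set G))) (hQex : IsExtraspecial 3 Q)
    (hQcard : Nat.card Q = 3 ^ 5) (hQexp : ∀ a ∈ Q, a ^ 3 = 1) {π : G → SL25} (hπ : PH L Q π)
    (h3 : ∀ x ∈ J, x ≠ 1 → centralizer (H7.pCoreIn 3 (centralizer {x}) : Set G) ≤
      H7.pCoreIn 3 (centralizer {x})) : ∃ z, Ctx S J Q L M z := by
  have : Fact (Nat.Prime 3) := ⟨Nat.prime_three⟩
  have hS := isSylowIn_top S
  have mZ : ∀ x, x ∈ Z ↔ x ∈ (S : Subgroup G) ∧ ∀ s ∈ (S : Subgroup G), s * x = x * s := fun x => by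
    rw [hZ, mem_inf, mem_centralizer_iff]; rfl
  have SN : (S : Subgroup G) ≤ normalizer (Z : Set G) := fun s hs =>
    mem_normalizer_of_conj_mem fun x hx => by rwa [((mZ x).mp hx).2 s hs, mul_inv_cancel_right]
  have SL := hL.le_of hS.isPGroup SN
  have QS : Q ≤ S := hQ ▸ H7.IsSylowIn.pCoreIn_le ((H7.isSylowIn_top S).mono SN le_top)
  have cS : Nat.card (S : Subgroup G) = 729 := by
    have h1 : IsSylowIn 3 (S : Subgroup G) L := ⟨SL, hS.isPGroup, fun e => hS.not_dvd (e.trans (by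
      rw [← relIndex_mul_relIndex _ _ _ SL le_top]; exact Dvd.intro _ rfl))⟩
    rw [h1.card_eq, hπ.card, hQcard, card_sl25,
      show 3 ^ 5 * 120 = 3 ^ 6 * 40 by norm_num, Nat.factorization_mul (by norm_num) (by norm_num),
      Nat.Prime.factorization_pow Nat.prime_three, Finsupp.add_apply, Finsupp.single_eq_same,
      Nat.factorization_eq_zero_of_not_dvd (by norm_num)]
    norm_num
  have ZQ : Z ≤ Q := hQ ▸ H7.NormalIn.le_pCoreIn ⟨le_normalizer, le_rfl⟩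
    (hS.isPGroup.to_le fun x hx => ((mZ x).mp hx).1)
  let C := (center Q).map Q.subtype
  have mC : ∀ x, x ∈ C ↔ x ∈ Q ∧ ∀ q ∈ Q, q * x = x * q := fun x =>
    ⟨by
      rintro ⟨y, hy, rfl⟩
      exact ⟨y.2, fun q hq => congrArg Subtype.val (mem_center_iff.mp hy ⟨q, hq⟩)⟩,
    fun ⟨h1, h2⟩ => ⟨⟨x, h1⟩, mem_center_iff.mpr fun q => Subtype.ext (h2 q q.2), rfl⟩⟩
  have cC : Nat.card C = 3 := (card_map_of_injective Q.subtype_injective).trans hQex.2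
  have ZC : Z ≤ C := fun x hx => (mC x).mpr ⟨ZQ hx, fun q hq => ((mZ x).mp hx).2 q (QS hq)⟩
  obtain ⟨z, hz, z1⟩ : ∃ z ∈ Z, z ≠ 1 := by
    have : Nontrivial (S : Subgroup G) := Finite.one_lt_card_iff_nontrivial.mp (by omega)
    have := hS.isPGroup.center_nontrivial
    obtain ⟨z, hz⟩ := exists_ne (1 : center (S : Subgroup G))
    exact ⟨z, (mZ _).mpr ⟨z.1.2, fun s hs => congrArg Subtype.val (mem_center_iff.mp z.2 ⟨s, hs⟩)⟩,
      fun e => hz (Subtype.ext (Subtype.ext e))⟩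
  have hC : ∀ x ∈ C, T3 z x := fun x hx => T3.of_card cC (ZC hz) z1 hx
  have eZ : Z = zpowers z :=
    le_antisymm (fun x hx => (hC x (ZC hx)).mem (mem_zpowers z)) (zpowers_le.mpr hz)
  refine ⟨z, hS, hQexp z (ZQ hz), z1, ZQ hz, ((mZ z).mp hz).2,
    fun x hx hc => hC x ((mC x).mpr ⟨hx, fun q hq => (hc q hq).symm⟩), hJS,
    fun a ha b hb => congrArg Subtype.val (hJcomm.is_comm.comm (⟨a, ha⟩ : J) ⟨b, hb⟩), hJexp,
    hJcard, hQcard, cS, QS, hQexp, fun a ha b hb => hC _ ⟨⁅(⟨a, ha⟩ : Q), ⟨b, hb⟩⁆, ?_, rfl⟩,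
    by rw [Lz, ← eZ]; exact hQ, by rw [Lz, ← eZ]; exact hL, hM, h3⟩
  rw [← hQex.1.2.2]
  exact commutator_mem_commutator (mem_top _) (mem_top _)

end Cfsg.Agent.H8.Mc
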