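import Cfsg.Agent.H8.McL1

/-!
# The three-local setting for the McLaughlin group: the extraspecial group
-/

set_option autoImplicit false
set_option linter.unusedSectionVars false

namespace Cfsg.Agent.H8.Mc

open Equiv Subgroup Cfsg.Agent.H1.T3 Cfsg.Agent.H9 Cfsg.Agent.H8.G2 Cfsg.Agent.H4.Small
open scoped Pointwise

variable {G : Type*} [Group G]

theorem sup_comm_of {A : Subgroup G} {x : G} (hA : ∀ a ∈ A, ∀ b ∈ A, a * b = b * a)
    (hx : ∀ a ∈ A, a * x = x * a) :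
    ∀ a ∈ A ⊔ zpowers x, ∀ b ∈ A ⊔ zpowers x, a * b = b * a := fun a ha b hb => by
  refine mem_cent.mp ((sup_le (fun c hc => mem_cent.mpr ?_) (zpowers_le.mpr (mem_cent.mpr ?_)) :
    A ⊔ zpowers x ≤ centralizer {a}) hb) |>.symm
  · exact (mem_cent.mp ((sup_le (fun d hd => mem_cent.mpr (hA d hd c hc))
      (zpowers_le.mpr (mem_cent.mpr (hx c hc).symm)) : A ⊔ zpowers x ≤ centralizer {c}) ha)).symm
  · exact (mem_cent.mp ((sup_le (fun d hd => mem_cent.mpr (hx d hd))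
      (zpowers_le.mpr (mem_cent.mpr rfl)) : A ⊔ zpowers x ≤ centralizer {x}) ha)).symm

theorem conj_pow_eq {g q ζ : G} (h1 : g * q * g⁻¹ = ζ * q) (h2 : g * ζ = ζ * g) (n : ℕ) :
    g ^ n * q * (g ^ n)⁻¹ = ζ ^ n * q := by
  induction n with
  | zero => simp
  | succ n ih =>
    calc _ = g * (g ^ n * q * (g ^ n)⁻¹) * g⁻¹ := by rw [pow_succ']; group
      _ = (g * ζ * g⁻¹) ^ n * (g * q * g⁻¹) := by rw [ih, conj_pow]; group
      _ = _ := by rw [h1, h2, mul_inv_cancel_right, pow_succ, mul_assoc]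

theorem card_inf_ge [Finite G] {A B K : Subgroup G} (hA : A ≤ K) (hB : B ≤ K) {n : ℕ}
    (h : Nat.card K ≤ n * Nat.card B) : Nat.card A ≤ n * Nat.card ↥(B ⊓ A) := by
  have h1 := card_mul_relIndex_of_le (inf_le_right : B ⊓ A ≤ A)
  have h2 := card_mul_relIndex_of_le hB
  rw [inf_relIndex_right] at h1
  have h3 : B.relIndex A ≤ B.relIndex K := relIndex_le_of_le_right hA index_ne_zero_of_finite
  have h4 : B.relIndex K ≤ n := by
    rw [← h2, mul_comm] at h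
    exact Nat.le_of_mul_le_mul_right h Nat.card_pos
  rw [← h1, mul_comm]
  exact Nat.mul_le_mul_right _ (h3.trans h4)

namespace Ctx

variable [Finite G] {S J Q L M : Subgroup G} {z : G} (h : Ctx S J Q L M z)
include h

omit [Finite G] in
theorem mZ {x : G} : x ∈ zpowers z ↔ T3 z x := mem_zpowers_three h.z3

omit [Finite G] in
theorem cZ : Nat.card (zpowers z) = 3 := by rw [Nat.card_zpowers, orderOf_three h.z3 h.z1]

theorem memL {g : G} : g ∈ Lz z ↔ g * z * g⁻¹ = z ∨ g * z * g⁻¹ = z⁻¹ :=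
  mem_normalizer_zpowers_three h.z3 h.z1

theorem ofc {g : G} (e : g * z = z * g) : g ∈ Lz z := h.memL.mpr (Or.inl (conj_eq_iff.mpr e))

omit [Finite G] in
theorem nQ {g q : G} (hg : g ∈ Lz z) (hq : q ∈ Q) : g * q * g⁻¹ ∈ Q := by
  rw [h.eQ] at hq ⊢
  exact conj_mem_of_mem_normalizer ((H7.pCoreIn_normalIn 3 _).2 hg) hq

omit h [Finite G] in
theorem nZ {g x : G} (hg : g ∈ Lz z) (hx : x ∈ zpowers z) : g * x * g⁻¹ ∈ zpowers z :=
  conj_mem_of_mem_normalizer hg hx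

omit h [Finite G] in
theorem Zc {g x : G} (e : g * z = z * g) (hx : x ∈ zpowers z) : g * x = x * g :=
  (mem_cent.mp ((zpowers_le.mpr (mem_cent.mpr e.symm) : zpowers z ≤ centralizer {g}) hx)).symm

omit [Finite G] in
theorem ZQ' : zpowers z ≤ Q := zpowers_le.mpr h.zQ

omit [Finite G] in
theorem Qz {q : G} (hq : q ∈ Q) : q * z = z * q := h.zS q (h.QS hq)

omit [Finite G] in
theorem Qc' {a b : G} (ha : a ∈ Q) (hb : b ∈ Q) : a * b * a⁻¹ * b⁻¹ ∈ zpowers z :=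
  h.mZ.mpr (h.Qc a ha b hb)

theorem sqc {g : G} (hg : g ∈ Lz z) : g * g * z = z * (g * g) := by
  rw [← conj_eq_iff, show g * g * z * (g * g)⁻¹ = g * (g * z * g⁻¹) * g⁻¹ by group]
  rcases h.memL.mp hg with e | e <;> rw [e]
  · exact e
  · rw [← conj_inv, e, inv_inv]

theorem oddc {g : G} (hg : g ∈ Lz z) {n : ℕ} (e : g ^ (2 * n + 1) = 1) : g * z = z * g :=
  mem_cent.mp (mem_of_sq e (mem_cent.mpr (h.sqc hg)))

theorem SL : S ≤ L := h.oL.le_of h.syl.isPGroup fun s hs => h.ofc (h.zS s hs)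

theorem Lc {g : G} (hg : g ∈ L) : g * z = z * g :=
  mem_cent.mp (h.oL.ind (centralizer {z}) (fun y hy k hk => by
    obtain ⟨n, e⟩ : Odd (3 ^ k) := Odd.pow (by decide)
    exact mem_cent.mpr (h.oddc (h.oL.le hy) (e ▸ hk))) hg)

theorem card_cent {A : Subgroup G} (hA : A ≤ Q) {q : G} (hq : q ∈ Q) :
    Nat.card A ≤ 3 * Nat.card ↥(centralizer {q} ⊓ A) := by
  let φ : A →* zpowers z := MonoidHom.mk' (fun a => ⟨_, h.Qc' (hA a.2) hq⟩) fun a b =>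
    Subtype.ext (by
      change a * b * q * ((a : G) * b)⁻¹ * q⁻¹ = a * q * (a : G)⁻¹ * q⁻¹ * (b * q * (b : G)⁻¹ * q⁻¹)
      rw [Zc (h.Qz (h.ZQ' (h.Qc' (hA a.2) hq))) (h.Qc' (hA b.2) hq)]
      calc _ = a * (b * q * (b : G)⁻¹ * q⁻¹) * (q * (a : G)⁻¹ * q⁻¹) := by group
        _ = _ := by rw [Zc (h.Qz (hA a.2)) (h.Qc' (hA b.2) hq)]; group)
  have h1 := φ.ker.index_mul_card
  have h2 : φ.ker = (centralizer {q} ⊓ A).subgroupOf A := by
    ext a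
    rw [MonoidHom.mem_ker, Subtype.ext_iff, mem_subgroupOf, mem_inf, mem_cent, ← conj_eq_iff,
      and_iff_left a.2]
    exact mul_inv_eq_one
  rw [index_ker, h2, Nat.card_congr (subgroupOfEquivOfLe inf_le_right).toEquiv] at h1
  rw [← h1]
  exact Nat.mul_le_mul_right _ ((card_le_card_group _).trans_eq h.cZ)

omit [Finite G] in
theorem card_cases {A : Subgroup G} (hA : A ≤ Q) : Nat.card A = 1 ∨ Nat.card A = 3 ∨
    Nat.card A = 9 ∨ Nat.card A = 27 ∨ Nat.card A = 81 ∨ Nat.card A = 243 := by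
  have := card_dvd_of_le hA
  rw [h.cQ, show 243 = 3 ^ 5 by norm_num, Nat.dvd_prime_pow Nat.prime_three] at this
  obtain ⟨k, hk, e⟩ := this
  interval_cases k <;> simp [e]

theorem noab {A : Subgroup G} (hA : A ≤ Q) (hc : ∀ a ∈ A, ∀ b ∈ A, a * b = b * a) :
    Nat.card A ≤ 27 := by
  by_contra hn
  have key : ∀ B : Subgroup G, B ≤ Q → (∀ x ∈ B, Q ≤ centralizer {x}) → Nat.card B ≤ 3 :=
    fun B h1 h2 => (card_le_of_le fun x hx => h.mZ.mpr (h.ZQ x (h1 hx) fun q hq =>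
      (mem_cent.mp (h2 x hx hq)).symm)).trans_eq h.cZ
  by_cases hQ : Q ≤ A
  · have := key A hA fun x hx q hq => mem_cent.mpr (hc q (hQ hq) x hx)
    omega
  obtain ⟨y, hy, hyA⟩ := SetLike.not_le_iff_exists.mp hQ
  have h1 : Nat.card A = 81 := by
    rcases h.card_cases hA with e | e | e | e | e | e
    any_goals omega
    exact absurd (eq_of_le_of_card_ge hA (by rw [e, h.cQ])).ge hQ
  have h2 := h.card_cent hA hy
  have := key (centralizer {y} ⊓ A) (inf_le_right.trans hA) fun x hx =>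
    tri_le (n := 1) hA (by rw [h1, h.cQ]) hy hyA (h.Q3 y hy)
      (fun a ha => mem_cent.mpr (hc a ha x hx.2)) (mem_cent.mpr (mem_cent.mp hx.1).symm)
  omega

section
variable {A : Subgroup G} (hA : A ≤ S) (hc : ∀ a ∈ A, ∀ b ∈ A, a * b = b * a)
  (h81 : Nat.card A = 81)
include hA hc h81

theorem cW' : Nat.card ↥(Q ⊓ A) = 27 := by
  have h1 := card_inf_ge (n := 3) hA h.QS (by rw [h.cS, h.cQ])
  have h2 := h.noab (A := Q ⊓ A) inf_le_left fun a ha b hb => hc a ha.2 b hb.2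
  omega

theorem selfc' {x : G} (hx : x ∈ Q) (e : ∀ a ∈ Q, a ∈ A → a * x = x * a) : x ∈ A := by
  have h1 := h.noab (A := Q ⊓ A ⊔ zpowers x) (sup_le inf_le_left (zpowers_le.mpr hx))
    (sup_comm_of (fun a ha b hb => hc a ha.2 b hb.2) fun a ha => e a ha.1 ha.2)
  rw [← h.cW' hA hc h81] at h1
  exact ((eq_of_le_of_card_ge le_sup_left h1).ge (mem_sup_right (mem_zpowers x))).2

theorem exists_sig' : ∃ σ ∈ A, σ ∉ Q := by
  by_contra hn
  push Not at hn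
  have := h.noab (A := A) hn hc
  omega

end

theorem cW : Nat.card ↥(Q ⊓ J) = 27 := h.cW' h.JS h.Jc h.cJ

theorem selfc {x : G} (hx : x ∈ Q) (e : ∀ a ∈ Q, a ∈ J → a * x = x * a) : x ∈ J :=
  h.selfc' h.JS h.Jc h.cJ hx e

theorem zJ : z ∈ J := h.selfc h.zQ fun _ ha _ => h.Qz ha

theorem ZJ : zpowers z ≤ J := zpowers_le.mpr h.zJ

theorem QW {q w : G} (hq : q ∈ Q) (hw : w ∈ Q) (hw' : w ∈ J) : q * w * q⁻¹ ∈ J :=
  (mul_mem_cancel_right (inv_mem hw')).mp (h.ZJ (h.Qc' hq hw))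

theorem JQ {j q : G} (hj : j ∈ J) (hq : q ∈ Q) : j * q * j⁻¹ * q⁻¹ ∈ J := by
  refine h.selfc (mul_mem (h.nQ (h.ofc (h.zS j (h.JS hj))) hq) (inv_mem hq)) fun w hw hw' => ?_
  have h1 := h.Jc _ (h.QW (inv_mem hq) hw hw') _ (inv_mem hj)
  calc _ = (w * j) * q * j⁻¹ * q⁻¹ := by group
    _ = j * q * (q⁻¹ * w * q⁻¹⁻¹ * j⁻¹) * q⁻¹ := by rw [h.Jc w hw' j hj]; group
    _ = _ := by rw [h1]; group

theorem dec {σ s : G} (h1 : σ ∈ S) (h2 : σ ∉ Q) (hs : s ∈ S) : ∃ y, T3 σ y ∧ y⁻¹ * s ∈ Q :=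
  tri' (n := 364) h.QS (by rw [h.cS, h.cQ]) h1 h2 (by
    have := congrArg Subtype.val (pow_card_eq_one' (x := (⟨σ, h1⟩ : S)))
    rwa [h.cS] at this) hs

theorem decJ {s : G} (hs : s ∈ S) : ∃ j ∈ J, ∃ q ∈ Q, s = j * q := by
  obtain ⟨σ, h1, h2⟩ := h.exists_sig' h.JS h.Jc h.cJ
  obtain ⟨y, h3, h4⟩ := h.dec (h.JS h1) h2 hs
  exact ⟨y, h3.mem h1, _, h4, by group⟩

theorem SN : S ≤ normalizer (J : Set G) := fun s hs => by
  obtain ⟨j, hj, q, hq, rfl⟩ := h.decJ hs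
  refine mul_mem (le_normalizer hj) (mem_normalizer_of_conj_mem fun a ha => ?_)
  simpa [mul_assoc] using mul_mem (inv_mem (h.JQ ha hq)) ha

theorem SM : S ≤ M := h.oM.le_of h.syl.isPGroup h.SN

theorem SJ {s j : G} (hs : s ∈ S) (hj : j ∈ J) : s * j * s⁻¹ * j⁻¹ ∈ Q := by
  obtain ⟨a, ha, q, hq, rfl⟩ := h.decJ hs
  have h1 := h.Jc a ha _ (conj_mem_of_mem_normalizer (h.SN (h.QS hq)) hj)
  rw [show a * q * j * (a * q)⁻¹ * j⁻¹ = a * (q * j * q⁻¹) * a⁻¹ * j⁻¹ by group, h1]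
  simpa [mul_assoc] using mul_mem hq (h.nQ (h.ofc (h.zS j (h.JS hj))) (inv_mem hq))

theorem SW {s w : G} (hs : s ∈ S) (hw : w ∈ Q) (hw' : w ∈ J) :
    s * w * s⁻¹ * w⁻¹ ∈ zpowers z := by
  obtain ⟨a, ha, q, hq, rfl⟩ := h.decJ hs
  have h1 := h.Jc a ha _ (h.QW hq hw hw')
  rw [show a * q * w * (a * q)⁻¹ * w⁻¹ = a * (q * w * q⁻¹) * a⁻¹ * w⁻¹ by group, h1]
  simpa [mul_assoc] using h.Qc' hq hw

theorem CQ {g : G} (e : ∀ q ∈ Q, q * g = g * q) : g ∈ Q := by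
  have h1 : H7.pCoreIn 3 (centralizer {z}) ≤ Q := by
    rw [h.eQ]
    refine H7.NormalIn.le_pCoreIn (H7.NormalIn.pCoreIn ⟨fun x hx => h.ofc (mem_cent.mp hx),
      fun l hl => mem_normalizer_of_conj_mem fun x hx => mem_cent.mpr ?_⟩) (H7.pCoreIn_isPGroup _ _)
    have := Zc (mem_cent.mp hx) (nZ (inv_mem hl) (mem_zpowers z))
    calc _ = l * (x * (l⁻¹ * z * l⁻¹⁻¹)) * l⁻¹ := by group
      _ = _ := by rw [this]; group
  exact h1 (h.h3 z h.zJ h.z1 fun q hq => e q (h1 hq))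

/-- The elements of `Q` whose image in `Q / Z` is fixed by `x`. -/
def CV (x : G) : Subgroup G where
  carrier := {q | q ∈ Q ∧ x * q * x⁻¹ * q⁻¹ ∈ zpowers z}
  one_mem' := ⟨one_mem _, by simp⟩
  mul_mem' := by
    rintro a b ⟨a1, a2⟩ ⟨b1, b2⟩
    refine ⟨mul_mem a1 b1, ?_⟩
    simpa [mul_assoc] using mul_mem a2 (nZ (h.ofc (h.Qz a1)) b2)
  inv_mem' := by
    rintro a ⟨a1, a2⟩
    refine ⟨inv_mem a1, ?_⟩
    simpa [mul_assoc] using nZ (h.ofc (h.Qz (inv_mem a1))) (inv_mem a2)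

theorem CV_le (x : G) : h.CV x ≤ Q := fun _ hq => hq.1

theorem le_CV {x : G} (hx : x ∈ Lz z) : zpowers z ≤ h.CV x := fun _ hq =>
  ⟨h.ZQ' hq, mul_mem (nZ hx hq) (inv_mem hq)⟩

theorem CV_mul {x y q : G} (hx : x ∈ Lz z) (h1 : q ∈ h.CV x) (h2 : q ∈ h.CV y) :
    q ∈ h.CV (x * y) :=
  ⟨h1.1, by simpa [mul_assoc] using mul_mem (nZ hx h2.2) h1.2⟩

theorem CV_Q {x q : G} (hx : x ∈ Q) (hq : q ∈ Q) : q ∈ h.CV x := ⟨hq, h.Qc' hx hq⟩

theorem CV_conj {l x q : G} (hl : l ∈ Lz z) (h1 : q ∈ h.CV x) :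
    l * q * l⁻¹ ∈ h.CV (l * x * l⁻¹) :=
  ⟨h.nQ hl h1.1, by simpa [mul_assoc] using nZ hl h1.2⟩

theorem CV_inv {x q : G} (hx : x ∈ Lz z) (h1 : q ∈ h.CV x) : q ∈ h.CV x⁻¹ :=
  ⟨h1.1, by simpa [mul_assoc] using nZ (inv_mem hx) (inv_mem h1.2)⟩

theorem CV_eq {x y q : G} (e : x * y⁻¹ ∈ Q) (h1 : q ∈ h.CV y) : q ∈ h.CV x := by
  simpa using h.CV_mul (h.ofc (h.Qz e)) (h.CV_Q e h1.1) h1

theorem CV_pow {x q : G} (hx : x ∈ Lz z) (h1 : q ∈ h.CV x) (n : ℕ) : q ∈ h.CV (x ^ n) := by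
  induction n with
  | zero => exact ⟨h1.1, by simp⟩
  | succ n ih => rw [pow_succ']; exact h.CV_mul hx h1 ih

theorem cV {g : G} (e : g * z = z * g) (hg : ∀ q ∈ Q, q ∈ h.CV g) : g ∈ Q := by
  let N : Subgroup G :=
    { carrier := {g | g * z = z * g ∧ ∀ q ∈ Q, q ∈ h.CV g}
      one_mem' := ⟨by simp, fun q hq => ⟨hq, by simp⟩⟩
      mul_mem' := fun ⟨a1, a2⟩ ⟨b1, b2⟩ => ⟨Commute.mul_left a1 b1, fun q hq =>
        h.CV_mul (h.ofc a1) (a2 q hq) (b2 q hq)⟩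
      inv_mem' := fun ⟨a1, a2⟩ => ⟨Commute.inv_left a1, fun q hq => h.CV_inv (h.ofc a1) (a2 q hq)⟩ }
  have : N ≤ Q := by
    rw [h.eQ]
    refine H7.NormalIn.le_pCoreIn ⟨fun a ha => h.ofc ha.1, fun l hl =>
      mem_normalizer_of_conj_mem fun x hx => ⟨?_, fun q hq => ?_⟩⟩ fun x => ⟨2, Subtype.ext ?_⟩
    · have := Zc hx.1 (nZ (inv_mem hl) (mem_zpowers z))
      calc _ = l * (x * (l⁻¹ * z * l⁻¹⁻¹)) * l⁻¹ := by group
        _ = _ := by rw [this]; group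
    · simpa [mul_assoc] using h.CV_conj hl (hx.2 _ (h.nQ (inv_mem hl) hq))
    · change (x : G) ^ (3 * 3) = 1
      rw [pow_mul]
      refine h.Q3 _ (h.CQ fun q hq => (conj_eq_iff.mp ?_).symm)
      have h1 := (x.2.2 q hq).2
      rw [conj_pow_eq (eq_mul_of_mul_inv_eq rfl) (Zc x.2.1 h1), h.Q3 _ (h.ZQ' h1), one_mul]
  exact this ⟨e, hg⟩

section five
variable {f : G} (hf : f ∈ Lz z) (h5 : f ^ 5 = 1) (h1 : f ≠ 1)
include hf h5 h1

theorem cent5 : Q ⊓ centralizer (zpowers f : Set G) ≤ zpowers z := by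
  have hp : IsPGroup 5 (zpowers f) := IsPGroup.of_card (n := 1) (by
    rw [Nat.card_zpowers, orderOf_eq_prime h5 h1, pow_one])
  have := Fintype.ofFinite G
  have h2 := H5.Ree.card_modEq_cent hp (J := Q)
    (zpowers_le.mpr (mem_normalizer_of_conj_mem fun q hq => h.nQ hf hq))
  have h3 : zpowers z ≤ Q ⊓ centralizer (zpowers f : Set G) := zpowers_le.mpr ⟨h.zQ, fun x hx =>
    mem_cent.mp ((zpowers_le.mpr (mem_cent.mpr (h.oddc hf (n := 2) h5)) : _ ≤ centralizer {z}) hx)⟩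
  rw [h.cQ, Nat.ModEq] at h2
  rcases h.card_cases (A := Q ⊓ centralizer (zpowers f : Set G)) inf_le_left with
    e | e | e | e | e | e
  any_goals omega
  · exact (eq_of_le_of_card_ge h3 (by rw [e, h.cZ])).ge
  · have h4 := (eq_of_le_of_card_ge inf_le_left (h.cQ.trans e.symm).le).ge
    exact absurd (H3.pow_eq_one_of_coprime (by norm_num) h5
      (h.Q3 f (h.CQ fun q hq => ((h4 hq).2 f (mem_zpowers f)).symm))) h1

theorem inv5 {A : Subgroup G} (h2 : zpowers z ≤ A) (h3 : A ≤ Q) (h4 : ∀ a ∈ A, f * a * f⁻¹ ∈ A) :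
    A ≤ zpowers z ∨ Q ≤ A := by
  have hp : IsPGroup 5 (zpowers f) := IsPGroup.of_card (n := 1) (by
    rw [Nat.card_zpowers, orderOf_eq_prime h5 h1, pow_one])
  have := Fintype.ofFinite G
  have h6 := H5.Ree.card_modEq_cent hp (J := A) (zpowers_le.mpr (mem_normalizer_of_conj_mem h4))
  have h7 : A ⊓ centralizer (zpowers f : Set G) = zpowers z := le_antisymm
    ((inf_le_inf_right _ h3).trans (h.cent5 hf h5 h1)) (le_inf h2 (zpowers_le.mpr fun x hx =>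
    mem_cent.mp ((zpowers_le.mpr (mem_cent.mpr (h.oddc hf (n := 2) h5)) : _ ≤ centralizer {z}) hx)))
  rw [h7, h.cZ, Nat.ModEq] at h6
  rcases h.card_cases h3 with e | e | e | e | e | e
  any_goals omega
  · exact Or.inl (eq_of_le_of_card_ge h2 (by rw [e, h.cZ])).ge
  · exact Or.inr (eq_of_le_of_card_ge h3 (by rw [e, h.cQ])).ge

end five

end Ctx

end Cfsg.Agent.H8.Mc
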