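import Cfsg.Agent.H8.McL2

/-!
# The three-local setting for the McLaughlin group: the elementary abelian group
-/

set_option autoImplicit false
set_option linter.unusedSectionVars false

namespace Cfsg.Agent.H8.Mc

open Equiv Subgroup Cfsg.Agent.H1.T3 Cfsg.Agent.H9 Cfsg.Agent.H8.G2 Cfsg.Agent.H4.Small
open scoped Pointwise

variable {G : Type*} [Group G]

/-- Two involutions with product of order three are conjugate. -/
theorem dih3 {a b : G} (ha : a * a = 1) (hb : b * b = 1) (h : (a * b) ^ 3 = 1) :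
    a * b * a * (a * b)⁻¹ = b := by
  have ha' := inv_eq_of_mul_eq_one_right ha
  have hb' := inv_eq_of_mul_eq_one_right hb
  calc _ = a * b * a * b * a := by rw [mul_inv_rev, ha', hb']; group
    _ = (a * b) ^ 3 * b⁻¹ := by rw [pow_three']; group
    _ = b := by rw [h, one_mul, hb']

theorem conj_sq {t g : G} (ht : t * t = 1) : g * t * g⁻¹ * (g * t * g⁻¹) = 1 := by
  rw [conj_mul, ht]; simp

/-- An element centralizing an involution modulo a group of exponent three. -/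
theorem adj3 {t g : G} (ht : t * t = 1) (h : (g * t * g⁻¹ * t) ^ 3 = 1) :
    g * t * g⁻¹ * t * g * t = t * (g * t * g⁻¹ * t * g) := by
  have := dih3 (conj_sq (g := g) ht) ht h
  rw [← conj_eq_iff]
  refine Eq.trans ?_ this
  group

namespace Ctx

variable [Finite G] {S J Q L M : Subgroup G} {z : G} (h : Ctx S J Q L M z) {π : G → SL25}
  (hπ : PH L Q π)
include h hπ

theorem lift5 {s : SL25} (hs : s ^ 5 = 1) : ∃ f ∈ L, π f = s ∧ f ^ 5 = 1 := by
  obtain ⟨f, hf, e⟩ := hπ.surj s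
  have h1 := h.Q3 _ ((hπ.ker (pow_mem hf 5)).mp (by rw [hπ.pow hf, e, hs]))
  refine ⟨f ^ 6, pow_mem hf 6, by rw [hπ.pow hf, e, pow_succ, hs, one_mul], ?_⟩
  rw [← pow_mul] at h1 ⊢
  rw [show 6 * 5 = 5 * 3 * 2 by norm_num, pow_mul, h1, one_pow]

theorem invL {A : Subgroup G} (h2 : zpowers z ≤ A) (h3 : A ≤ Q)
    (h4 : ∀ f ∈ L, ∀ a ∈ A, f * a * f⁻¹ ∈ A) : A ≤ zpowers z ∨ Q ≤ A := by
  obtain ⟨f, hf, e, h5⟩ := h.lift5 hπ sy_pow
  exact h.inv5 (h.oL.le hf) h5 (fun e' => relS.2.2.2.2.2.2.2.1 (by rw [← e, e', hπ.one])) h2 h3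
    (h4 f hf)

/-- An element that centralizes `L / Q` and has fixed points on `Q / Z`. -/
theorem CVc {c : G} (hc : c ∈ Lz z) (h1 : ∀ f ∈ L, c * (f * c * f⁻¹)⁻¹ ∈ Q) :
    h.CV c ≤ zpowers z ∨ Q ≤ h.CV c :=
  h.invL hπ (h.le_CV hc) (h.CV_le c) fun f hf _ ha =>
    h.CV_eq (h1 f hf) (h.CV_conj (h.oL.le hf) ha)

theorem CVt {x : G} (hx : x ∈ L) (e : π x = sz) : h.CV x ≤ zpowers z := by
  refine (h.CVc hπ (h.oL.le hx) fun f hf => ?_).resolve_right fun h1 => relS.2.2.2.2.2.1 ?_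
  · rw [← hπ.eq hx (h.oL.conj (h.oL.le hf) hx), hπ.conj hf hx, e, sz_comm, mul_inv_cancel_right]
  · rw [← e]; exact hπ.of_mem (h.cV (h.Lc hx) h1)

omit hπ in
theorem inv_of {c : G} (hc : c ∈ Lz z) (h1 : h.CV c ≤ zpowers z) (h2 : Q ≤ h.CV (c * c)) {q : G}
    (hq : q ∈ Q) : c * q * c⁻¹ * q ∈ zpowers z := by
  refine h1 ⟨mul_mem (h.nQ hc hq) hq, ?_⟩
  simpa [mul_assoc] using mul_mem (h2 hq).2 (h.Qc' hq (h.nQ hc hq))

theorem invV {x q : G} (hx : x ∈ L) (e : π x = sz) (hq : q ∈ Q) : x * q * x⁻¹ * q ∈ zpowers z :=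
  h.inv_of (h.oL.le hx) (h.CVt hπ hx e) (fun _ => h.CV_Q ((hπ.ker (mul_mem hx hx)).mp (by
    rw [hπ.mul hx hx, e, relS.2.2.2.2.2.2.2.2]))) hq

omit hπ in
theorem card_CV {l : G} (hl : l ∈ Lz z) (x : G) :
    Nat.card (h.CV x) ≤ Nat.card (h.CV (l * x * l⁻¹)) := by
  rw [← card_map_of_injective (f := (MulAut.conj l).toMonoidHom) (MulAut.conj l).injective]
  refine card_le_of_le ?_
  rintro _ ⟨q, hq, rfl⟩
  exact h.CV_conj hl hq

theorem CVs {σ : G} (hσ : σ ∈ L) (h1 : π σ ≠ 1) (h3 : π σ ^ 3 = 1) : Nat.card (h.CV σ) ≤ 27 := by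
  obtain ⟨x, e⟩ := conj_sx h3 h1
  obtain ⟨x, hx, rfl⟩ := hπ.surj x
  obtain ⟨u, hu, eu⟩ := hπ.surj su
  have k1 := h.card_CV (h.oL.le hx) σ
  rw [← hπ.conj hx hσ] at e
  have hτ := h.oL.conj (h.oL.le hx) hσ
  generalize x * σ * x⁻¹ = τ at e k1 hτ
  have k2 := h.card_CV (h.oL.le hu) τ
  have hτ' := h.oL.conj (h.oL.le hu) hτ
  have k3 : h.CV τ ⊓ h.CV (u * τ * u⁻¹) ≤ zpowers z := fun q hq => by
    have := h.CV_mul (h.oL.le hτ) hq.1 hq.2
    refine h.CVt hπ (mul_mem (mul_mem hτ hτ') (mul_mem hτ hτ')) ?_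
      (h.CV_mul (h.oL.le (mul_mem hτ hτ')) this this)
    rw [hπ.mul (mul_mem hτ hτ') (mul_mem hτ hτ'), hπ.mul hτ hτ', hπ.conj hu hτ, e, eu, relS.2.2.1]
  have k4 := card_le_of_le k3
  rw [h.cZ] at k4
  by_contra hn
  have k5 : 81 ≤ Nat.card (h.CV τ) := by
    rcases h.card_cases (h.CV_le τ) with e | e | e | e | e | e <;> omega
  have := card_inf_ge (n := 3) (h.CV_le (u * τ * u⁻¹)) (h.CV_le τ) (by rw [h.cQ]; omega)
  omega

theorem CVJ {σ q : G} (h1 : σ ∈ J) (h2 : σ ∉ Q) (hq : q ∈ h.CV σ) : q ∈ J := by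
  have hL := h.SL (h.JS h1)
  have h3 : Q ⊓ J ≤ h.CV σ := fun w hw => ⟨hw.1, by rw [h.Jc σ h1 w hw.2]; simp⟩
  exact ((eq_of_le_of_card_ge h3 (h.cW ▸ h.CVs hπ hL (fun e => h2 ((hπ.ker hL).mp e))
    (by rw [← hπ.pow hL, h.J3 σ h1, hπ.one]))).ge hq).2

theorem uniq {A : Subgroup G} (hA : A ≤ S) (hc : ∀ a ∈ A, ∀ b ∈ A, a * b = b * a)
    (h81 : Nat.card A = 81) : A = J := by
  obtain ⟨a, ha, haQ⟩ := h.exists_sig' hA hc h81
  obtain ⟨j, hj, q, hq, rfl⟩ := h.decJ (hA ha)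
  have hjQ : j ∉ Q := fun e => haQ (mul_mem e hq)
  have h1 : Q ⊓ A ≤ Q ⊓ J := fun w hw => ⟨hw.1, h.CVJ hπ hj hjQ (by
    have : w ∈ h.CV (j * q) := ⟨hw.1, by rw [hc _ ha w hw.2]; simp [mul_assoc]⟩
    simpa using h.CV_mul (h.ofc (h.zS _ (hA ha))) this (h.CV_Q (inv_mem hq) hw.1))⟩
  have h2 := eq_of_le_of_card_ge h1 (by rw [h.cW, h.cW' hA hc h81])
  have h3 : q ∈ J := h.selfc hq fun w hw hw' => by
    have := hc _ ha w (h2.ge ⟨hw, hw'⟩).2
    rw [← mul_assoc, h.Jc w hw' j hj, mul_assoc, mul_assoc, mul_right_inj] at this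
    exact this.symm
  refine eq_of_le_of_card_ge (fun x hx => ?_) (by rw [h81, h.cJ])
  obtain ⟨y, h4, h5⟩ := h.dec (hA ha) haQ (hA hx)
  exact (mul_mem_cancel_left (inv_mem (h4.mem (mul_mem hj h3)))).mp
    (h1 ⟨h5, A.mul_mem (A.inv_mem (h4.mem ha)) hx⟩).2

theorem wc (g : G) (hg : MulAut.conj g • J ≤ S) : g ∈ normalizer (J : Set G) :=
  mem_normalizer_of_conj_smul_eq (h.uniq hπ hg (fun a ha b hb => by
    have := congrArg (fun x => g * x * g⁻¹)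
      (h.Jc _ (mem_conj_smul_iff.mp ha) _ (mem_conj_smul_iff.mp hb))
    simpa [mul_assoc] using this) (by rw [card_conj_smul, h.cJ]))

/-- A `3`-subgroup that contains `J` normalizes it. -/
theorem normJ {R : Subgroup G} (hR : IsPGroup 3 R) (hJ : J ≤ R) : R ≤ M := by
  have : Fact (Nat.Prime 3) := ⟨Nat.prime_three⟩
  obtain ⟨g, -, e⟩ := exists_conj_le' h.syl hR le_top
  have h1 := h.wc hπ g ((pointwise_smul_le_pointwise_smul_iff.mpr hJ).trans e)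
  intro x hx
  have := h.oM.conj (inv_mem h1) (h.SM (e (smul_mem_pointwise_smul x (MulAut.conj g) R hx)))
  simpa [mul_assoc] using this

theorem cover {q : G} (hq : q ∈ Q) : ∃ x ∈ L, x * q * x⁻¹ ∈ J := by
  by_cases hz : q ∈ zpowers z
  · exact ⟨1, one_mem _, by simpa using h.ZJ hz⟩
  have h1 : Nat.card ↥(centralizer {q} ⊓ Q) ≤ 81 := by
    rcases h.card_cases (A := centralizer {q} ⊓ Q) inf_le_right with e | e | e | e | e | e
    any_goals omega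
    exact absurd (h.mZ.mpr (h.ZQ q hq fun x hx => (mem_cent.mp
      ((eq_of_le_of_card_ge inf_le_right (h.cQ.trans e.symm).le).ge hx).1).symm)) hz
  obtain ⟨g, hg, hgQ⟩ : ∃ g ∈ centralizer {q} ⊓ L, g ∉ Q := by
    by_contra hn
    push Not at hn
    have h2 := card_le_of_le (show centralizer {q} ⊓ L ≤ centralizer {q} ⊓ Q from
      fun g hg => ⟨hg.1, hn g hg⟩)
    have h3 := card_mul_relIndex_of_le (inf_le_right : centralizer {q} ⊓ L ≤ L)
    have h4 : (centralizer {q} ⊓ L).relIndex L ≤ 243 := by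
      rw [← h.cQ]
      refine Nat.card_le_card_of_injective (Quotient.lift
        (fun x : L => (⟨_, h.nQ (h.oL.le x.2) hq⟩ : Q)) fun a b e => Subtype.ext ?_) ?_
      · have := mem_cent.mp (QuotientGroup.leftRel_apply.mp e).1
        change (a : G)⁻¹ * b * q = q * ((a : G)⁻¹ * b) at this
        change a * q * (a : G)⁻¹ = b * q * (b : G)⁻¹
        calc _ = a * (q * ((a : G)⁻¹ * b)) * (b : G)⁻¹ := by group
          _ = _ := by rw [← this]; group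
      · rintro ⟨a⟩ ⟨b⟩ e
        refine Quotient.sound (QuotientGroup.leftRel_apply.mpr ⟨mem_cent.mpr ?_, (a⁻¹ * b).2⟩)
        have : a * q * (a : G)⁻¹ = b * q * (b : G)⁻¹ := congrArg Subtype.val e
        change (a : G)⁻¹ * b * q = q * ((a : G)⁻¹ * b)
        calc _ = (a : G)⁻¹ * (b * q * (b : G)⁻¹) * b := by group
          _ = _ := by rw [← this]; group
    rw [hπ.card, h.cQ, card_sl25] at h3
    have := Nat.mul_le_mul (h2.trans h1) h4
    omega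
  obtain ⟨p, hp, hd⟩ := Nat.exists_prime_and_dvd
    (show orderOf (π g) ≠ 1 from fun e => hgQ ((hπ.ker hg.2).mp (orderOf_eq_one_iff.mp e)))
  have k1 := orderOf_pow_orderOf_div (orderOf_pos (π g)).ne' hd
  rw [← hπ.pow hg.2] at k1
  have k2 := pow_mem hg (orderOf (π g) / p)
  generalize g ^ (orderOf (π g) / p) = y at k1 k2
  have k3 : π y ≠ 1 := fun e => hp.one_lt.ne (by rw [← k1, e, orderOf_one])
  have k4 := pow_orderOf_eq_one (π y)
  have k5 : q ∈ h.CV y := ⟨hq, by rw [mem_cent.mp k2.1]; simp⟩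
  have k6 := (hd.trans (orderOf_dvd_natCard _))
  rw [card_sl25, show 120 = 2 ^ 3 * 3 * 5 by norm_num, hp.dvd_mul, hp.dvd_mul] at k6
  rw [k1] at k4
  rcases k6 with (e | e) | e
  · obtain rfl := (Nat.prime_dvd_prime_iff_eq hp Nat.prime_two).mp (hp.dvd_of_dvd_pow e)
    exact absurd (h.CVt hπ k2.2 ((S3374.invol_eq _ (by rwa [← sq])).resolve_left k3) k5) hz
  · obtain rfl := (Nat.prime_dvd_prime_iff_eq hp Nat.prime_three).mp e
    obtain ⟨σ, s1, s2⟩ := h.exists_sig' h.JS h.Jc h.cJ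
    have s3 := h.SL (h.JS s1)
    obtain ⟨a, ha⟩ := conj_sx k4 k3
    obtain ⟨b, hb⟩ := conj_sx (g := π σ) (by rw [← hπ.pow s3, h.J3 σ s1, hπ.one])
      fun e => s2 ((hπ.ker s3).mp e)
    obtain ⟨x, hx, e⟩ := hπ.surj (b⁻¹ * a)
    refine ⟨x, hx, h.CVJ hπ s1 s2 (h.CV_eq ?_ (h.CV_conj (h.oL.le hx) k5))⟩
    rw [← hπ.eq s3 (h.oL.conj (h.oL.le hx) k2.2), hπ.conj hx k2.2, e]
    calc _ = b⁻¹ * (b * π σ * b⁻¹) * b := by group
      _ = _ := by rw [hb, ← ha]; group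
  · obtain rfl := (Nat.prime_dvd_prime_iff_eq hp (by norm_num)).mp e
    have k7 := h.Q3 _ ((hπ.ker (pow_mem k2.2 5)).mp (by rw [hπ.pow k2.2, k4]))
    refine absurd (h.cent5 (f := y ^ 3) (h.oL.le (pow_mem k2.2 3))
      (by rw [← pow_mul, mul_comm, pow_mul, k7]) (fun e => k3 (H3.pow_eq_one_of_coprime
        (n := 3) (by norm_num) k4 (by rw [← hπ.pow k2.2, e, hπ.one]))) ⟨hq, fun x hx => mem_cent.mp
          ((zpowers_le.mpr (pow_mem k2.1 3) : _ ≤ centralizer {q}) hx)⟩) hz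

variable {μ : G → A6} (hμ : PH M J μ)
include hμ

omit hπ in
theorem CJ {g : G} (e : ∀ j ∈ J, j * g = g * j) : g ∈ J := by
  have hN : ∀ {g : G}, g ∈ centralizer (J : Set G) → g ∈ normalizer (J : Set G) := fun hg =>
    centralizer_le_normalizer _ hg
  have cj : ∀ {g x : G}, g ∈ normalizer (J : Set G) → x ∈ centralizer (J : Set G) →
      g * x * g⁻¹ ∈ centralizer (J : Set G) := fun {g x} hg hx j hj => by
    have := hx _ (conj_mem_of_mem_normalizer (inv_mem hg) hj)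
    calc _ = g * (g⁻¹ * j * g⁻¹⁻¹ * x) * g⁻¹ := by group
      _ = _ := by rw [this]; group
  have h1 : ∀ x ∈ M, x ∈ centralizer (J : Set G) → x ∈ J := by
    have := alternatingGroup.isSimpleGroup (α := Fin 6) (by simp)
    have hn : (hμ.im (centralizer (J : Set G))).Normal := ⟨fun x hx y => by
      obtain ⟨x, x1, x2, rfl⟩ := hμ.mem_im.mp hx
      obtain ⟨y, y1, rfl⟩ := hμ.surj y
      exact hμ.mem_im.mpr ⟨_, h.oM.conj (h.oM.le y1) x1, cj (h.oM.le y1) x2, hμ.conj y1 x1⟩⟩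
    rcases hn.eq_bot_or_eq_top with e | e
    · exact fun x hx hc => (hμ.ker hx).mp (mem_bot.mp (e ▸ hμ.mem_im.mpr ⟨x, hx, hc, rfl⟩))
    · have k : ∀ q ∈ Q, q ∈ J := fun q hq => h.selfc hq fun a _ ha => hμ.mem_of_im
        (A := centralizer (J : Set G)) (fun a ha b hb => h.Jc b hb a ha) (h.SM (h.QS hq))
        (e ▸ mem_top _) a ha
      have := card_le_of_le (show Q ≤ J from k)
      rw [h.cQ, h.cJ] at this
      omega
  have hg : g ∈ centralizer (J : Set G) := e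
  obtain ⟨k, n, hn, e1⟩ := Nat.exists_eq_pow_mul_and_not_dvd (orderOf_pos g).ne' 3 (by norm_num)
  have hc : Nat.Coprime n 3 := ((Nat.Prime.coprime_iff_not_dvd Nat.prime_three).mpr hn).symm
  have e2 := pow_orderOf_eq_one g
  rw [e1, pow_mul] at e2
  have h2 := pow_mem hg (3 ^ k)
  have h3 : g ^ 3 ^ k = 1 := by
    generalize g ^ 3 ^ k = u at e2 h2
    refine H3.pow_eq_one_of_coprime hc e2 (h.Q3 u (h.CQ fun q hq => ?_))
    have hM := h.SM (h.QS hq)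
    have k1 : u * q * u⁻¹ * q⁻¹ ∈ J := h1 _ (mul_mem (h.oM.conj (hN h2) hM) (inv_mem hM)) (by
      simpa [mul_assoc] using mul_mem h2 (cj (h.oM.le hM) (inv_mem h2)))
    have k2 := conj_pow_eq (eq_mul_of_mul_inv_eq rfl) (h2 _ k1).symm n
    rw [e2, one_mul, inv_one, mul_one, right_eq_mul] at k2
    rw [← conj_eq_iff.mp (mul_inv_eq_one.mp (H3.pow_eq_one_of_coprime hc k2 (h.J3 _ k1)))]
  exact h1 g (h.oM.mem (hN hg) k h3) hg

omit hπ in
theorem exists_mu : ∃ μ : G → A6, PH M J μ ∧ ∀ s ∈ M, μ s ∈ P6 ↔ s ∈ S := by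
  have : Fact (Nat.Prime 3) := ⟨Nat.prime_three⟩
  have h1 := hμ.card_im h.JS h.SM
  rw [h.cS, h.cJ] at h1
  have key : ∀ A : Subgroup A6, Nat.card A = 9 → IsSylowIn 3 A ⊤ := fun A hA =>
    ⟨le_top, IsPGroup.of_card (n := 2) hA, by
      have := card_mul_relIndex_of_le (le_top : A ≤ ⊤)
      rw [hA, card_top, card_A6] at this
      omega⟩
  obtain ⟨x, -, e⟩ := (key (hμ.im S) (by omega)).exists_conj (key P6 card_P6)
  refine ⟨_, hμ.cj x, fun s hs => ?_⟩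
  rw [← e, mem_conj_smul_iff]
  simp only [mul_assoc, inv_mul_cancel, mul_one, inv_mul_cancel_left]
  exact ⟨hμ.mem_of_im h.JS hs, fun e => hμ.mem_im.mpr ⟨s, hs, e, rfl⟩⟩

end Ctx

end Cfsg.Agent.H8.Mc
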