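import Cfsg.Agent.H8.McL3

/-!
# The three-local setting for the McLaughlin group: the involution `t`
-/

set_option autoImplicit false
set_option linter.unusedSectionVars false

namespace Cfsg.Agent.H8.Mc

open Equiv Subgroup Cfsg.Agent.H1.T3 Cfsg.Agent.H9 Cfsg.Agent.H8.G2 Cfsg.Agent.H4.Small
open scoped Pointwise

variable {G : Type*} [Group G]

/-- The chosen elements. -/
structure El (S J Q L M : Subgroup G) (z : G) (π : G → SL25) (μ : G → A6) (m t g z' : G) : Prop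
    extends Ctx S J Q L M z where
  hπ : PH L Q π
  hμ : PH M J μ
  eS : ∀ s ∈ M, μ s ∈ P6 ↔ s ∈ S
  mM : m ∈ M
  μm : μ m = m0
  mm : m * m = t
  tt : t * t = 1
  gM : g ∈ M
  μg : μ g = g0
  gg : g * g = 1
  gt : g * t = t * g
  gz : g * z * g⁻¹ = z'

variable [Finite G] {S J Q L M : Subgroup G} {z : G} {π : G → SL25} {μ : G → A6} {m t g z' : G}

theorem Ctx.exists_el (h : Ctx S J Q L M z) (hπ : PH L Q π) (hμ : PH M J μ) :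
    ∃ μ m t g z', El S J Q L M z π μ m t g z' := by
  obtain ⟨μ, hμ, eS⟩ := h.exists_mu hμ
  obtain ⟨-, -, -, -, -, -, -, r1, r2, -, r3, r4, -⟩ := rel6
  obtain ⟨m, mM, μm⟩ := hμ.surj m0
  have m4 : m0 ^ 4 = 1 := by rw [show 4 = 2 * 2 from rfl, pow_mul, sq, sq, r3, r4]
  have h1 := h.J3 _ ((hμ.ker (pow_mem mM 4)).mp (by rw [hμ.pow mM, μm, m4]))
  have h2 : μ (m ^ 9) = m0 := by
    rw [hμ.pow mM, μm, show 9 = 4 * 2 + 1 from rfl, pow_succ, pow_mul, m4, one_pow, one_mul]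
  have h3 : m ^ 9 * m ^ 9 * (m ^ 9 * m ^ 9) = 1 := by
    rw [← pow_mul] at h1
    rw [← pow_add, ← pow_add, show 9 + 9 + (9 + 9) = 4 * 3 * 3 from rfl, pow_mul, h1, one_pow]
  have h4 := pow_mem mM 9
  generalize m ^ 9 = m at h2 h3 h4
  have tM := mul_mem h4 h4
  have μt : μ (m * m) = t0 := by rw [hμ.mul h4 h4, h2, r3]
  obtain ⟨g, gM, μg⟩ := hμ.surj g0
  have k0 := mul_mem (h.oM.conj (h.oM.le gM) tM) tM
  have k1 := (hμ.ker k0).mp (by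
    rw [hμ.mul (h.oM.conj (h.oM.le gM) tM) tM, hμ.conj gM tM, μg, μt, r2, r4])
  have k2 := adj3 h3 (h.J3 _ k1)
  have k3 : μ _ = g0 := (hμ.mul k0 gM).trans (by rw [hμ.of_mem k1, one_mul, μg])
  have k4 := mul_mem k0 gM
  generalize g * (m * m) * g⁻¹ * (m * m) * g = g at k2 k3 k4
  have k5 := h.J3 _ ((hμ.ker (mul_mem k4 k4)).mp (by rw [hμ.mul k4 k4, k3, r1]))
  exact ⟨μ, m, _, g ^ 3, _, h, hπ, hμ, eS, h4, h2, rfl, h3, pow_mem k4 3,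
    by rw [hμ.pow k4, k3, pow_three', r1, one_mul], by rw [← (Commute.refl g).mul_pow, k5],
    Commute.pow_left k2 3, rfl⟩

theorem Ctx.NL (h : Ctx S J Q L M z) {x : G} (hx : ∀ s ∈ S, x * s * x⁻¹ ∈ S) : x ∈ Lz z := by
  have h1 : ∀ s ∈ S, s * (x * z * x⁻¹) = x * z * x⁻¹ * s := fun s hs => by
    have := h.zS _ (conj_mem_of_mem_normalizer (inv_mem (mem_normalizer_of_conj_mem hx)) hs)
    calc _ = x * (x⁻¹ * s * x⁻¹⁻¹ * z) * x⁻¹ := by group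
      _ = _ := by rw [this]; group
  exact h.memL.mpr (T3.of_ne h.z1 (h.ZQ _ (h.CQ fun q hq => h1 q (h.QS hq))
    fun q hq => (h1 q (h.QS hq)).symm))

theorem Ctx.CV_inv2 (h : Ctx S J Q L M z) {x y q : G} (hx : x ∈ Lz z)
    (h1 : ∀ q ∈ Q, x * q * x⁻¹ * q ∈ zpowers z) (hq : q ∈ Q) (h2 : y * q * y⁻¹ * q ∈ zpowers z) :
    q ∈ h.CV (x * y) :=
  ⟨hq, by simpa [mul_assoc] using mul_mem (Ctx.nZ hx h2) (h1 _ (inv_mem hq))⟩

namespace El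

variable (h : El S J Q L M z π μ m t g z')
include h

theorem tM : t ∈ M := h.mm ▸ mul_mem h.mM h.mM

theorem μt : μ t = t0 := by rw [← h.mm, h.hμ.mul h.mM h.mM, h.μm, rel6.2.2.2.2.2.2.2.2.2.2.1]

theorem t1 : t ≠ 1 := fun e => rel6.2.2.2.2.2.2.2.2.2.2.2.2.1 (by rw [← h.μt, e, h.hμ.one])

theorem cjM {x y : G} (hx : x ∈ M) (hy : y ∈ M) : x * y * x⁻¹ ∈ M :=
  mul_mem (mul_mem hx hy) (inv_mem hx)

theorem cjJ {x j : G} (hx : x ∈ M) (hj : j ∈ J) : x * j * x⁻¹ ∈ J :=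
  conj_mem_of_mem_normalizer (h.oM.le hx) hj

theorem liftQ {a : A6} (ha : a ∈ P6) : ∃ q ∈ Q, μ q = a := by
  obtain ⟨s, hs, rfl⟩ := h.hμ.surj a
  obtain ⟨j, hj, q, hq, rfl⟩ := h.decJ ((h.eS s hs).mp ha)
  exact ⟨q, hq, by rw [h.hμ.mul (h.hμ.le hj) (h.SM (h.QS hq)), h.hμ.of_mem hj, one_mul]⟩

theorem LN {x : G} (hx : x ∈ M) : x ∈ Lz z ↔ μ x ∈ N6 := by
  constructor
  · intro e
    obtain ⟨q, hq, eq⟩ := h.liftQ rel6.1
    have := h.SM (h.QS hq)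
    refine (all6 _).1 ?_
    rw [← eq, ← h.hμ.conj hx this, h.eS _ (h.cjM hx this)]
    exact h.QS (h.nQ e hq)
  · refine fun e => h.NL fun s hs => ?_
    rw [← h.eS _ (h.cjM hx (h.SM hs)), h.hμ.conj hx (h.SM hs)]
    exact in_N6 _ e _ ((h.eS s (h.SM hs)).mpr hs)

theorem mL : m ∈ Lz z := (h.LN h.mM).mpr (h.μm ▸ rel6.2.2.2.2.2.2.2.2.2.2.2.2.2.2.2.2)

theorem tz : t * z = z * t := h.mm ▸ h.sqc h.mL

theorem tinv : t⁻¹ = t := inv_eq_of_mul_eq_one_right h.tt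

theorem ginv : g⁻¹ = g := inv_eq_of_mul_eq_one_right h.gg

theorem tQ {q : G} (hq : q ∈ Q) : t * q * t⁻¹ * q ∈ zpowers z := by
  have tL := h.ofc h.tz
  have h1 : ∀ q ∈ Q, t * q * t⁻¹ * q ∈ J := fun q hq => by
    have := h.SM (h.QS hq)
    rw [← h.hμ.ker (mul_mem (h.cjM h.tM this) this), h.hμ.mul (h.cjM h.tM this) this,
      h.hμ.conj h.tM this, h.μt]
    exact (in_P6 _ ((h.eS q this).mpr (h.QS hq))).1
  have h2 : ∀ w ∈ Q, w ∈ J → t * w * t⁻¹ * w ∈ zpowers z := fun w hw hw' =>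
    h.mZ.mpr (h.ZQ _ (mul_mem (h.nQ tL hw) hw) fun q hq => by
      have k1 := h.Qc' hw hq
      have k2 := Ctx.Zc h.tz k1
      have k3 := h.Jc _ (h1 q hq) _ (h.cjJ h.tM hw')
      have k4 := Ctx.Zc (h.Qz (mul_mem (h.nQ tL hq) hq)) k1
      have k5 := Ctx.Zc (h.Qz hq) k1
      have k6 := Ctx.Zc (h.Qz (h.nQ tL hw)) k1
      generalize hζ : w * q * w⁻¹ * q⁻¹ = ζ at k2 k4 k5 k6
      have k7 : t * w * t⁻¹ * q⁻¹ * (t * w * t⁻¹)⁻¹ = ζ * q⁻¹ := by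
        calc _ = (t * q * t⁻¹ * q)⁻¹ * (t * q * t⁻¹ * q * (t * w * t⁻¹)) * q⁻¹ *
              (t * w * t⁻¹)⁻¹ := by group
          _ = (t * q * t⁻¹ * q)⁻¹ * (t * ζ * t⁻¹) * (t * q * t⁻¹) := by rw [k3, ← hζ]; group
          _ = (t * q * t⁻¹ * q)⁻¹ * (ζ * (t * q * t⁻¹ * q)) * q⁻¹ := by rw [k2]; group
          _ = _ := by rw [← k4]; group
      rw [← conj_eq_iff]
      calc _ = t * w * t⁻¹ * ζ * (t * w * t⁻¹)⁻¹ * (t * w * t⁻¹ * q⁻¹ * (t * w * t⁻¹)⁻¹)⁻¹ := by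
            rw [← hζ]; group
        _ = (ζ * q) * ζ⁻¹ := by rw [k7, k6]; group
        _ = _ := by rw [← k5]; group)
  have k1 := mul_mem (h.nQ tL hq) hq
  refine mem_of_sq (n := 1) (h.Q3 _ k1) ?_
  have k2 := mul_mem (h.Qc' (h.nQ tL hq) hq) (h2 _ k1 (h1 q hq))
  rw [show t * (t * q * t⁻¹ * q) * t⁻¹ = t * t * q * (t * t)⁻¹ * (t * q * t⁻¹) by group, h.tt] at k2
  simpa [mul_assoc] using k2

theorem tL : t ∈ L ∧ π t = sz := by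
  obtain ⟨x, hx, e⟩ := h.hπ.surj sz
  have h1 := h.cV (g := t * x) (Commute.mul_left h.tz (h.Lc hx)) fun q hq =>
    h.CV_inv2 (h.ofc h.tz) (fun _ => h.tQ) hq (h.invV h.hπ hx e hq)
  have h2 := (mul_mem_cancel_right hx).mp (h.hπ.le h1)
  refine ⟨h2, ?_⟩
  rw [← h.hπ.ker (mul_mem h2 hx), h.hπ.mul h2 hx, e, mul_eq_one_iff_eq_inv] at h1
  rw [h1, inv_eq_of_mul_eq_one_right relS.2.2.2.2.2.2.2.2]

theorem CVt' {q : G} (hq : q ∈ Q) (e : q * t = t * q) : q ∈ zpowers z :=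
  h.CVt h.hπ h.tL.1 h.tL.2 ⟨hq, by rw [← e]; simp⟩

theorem tconj {l : G} (hl : l ∈ Lz z) : l * t * l⁻¹ * t ∈ Q := by
  have h1 := h.oL.conj hl h.tL.1
  refine h.cV (h.Lc (mul_mem h1 h.tL.1)) fun q hq =>
    h.CV_inv2 (h.oL.le h1) (fun q hq => ?_) hq (h.tQ hq)
  simpa [mul_assoc] using Ctx.nZ hl (h.tQ (h.nQ (inv_mem hl) hq))

theorem adj {l : G} (hl : l ∈ Lz z) : ∃ q ∈ Q, q * l * t = t * (q * l) :=
  ⟨_, h.tconj hl, adj3 h.tt (h.Q3 _ (h.tconj hl))⟩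

theorem gL : g ∉ Lz z := fun e => rel6.2.2.2.2.2.2.1 (h.μg ▸ (h.LN h.gM).mp e)

theorem z'J : z' ∈ J := h.gz ▸ h.cjJ h.gM h.zJ

theorem gz' : g * z' * g⁻¹ = z := by
  rw [← h.gz, show g * (g * z * g⁻¹) * g⁻¹ = g * g * z * (g * g)⁻¹ by group, h.gg]; simp

theorem tz' : t * z' = z' * t := by
  rw [← h.gz]
  exact Commute.mul_right (Commute.mul_right h.gt.symm h.tz) (Commute.inv_right h.gt.symm)

theorem z'Z : ¬ T3 z z' := fun e => h.gL (h.memL.mpr (T3.of_ne h.z1 (h.gz ▸ e)))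

theorem z'Q : z' ∉ Q := fun e => h.z'Z (h.mZ.mp (h.CVt' e h.tz'.symm))

theorem z'1 : z' ≠ 1 := fun e => h.z'Z (Or.inl e)

theorem cD : Nat.card ↥(J ⊓ centralizer {t}) = 9 := by
  have h1 := card_inf_ge (n := 3) (A := J ⊓ centralizer {t}) (inf_le_left.trans h.JS) h.QS
    (by rw [h.cS, h.cQ])
  have h2 := card_le_of_le (show Q ⊓ (J ⊓ centralizer {t}) ≤ zpowers z from
    fun x hx => h.CVt' hx.1 (mem_cent.mp hx.2.2))
  rw [h.cZ] at h2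
  have h3 : zpowers z ≤ J ⊓ centralizer {t} := zpowers_le.mpr ⟨h.zJ, mem_cent.mpr h.tz.symm⟩
  have h4 : ¬ Nat.card ↥(J ⊓ centralizer {t}) ≤ 3 := fun e => h.z'Z (h.mZ.mp
    ((eq_of_le_of_card_ge h3 (e.trans h.cZ.ge)).ge ⟨h.z'J, mem_cent.mpr h.tz'.symm⟩))
  have h5 := card_dvd_of_le (inf_le_left : J ⊓ centralizer {t} ≤ J)
  rw [h.cJ, show 81 = 3 ^ 4 by norm_num, Nat.dvd_prime_pow Nat.prime_three] at h5
  obtain ⟨k, hk, e⟩ := h5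
  rw [e] at h1 h4 ⊢
  interval_cases k <;> omega

theorem fuseZ {x : G} (hx : x * z * x⁻¹ ∈ J) : ∃ y ∈ M, T3 (y * z * y⁻¹) (x * z * x⁻¹) := by
  have : Fact (Nat.Prime 3) := ⟨Nat.prime_three⟩
  obtain ⟨n, hn, e⟩ := fuse_of_wc h.syl h.JS h.Jc (h.wc h.hπ) (s := {z}) (g := x)
    (by simpa using h.zJ) (by simpa using hx)
  rw [← e z rfl]
  obtain ⟨l, hl, e'⟩ := exists_conj_le' (R := MulAut.conj n • S) (L := M)
    ⟨h.SM, h.syl.isPGroup, fun e => h.syl.not_dvd (e.trans (by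
      rw [← relIndex_mul_relIndex _ _ _ h.SM le_top]; exact Dvd.intro _ rfl))⟩
    (h.syl.isPGroup.map _) (by
      rintro _ ⟨s, hs, rfl⟩
      exact h.oM.conj hn (h.SM hs))
  have h1 := h.NL (x := l * n) fun s hs => by
    simpa [mul_assoc] using e' (smul_mem_pointwise_smul _ (MulAut.conj l) _
      (smul_mem_pointwise_smul s (MulAut.conj n) S hs))
  exact ⟨l⁻¹, inv_mem hl, by simpa [mul_assoc] using T3.conj (Or.inr (h.memL.mp h1)) l⁻¹⟩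

theorem bruhat {y : G} (hy : y ∈ M) : y ∈ Lz z ∨ ∃ s ∈ S, g * s⁻¹ * y ∈ Lz z := by
  refine (all6 (μ y)).2.2.1.imp (h.LN hy).mpr ?_
  rintro ⟨p, hp, e⟩
  obtain ⟨q, hq, rfl⟩ := h.liftQ hp
  have := h.SM (h.QS hq)
  refine ⟨q, h.QS hq, (h.LN (mul_mem (mul_mem h.gM (inv_mem this)) hy)).mpr ?_⟩
  rwa [h.hμ.mul (mul_mem h.gM (inv_mem this)) hy, h.hμ.mul h.gM (inv_mem this), h.hμ.inv this, h.μg]

theorem two {x : G} (hx : x * z * x⁻¹ ∈ J ⊓ centralizer {t}) :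
    T3 z (x * z * x⁻¹) ∨ T3 z' (x * z * x⁻¹) := by
  obtain ⟨y, hy, e⟩ := h.fuseZ hx.1
  have h1 := mem_cent.mp ((e.symm fun e => h.z1 (conj_eq_one_iff.mp e)).mem hx.2)
  have h2 : y⁻¹ * t * y ∈ Lz z := h.ofc (by
    calc _ = y⁻¹ * (t * (y * z * y⁻¹)) * y := by group
      _ = _ := by rw [← h1]; group)
  have h3 := mul_mem (inv_mem hy) h.tM
  rw [h.LN (mul_mem h3 hy), h.hμ.mul h3 hy, h.hμ.mul (inv_mem hy) h.tM, h.hμ.inv hy, h.μt] at h2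
  rcases (all6 _).2.1 h2 with h4 | h4
  · exact Or.inl (T3.trans (Or.inr (h.memL.mp ((h.LN hy).mpr h4))) e)
  · rw [← h.μg, ← h.hμ.mul h.gM hy, ← h.LN (mul_mem h.gM hy)] at h4
    refine Or.inr (T3.trans ?_ e)
    have := T3.conj (Or.inr (h.memL.mp h4)) g
    rwa [h.gz, show g * (g * y * z * (g * y)⁻¹) * g⁻¹ = g * g * (y * z * y⁻¹) * (g * g)⁻¹ by group,
      h.gg, one_mul, inv_one, mul_one] at this

theorem brz {s y : G} (e : g * s⁻¹ * y ∈ Lz z) : T3 (s * z' * s⁻¹) (y * z * y⁻¹) := by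
  have := T3.conj (Or.inr (h.memL.mp e)) (s * g)
  rwa [show s * g * (g * s⁻¹ * y * z * (g * s⁻¹ * y)⁻¹) * (s * g)⁻¹ =
    s * (g * g) * s⁻¹ * (y * z * y⁻¹) * (s * (g * g) * s⁻¹)⁻¹ by group, h.gg,
    show s * g * z * (s * g)⁻¹ = s * (g * z * g⁻¹) * s⁻¹ by group, h.gz, mul_one, mul_inv_cancel,
    one_mul, inv_one, mul_one] at this

theorem noQ {x : G} (hx : x * z * x⁻¹ ∈ Q) : x * z * x⁻¹ ∈ zpowers z := by
  obtain ⟨l, hl, e⟩ := h.cover h.hπ hx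
  have h1 := h.nQ (h.oL.le hl) hx
  rw [show l * (x * z * x⁻¹) * l⁻¹ = l * x * z * (l * x)⁻¹ by group] at e h1
  obtain ⟨y, hy, e'⟩ := h.fuseZ e
  rcases h.bruhat hy with h2 | ⟨s, hs, h2⟩
  · simpa [mul_assoc] using Ctx.nZ (inv_mem (h.oL.le hl)) (e'.mem (Ctx.nZ h2 (mem_zpowers z)))
  · have h3 := (((h.brz h2).trans e').symm fun e => h.z1 (conj_eq_one_iff.mp e)).mem h1
    exact absurd (by simpa [mul_assoc] using h.nQ (inv_mem (h.ofc (h.zS s hs))) h3) h.z'Q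

end El

end Cfsg.Agent.H8.Mc
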