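import Cfsg.Agent.H8.McL4

/-!
# The three-local setting for the McLaughlin group: the centralizer of `t` in `J`
-/

set_option autoImplicit false
set_option linter.unusedSectionVars false

namespace Cfsg.Agent.H8.Mc

open Equiv Subgroup Cfsg.Agent.H1.T3 Cfsg.Agent.H9 Cfsg.Agent.H8.G2 Cfsg.Agent.H4.Small
open scoped Pointwise

variable {G : Type*} [Group G]

theorem eq_one_of_inv {u : G} (h3 : u ^ 3 = 1) (e : u = u⁻¹) : u = 1 :=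
  H3.pow_eq_one_of_coprime (m := 2) (by norm_num) (by rw [sq]; nth_rewrite 1 [e]; simp) h3

theorem indep {u b : G} (h3 : u ^ 3 = 1) (h1 : u ≠ 1) (e : b * (b * u * b⁻¹) * b⁻¹ = u⁻¹) :
    ¬ T3 u (b * u * b⁻¹) := fun h => by
  rcases T3.of_ne h1 h with h | h <;> rw [h] at e
  · exact h1 (eq_one_of_inv h3 (h.symm.trans e))
  · rw [← conj_inv, h, inv_inv] at e
    exact h1 (eq_one_of_inv h3 e)

variable [Finite G]

theorem six_le {A : Subgroup G} {u v : G} (hu : u ∈ A) (hv : v ∈ A) (h3 : u ^ 3 = 1) (h1 : u ≠ 1)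
    (h : ¬ T3 u v) : 6 ≤ Nat.card A := by
  have h2 := card_mul_relIndex_of_le (zpowers_le.mpr hu)
  rw [Nat.card_zpowers, orderOf_three h3 h1] at h2
  have h4 : (zpowers u).relIndex A ≠ 1 := fun e =>
    h (T3.of_zpowers h3 (relIndex_eq_one.mp e hv))
  have := Nat.card_pos (α := A)
  omega

theorem two_gen {A U : Subgroup G} (hc : Nat.card U ≤ 9) (hA : A ≤ U) {u v : G} (hu : u ∈ A)
    (hv : v ∈ A) (h3 : u ^ 3 = 1) (h1 : u ≠ 1) (h : ¬ T3 u v) : U ≤ A := by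
  have h2 := six_le hu hv h3 h1 h
  have h4 := card_mul_relIndex_of_le hA
  have h5 : A.relIndex U ≠ 0 := index_ne_zero_of_finite
  refine relIndex_eq_one.mp ?_
  by_contra hn
  have := Nat.mul_le_mul h2 (show 2 ≤ A.relIndex U by omega)
  omega

theorem fix_or {U : Subgroup G} (hc : ∀ a ∈ U, ∀ b ∈ U, a * b = b * a) {a : G}
    (ha : ∀ u ∈ U, a * u * a⁻¹ ∈ U) (h1 : ∀ u ∈ U, a * (a * u * a⁻¹) * a⁻¹ = u) :
    (∃ u ∈ U, u ≠ 1 ∧ a * u * a⁻¹ = u) ∨ ∀ u ∈ U, a * u * a⁻¹ = u⁻¹ := by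
  rw [or_iff_not_imp_left]
  intro hn u hu
  push Not at hn
  rw [eq_inv_iff_mul_eq_one]
  by_contra e
  exact hn _ (mul_mem (ha u hu) hu) e (by rw [← conj_mul, h1 u hu, hc u hu _ (ha u hu)])

theorem pm {U : Subgroup G} (h9 : Nat.card U ≤ 9) (h3 : ∀ u ∈ U, u ^ 3 = 1)
    (hc : ∀ a ∈ U, ∀ b ∈ U, a * b = b * a) {a b : G} (ha : ∀ u ∈ U, a * u * a⁻¹ ∈ U)
    (hb : ∀ u ∈ U, b * u * b⁻¹ ∈ U) (h1 : ∀ u ∈ U, a * (a * u * a⁻¹) * a⁻¹ = u)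
    (h2 : ∀ u ∈ U, b * (b * u * b⁻¹) * b⁻¹ = u⁻¹)
    (h4 : ∀ u ∈ U, a * (b * u * b⁻¹) * a⁻¹ = b * (a * u * a⁻¹) * b⁻¹) :
    (∀ u ∈ U, a * u * a⁻¹ = u) ∨ ∀ u ∈ U, a * u * a⁻¹ = u⁻¹ := by
  refine (fix_or hc ha h1).imp_left ?_
  rintro ⟨u, hu, u1, e⟩ x hx
  exact conj_eq_iff.mpr (mem_cent.mp (two_gen (A := U ⊓ centralizer {a}) h9 inf_le_left
    ⟨hu, mem_cent.mpr (conj_eq_iff.mp e).symm⟩
    ⟨hb u hu, mem_cent.mpr (conj_eq_iff.mp (by rw [h4 u hu, e])).symm⟩ (h3 u hu) u1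
    (indep (h3 u hu) u1 (h2 u hu)) hx).2).symm

/-- The elements of an abelian subgroup inverted by `t`. -/
def invd (J : Subgroup G) (hc : ∀ a ∈ J, ∀ b ∈ J, a * b = b * a) (t : G) : Subgroup G where
  carrier := {u | u ∈ J ∧ t * u * t⁻¹ = u⁻¹}
  one_mem' := ⟨one_mem _, by simp⟩
  mul_mem' := fun ⟨a1, a2⟩ ⟨b1, b2⟩ => ⟨mul_mem a1 b1, by
    rw [← conj_mul, a2, b2, ← mul_inv_rev, hc _ a1 _ b1]⟩
  inv_mem' := fun ⟨a1, a2⟩ => ⟨inv_mem a1, by rw [← conj_inv, a2]⟩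

variable {S J Q L M : Subgroup G} {z : G} {π : G → SL25} {μ : G → A6} {m t g z' : G}

namespace El

variable (h : El S J Q L M z π μ m t g z')
include h

theorem mz : m * z * m⁻¹ = z⁻¹ := by
  refine (h.memL.mp h.mL).resolve_left fun hm => ?_
  have JC : J ≤ centralizer {z} := fun j hj => mem_cent.mpr (h.zS j (h.JS hj))
  have h0 : ∀ n ∈ M, n ∈ Lz z → n * z * n⁻¹ = z := fun n hn e =>
    conj_eq_iff.mpr (mem_cent.mp (h.hμ.mem_of_im JC hn (le_of_N6 (fun a ha => by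
      obtain ⟨q, hq, rfl⟩ := h.liftQ ha
      exact h.hμ.mem_im.mpr ⟨q, h.SM (h.QS hq), mem_cent.mpr (h.Qz hq), rfl⟩)
      (h.hμ.mem_im.mpr ⟨m, h.mM, mem_cent.mpr (conj_eq_iff.mp hm), h.μm⟩) ((h.LN hn).mp e))))
  obtain ⟨p, hp⟩ : ∃ p : G → G, ∀ x, p x = x * (t * x * t⁻¹) := ⟨_, fun _ => rfl⟩
  have pm : ∀ a ∈ J, ∀ b ∈ J, p (a * b) = p a * p b := fun a ha b hb => by
    rw [hp, hp, hp, ← conj_mul, mul_assoc a b, ← mul_assoc b, h.Jc b hb _ (h.cjJ h.tM ha)]; group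
  have pz' : p z' = z' * z' := by rw [hp, h.tz', mul_inv_cancel_right]
  have pZ : ∀ ζ ∈ zpowers z, p ζ = ζ * ζ := fun ζ hζ => by
    rw [hp, Ctx.Zc h.tz hζ, mul_inv_cancel_right]
  have h1 : ∀ r ∈ S, ∃ ζ ∈ zpowers z, p (r * z' * r⁻¹) = ζ * (z' * z') := fun r hr => by
    have k1 := h.SJ hr h.z'J
    have k2 := mul_mem (h.cjJ (h.SM hr) h.z'J) (inv_mem h.z'J)
    refine ⟨_, h.tQ k1, ?_⟩
    rw [← pz', ← h.Jc _ k2 _ (h.cjJ h.tM k2), ← hp, ← pm _ k2 _ h.z'J, inv_mul_cancel_right]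
  have h2 : ∀ s ∈ S, μ s ≠ 1 → p (s * z' * s⁻¹) = z⁻¹ * (z' * z') := fun s hs hs1 => by
    have sM := h.SM hs
    have yM := mul_mem (mul_mem h.gM sM) h.gM
    obtain ⟨r, hr, e⟩ := (h.bruhat yM).resolve_left fun e => by
      rw [h.LN yM, h.hμ.mul (mul_mem h.gM sM) h.gM, h.hμ.mul h.gM sM, h.μg] at e
      exact (in_P6 _ ((h.eS s sM).mpr hs)).2.2 hs1 e
    have k1 := h0 _ (mul_mem (mul_mem h.gM (inv_mem (h.SM hr))) yM) e
    have k2 : g * (s * z' * s⁻¹) * g⁻¹ = r * z' * r⁻¹ := by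
      rw [← h.gz]
      calc _ = r * g⁻¹ * (g * r⁻¹ * (g * s * g) * z * (g * r⁻¹ * (g * s * g))⁻¹) * g * r⁻¹ := by group
        _ = r * (g⁻¹ * z * g) * r⁻¹ := by rw [k1]; group
        _ = _ := by rw [h.ginv]
    obtain ⟨ζ, hζ, e1⟩ := h1 s hs
    obtain ⟨ξ, hξ, e2⟩ := h1 r hr
    have k3 : g * ζ * g⁻¹ * (z * z) = ξ * (z' * z') := by
      rw [← e2, ← k2, ← h.gz', conj_mul, conj_mul, ← e1, hp, hp,
        show t * (g * (s * z' * s⁻¹) * g⁻¹) * t⁻¹ = t * g * (s * z' * s⁻¹) * (t * g)⁻¹ by group,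
        ← h.gt]
      group
    have zz := mul_mem (mem_zpowers z) (mem_zpowers z)
    rcases h.mZ.mp hζ with rfl | rfl | rfl
    · rw [mul_one, mul_inv_cancel, one_mul] at k3
      exact absurd (h.mZ.mp (mem_of_sq (n := 1) (h.J3 _ h.z'J)
        ((mul_mem_cancel_left hξ).mp (k3 ▸ zz)))) h.z'Z
    · rw [h.gz, h.Jc _ h.z'J _ (h.ZJ zz), ← mul_assoc ξ, mul_left_inj] at k3
      exact absurd (h.mZ.mp ((mul_mem_cancel_left hξ).mp (k3 ▸ zz))) h.z'Z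
    · exact e1
  obtain ⟨a1, b1, a2, b2, ab1, ab2, -⟩ := rel6
  obtain ⟨s, hs, es⟩ := h.liftQ a1
  obtain ⟨r, hr, er⟩ := h.liftQ b1
  have sM := h.SM (h.QS hs)
  have rM := h.SM (h.QS hr)
  have w1 := h.SJ (h.QS hr) h.z'J
  have w2 := mul_mem (h.cjJ rM h.z'J) (inv_mem h.z'J)
  have hζ := h.Qc' w1 (inv_mem hr)
  have e0 : r * z' * r⁻¹ * (r⁻¹ * z' * r⁻¹⁻¹) =
      r * z' * r⁻¹ * z'⁻¹ * r⁻¹ * (r * z' * r⁻¹ * z'⁻¹)⁻¹ * r⁻¹⁻¹ * (z' * z') := by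
    have := h.Jc _ h.z'J _ (h.cjJ (inv_mem rM) (inv_mem w2))
    calc _ = r * z' * r⁻¹ * z'⁻¹ * (z' * (r⁻¹ * (r * z' * r⁻¹ * z'⁻¹)⁻¹ * r⁻¹⁻¹)) * z' := by group
      _ = _ := by rw [this]; group
  generalize r * z' * r⁻¹ * z'⁻¹ * r⁻¹ * (r * z' * r⁻¹ * z'⁻¹)⁻¹ * r⁻¹⁻¹ = ζ at hζ e0
  have e1 := congrArg p e0
  rw [pm _ (h.cjJ rM h.z'J) _ (h.cjJ (inv_mem rM) h.z'J), h2 r (h.QS hr) (er ▸ b2),
    h2 r⁻¹ (inv_mem (h.QS hr)) (by rw [h.hμ.inv rM, er]; simpa using b2),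
    pm _ (h.ZJ hζ) _ (mul_mem h.z'J h.z'J), pm _ h.z'J _ h.z'J, pz', pZ ζ hζ, mul_assoc,
    ← mul_assoc (z' * z'), h.Jc _ (mul_mem h.z'J h.z'J) _ (inv_mem h.zJ), mul_assoc, ← mul_assoc,
    mul_left_inj] at e1
  have e2 : s * r * z' * (s * r)⁻¹ * (s * r⁻¹ * z' * (s * r⁻¹)⁻¹) =
      ζ * (s * z' * s⁻¹ * (s * z' * s⁻¹)) := by
    calc _ = s * (r * z' * r⁻¹ * (r⁻¹ * z' * r⁻¹⁻¹)) * s⁻¹ := by group
      _ = s * ζ * (z' * z') * s⁻¹ := by rw [e0]; group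
      _ = _ := by rw [Ctx.Zc (h.Qz hs) hζ]; group
  replace e2 := congrArg p e2
  have xs := h.cjJ sM h.z'J
  rw [pm _ (h.cjJ (mul_mem sM rM) h.z'J) _ (h.cjJ (mul_mem sM (inv_mem rM)) h.z'J),
    h2 _ (h.QS (mul_mem hs hr)) (by rwa [h.hμ.mul sM rM, es, er]),
    h2 _ (h.QS (mul_mem hs (inv_mem hr))) (by rwa [h.hμ.mul sM (inv_mem rM), h.hμ.inv rM, es, er]),
    pm _ (h.ZJ hζ) _ (mul_mem xs xs), pm _ xs _ xs, h2 s (h.QS hs) (es ▸ a2), pZ ζ hζ,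
    right_eq_mul, ← e1, ← mul_inv_rev, inv_eq_one] at e2
  exact h.z1 (eq_one_of_inv h.z3 (eq_inv_of_mul_eq_one_left e2))

theorem gmJ : g * m * g⁻¹ * m ∈ J := by
  rw [← h.hμ.ker (mul_mem (h.cjM h.gM h.mM) h.mM), h.hμ.mul (h.cjM h.gM h.mM) h.mM,
    h.hμ.conj h.gM h.mM, h.μg, h.μm, rel6.2.2.2.2.2.2.2.2.2.1]

theorem mz' : m * z' * m⁻¹ = z'⁻¹ := by
  have h1 := conj_eq_iff.mpr (h.Jc _ h.gmJ _ h.zJ)
  have h3 : g⁻¹ * z * g = z' := by rw [← h.gz, h.ginv]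
  rw [← inv_inj, inv_inv, ← h3]
  calc _ = g⁻¹ * (g * m * g⁻¹ * z⁻¹ * (g * m * g⁻¹)⁻¹) * g := by group
    _ = _ := by rw [← h.mz]; nth_rewrite 2 [← h1]; group

theorem cy : centralizer {z * z'} ≤ normalizer (J : Set G) := by
  have yJ := mul_mem h.zJ h.z'J
  have h1 := h.h3 _ yJ fun e => h.z'Z (Or.inr (Or.inr (eq_inv_of_mul_eq_one_right e)))
  have h2 := H7.pCoreIn_normalIn 3 (centralizer {z * z'})
  have h3 := H7.pCoreIn_isPGroup 3 (centralizer {z * z'})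
  generalize H7.pCoreIn 3 (centralizer {z * z'}) = O at h1 h2 h3
  have JC : J ≤ centralizer {z * z'} := fun j hj => mem_cent.mpr (h.Jc j hj _ yJ)
  have OM : O ≤ M := le_sup_right.trans (h.normJ h.hπ (IsPGroup.to_sup_of_normal_right'
    (h.syl.isPGroup.to_le h.JS) h3 (JC.trans h2.2)) le_sup_left)
  have h9 : ∀ x ∈ O, μ x ^ 9 = 1 := fun x hx => by
    obtain ⟨k, hk⟩ := h3 ⟨x, hx⟩
    refine H3.pow_eq_one_of_coprime (m := 3 ^ k) (n := 40) (Nat.Coprime.pow_left k (by norm_num))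
      ?_ ?_
    · rw [← pow_mul, mul_comm, pow_mul, ← h.hμ.pow (OM hx),
        show x ^ 3 ^ k = 1 from congrArg Subtype.val hk, h.hμ.one, one_pow]
    · rw [← pow_mul, show 9 * 40 = Nat.card A6 from card_A6.symm, pow_card_eq_one']
  have OJ : O ≤ J := fun x hx => by
    have xM := OM hx
    have key : ∀ v ∈ M, v * (z * z') = z * z' * v → (μ x * (μ v * μ x * (μ v)⁻¹)) ^ 9 = 1 ∧
        (μ x * (μ v * μ x * (μ v)⁻¹)⁻¹) ^ 9 = 1 := fun v hv e => by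
      have k1 := conj_mem_of_mem_normalizer (h2.2 (mem_cent.mpr e)) hx
      rw [← h.hμ.conj hv xM, ← h.hμ.mul xM (OM k1), ← h.hμ.inv (OM k1),
        ← h.hμ.mul xM (inv_mem (OM k1))]
      exact ⟨h9 _ (mul_mem hx k1), h9 _ (mul_mem hx (inv_mem k1))⟩
    have k1 := key t h.tM (Commute.mul_right h.tz h.tz')
    have k2 := key g h.gM (conj_eq_iff.mp (by rw [← conj_mul, h.gz, h.gz', h.Jc _ h.zJ _ h.z'J]))
    rw [h.μt] at k1
    rw [h.μg] at k2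
    exact (h.hμ.ker xM).mp ((all6 _).2.2.2 (h9 x hx) k1.1 k1.2 k2.1 k2.2)
  rw [← le_antisymm OJ fun j hj => h1 fun x hx => h.Jc x (OJ hx) j hj]
  exact h2.2

theorem pair : Pair (centralizer {t}) (J ⊓ centralizer {t}) z z' g :=
  ⟨inf_le_right, mem_cent.mpr h.gt, h.cD, fun a ha => h.J3 a ha.1,
    fun a ha b hb => h.Jc a ha.1 b hb.1, ⟨h.zJ, mem_cent.mpr h.tz.symm⟩,
    ⟨h.z'J, mem_cent.mpr h.tz'.symm⟩, h.z1, h.z'Z, h.gg, h.gz, fun _ _ => h.two, fun _ hx e =>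
      ⟨conj_mem_of_mem_normalizer (h.cy (mem_cent.mpr e)) h.zJ,
        Subgroup.mul_mem _ (mul_mem hx (mem_cent.mpr h.tz.symm)) (inv_mem hx)⟩⟩

theorem NJ {n : G} (hn : n ∈ Lz z) (e : n * z' * n⁻¹ ∈ S) : n ∈ normalizer (J : Set G) := by
  refine h.wc h.hπ n ?_
  rintro _ ⟨j, hj, rfl⟩
  exact tri_le (L := S.comap (MulAut.conj n).toMonoidHom) (n := 1) h.QS (by rw [h.cS, h.cQ])
    (h.JS h.z'J) h.z'Q (h.J3 _ h.z'J) (fun q hq => h.QS (h.nQ hn hq)) e (h.JS hj)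

/-- The elements of `J` inverted by `t`. -/
abbrev U : Subgroup G := invd J h.Jc t

theorem U3 : ∀ u ∈ h.U, u ^ 3 = 1 := fun u hu => h.J3 u hu.1

theorem Uc : ∀ a ∈ h.U, ∀ b ∈ h.U, a * b = b * a := fun a ha b hb => h.Jc a ha.1 b hb.1

theorem UQ {u : G} (hu : u ∈ h.U) : u ∈ Q := by
  have h1 := h.SL (h.JS hu.1)
  have h2 := h.hπ.conj h.tL.1 h1
  rw [hu.2, h.tL.2, ← sz_comm, mul_inv_cancel_right, h.hπ.eq' (inv_mem h1) h1, inv_inv] at h2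
  exact mem_of_sq (n := 1) (h.U3 u hu) h2

theorem UZ {u : G} (hu : u ∈ h.U) (e : u ∈ zpowers z) : u = 1 :=
  eq_one_of_inv (h.U3 u hu) (by rw [← hu.2, Ctx.Zc h.tz e, mul_inv_cancel_right])

theorem cU : Nat.card h.U ≤ 9 := by
  have := card_inf_ge (n := 9) (A := h.U) (K := Q ⊓ J) (fun u hu => ⟨h.UQ hu, hu.1⟩)
    (le_inf h.ZQ' h.ZJ) (by rw [h.cW, h.cZ])
  rwa [show zpowers z ⊓ h.U = ⊥ from eq_bot_iff.mpr fun u hu => h.UZ hu.2 hu.1, card_bot] at this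

theorem toU {w : G} (hw : w ∈ J) : (t * w * t⁻¹)⁻¹ * w ∈ h.U :=
  ⟨mul_mem (inv_mem (h.cjJ h.tM hw)) hw, by
    rw [show t * ((t * w * t⁻¹)⁻¹ * w) * t⁻¹ = t * t * w⁻¹ * (t * t)⁻¹ * (t * w * t⁻¹) by group,
      h.tt]
    group⟩

theorem exU : ∃ u ∈ h.U, u ≠ 1 := by
  by_contra hn
  push Not at hn
  have := card_le_of_le (show Q ⊓ J ≤ zpowers z from fun w hw => h.CVt' hw.1
    (conj_eq_iff.mp (inv_mul_eq_one.mp (hn _ (h.toU hw.2)))).symm)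
  rw [h.cW, h.cZ] at this
  omega

theorem nU {n : G} (hn : n ∈ normalizer (J : Set G)) (e : n * t = t * n) :
    ∀ u ∈ h.U, n * u * n⁻¹ ∈ h.U := fun u hu => ⟨conj_mem_of_mem_normalizer hn hu.1, by
  rw [conj_inv, ← hu.2, show t * (n * u * n⁻¹) * t⁻¹ = t * n * u * (t * n)⁻¹ by group, ← e]
  group⟩

theorem sqU {n : G} (e : n * n = t) : ∀ u ∈ h.U, n * (n * u * n⁻¹) * n⁻¹ = u⁻¹ := fun u hu => by
  rw [← hu.2, ← e]; group

theorem mt : m * t = t * m := by rw [← h.mm, mul_assoc]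

theorem noN {n : G} (h1 : n * z * n⁻¹ = z⁻¹) (h2 : n * z' * n⁻¹ = z')
    (h3 : ∀ u ∈ h.U, n * u * n⁻¹ = u) : False := by
  have nL := h.memL.mpr (Or.inr h1)
  have k1 : ∀ w ∈ Q, w ∈ J → w ∈ h.CV n := fun w hw hw' => by
    refine mem_of_sq (n := 1) (h.Q3 w hw) ?_
    have := mul_mem (h.le_CV nL (h.tQ hw)) (show _ ∈ h.CV n from
      ⟨h.UQ (h.toU hw'), by rw [h3 _ (h.toU hw'), mul_inv_cancel]; exact one_mem _⟩)
    rwa [← h.Jc _ hw' _ (h.cjJ h.tM hw'), mul_assoc, mul_inv_cancel_left] at this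
  have z'L := h.ofc (h.zS _ (h.JS h.z'J))
  have k2 : ∀ q ∈ Q, n * q * n⁻¹ * q⁻¹ ∈ J := fun q hq => by
    have a1 := mul_mem (h.nQ z'L hq) (inv_mem hq)
    have a2 := h.JQ h.z'J hq
    have a3 := mul_mem (h.nQ nL hq) (inv_mem hq)
    refine h.CVJ h.hπ h.z'J h.z'Q ⟨a3, ?_⟩
    have := mul_mem (k1 _ a1 a2).2 (h.SW (h.QS a3) (inv_mem a1) (inv_mem a2) |> inv_mem |>
      Ctx.nZ (h.ofc (h.Qz a1)) |> inv_mem)
    rw [show n * (z' * q * z'⁻¹ * q⁻¹) * n⁻¹ =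
      n * z' * n⁻¹ * (n * q * n⁻¹) * (n * z' * n⁻¹)⁻¹ * (n * q * n⁻¹)⁻¹ by group, h2] at this
    simpa [mul_assoc] using this
  obtain ⟨u, hu, u1⟩ := h.exU
  refine u1 (h.UZ hu (h.mZ.mpr (h.ZQ u (h.UQ hu) fun q hq => ?_)))
  have a1 := h.Qc' (h.UQ hu) hq
  have a2 : n * (u * q * u⁻¹ * q⁻¹) * n⁻¹ = (u * q * u⁻¹ * q⁻¹)⁻¹ := by
    rcases h.mZ.mp a1 with e | e | e <;> rw [e]
    · simp
    · exact h1
    · rw [← conj_inv, h1]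
  have a3 := Ctx.Zc (h.Qz (mul_mem (h.nQ nL hq) (inv_mem hq))) a1
  have a4 := h.Jc _ (k2 q hq) _ hu.1
  rw [← conj_eq_iff, ← mul_inv_eq_one]
  refine eq_one_of_inv (h.Q3 _ (h.ZQ' a1)) ?_
  rw [← a2, ← conj_eq_iff.mpr a3]
  calc _ = n * q * n⁻¹ * q⁻¹ * u * q * u⁻¹ * (n * q * n⁻¹)⁻¹ := by group
    _ = n * u * n⁻¹ * (n * q * n⁻¹) * (n * u * n⁻¹)⁻¹ * (n * q * n⁻¹)⁻¹ := by
      rw [a4, h3 u hu]; group
    _ = _ := by rw [conj_eq_iff.mpr a3]; group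

/-- The exclusion of the configuration with two commuting components. -/
theorem noComm {l : G} (hl : l * l = t) (h1 : l * z * l⁻¹ = z) (h2 : l * z' * l⁻¹ = z'⁻¹)
    (h3 : l * (g * l * g⁻¹) = g * l * g⁻¹ * l) : False := by
  have lN := h.NJ (h.memL.mpr (Or.inl h1)) (h2 ▸ inv_mem (h.JS h.z'J))
  have lt : l * t = t * l := by rw [← hl, mul_assoc]
  have lU := h.nU lN lt
  have gU := h.nU (h.oM.le h.gM) h.gt
  have mU := h.nU (h.oM.le h.mM) h.mt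
  have g2 : ∀ u ∈ h.U, g * (g * u * g⁻¹) * g⁻¹ = u := fun u _ => by
    rw [show g * (g * u * g⁻¹) * g⁻¹ = g * g * u * (g * g)⁻¹ by group, h.gg]; simp
  have gm : ∀ u ∈ h.U, g * (m * u * m⁻¹) * g⁻¹ = (m * (g * u * g⁻¹) * m⁻¹)⁻¹ := fun u hu => by
    have a1 := mU _ (gU u hu)
    have := conj_eq_iff.mpr (h.Jc _ h.gmJ _ a1.1)
    rw [show g * m * g⁻¹ * m * (m * (g * u * g⁻¹) * m⁻¹) * (g * m * g⁻¹ * m)⁻¹ =
      g * m * g⁻¹ * (m * (m * (g * u * g⁻¹) * m⁻¹) * m⁻¹) * (g * m * g⁻¹)⁻¹ by group,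
      h.sqU h.mm _ (gU u hu)] at this
    rw [← this]
    group
  obtain ⟨u0, hu0, u01⟩ := h.exU
  have npm : ¬ ((∀ u ∈ h.U, g * u * g⁻¹ = u) ∨ ∀ u ∈ h.U, g * u * g⁻¹ = u⁻¹) := fun e => by
    have a1 := gm u0 hu0
    have a2 := mU u0 hu0
    refine u01 (conj_eq_one_iff.mp (eq_one_of_inv (h.U3 _ a2) ?_))
    rcases e with e | e <;> rw [e _ a2, e _ hu0] at a1
    · exact a1
    · rw [← conj_inv, inv_inv] at a1; exact a1.symm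
  have a1 : ∀ u ∈ h.U, l * (g * l * g⁻¹) * u * (l * (g * l * g⁻¹))⁻¹ ∈ h.U :=
    h.nU (mul_mem lN (mul_mem (mul_mem (h.oM.le h.gM) lN) (inv_mem (h.oM.le h.gM))))
      (Commute.mul_left lt (Commute.mul_left (Commute.mul_left h.gt lt) (Commute.inv_left h.gt)))
  have a2 : l * (g * l * g⁻¹) * (l * (g * l * g⁻¹)) = 1 := by
    calc _ = l * (g * l * g⁻¹ * l) * (g * l * g⁻¹) := by group
      _ = l * l * (g * (l * l) * g⁻¹) := by rw [← h3]; group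
      _ = 1 := by rw [hl, h.gt, mul_inv_cancel_right, h.tt]
  have a3 : ∀ u ∈ h.U, l⁻¹ * u * l = (l * u * l⁻¹)⁻¹ := fun u hu => by
    calc _ = l⁻¹ * (l * (l * u * l⁻¹) * l⁻¹)⁻¹ * l := by rw [h.sqU hl u hu, inv_inv]
      _ = _ := by group
  rcases pm h.cU h.U3 h.Uc a1 lU (fun u _ => by
      rw [show ∀ a : G, a * (a * u * a⁻¹) * a⁻¹ = a * a * u * (a * a)⁻¹ from fun a => by group, a2]
      simp) (h.sqU hl) (fun u _ => by
      calc _ = l * (g * l * g⁻¹ * l) * u * (l * (g * l * g⁻¹ * l))⁻¹ := by group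
        _ = _ := by rw [← h3]; group) with e | e
  · obtain ⟨u, hu, u1, e1⟩ := (fix_or h.Uc gU g2).resolve_right fun e => npm (Or.inr e)
    have b1 : g * (l * u * l⁻¹) * g⁻¹ = (l * u * l⁻¹)⁻¹ := by
      rw [← a3 u hu]
      calc _ = l⁻¹ * (l * (g * l * g⁻¹) * (g * u * g⁻¹) * (l * (g * l * g⁻¹))⁻¹) * l := by group
        _ = _ := by rw [e1, e u hu]
    have b2 : g * (m * u * m⁻¹) * g⁻¹ = (m * u * m⁻¹)⁻¹ := by rw [gm u hu, e1]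
    have b3 : T3 (l * u * l⁻¹) (m * u * m⁻¹) := by
      by_contra hn
      exact npm (Or.inr fun x hx => (two_gen (A := invd h.U h.Uc g) h.cU (fun _ e => e.1)
        ⟨lU u hu, b1⟩ ⟨mU u hu, b2⟩ (h.U3 _ (lU u hu)) (fun e => u1 (conj_eq_one_iff.mp e)) hn
        hx).2)
    obtain ⟨n, n1, n2, n3, n4⟩ : ∃ n, n * n = t ∧ n * z * n⁻¹ = z⁻¹ ∧ n * z' * n⁻¹ = z'⁻¹ ∧
        n * u * n⁻¹ = l * u * l⁻¹ := by
      rcases b3 with e | e | e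
      · exact absurd (conj_eq_one_iff.mp e) u1
      · exact ⟨m, h.mm, h.mz, h.mz', e⟩
      · refine ⟨m * t, ?_, ?_, ?_, ?_⟩
        · rw [mul_assoc, ← mul_assoc t, ← h.mt, mul_assoc, h.tt, mul_one, h.mm]
        · rw [mul_assoc m, h.tz, ← h.mz]; group
        · rw [mul_assoc m, h.tz', ← h.mz']; group
        · rw [show m * t * u * (m * t)⁻¹ = m * (t * u * t⁻¹) * m⁻¹ by group, hu.2, ← conj_inv, e,
            inv_inv]
    refine h.noN (n := l⁻¹ * n) ?_ ?_ fun x hx => conj_eq_iff.mpr (mem_cent.mp (two_gen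
      (A := h.U ⊓ centralizer {l⁻¹ * n}) h.cU inf_le_left
      ⟨hu, mem_cent.mpr (conj_eq_iff.mp ?_).symm⟩
      ⟨lU u hu, mem_cent.mpr (conj_eq_iff.mp ?_).symm⟩ (h.U3 u hu) u1
      (indep (h.U3 u hu) u1 (h.sqU hl u hu)) hx).2).symm
    · calc _ = l⁻¹ * (n * z * n⁻¹) * l := by group
        _ = l⁻¹ * (l * z * l⁻¹)⁻¹ * l := by rw [n2, h1]
        _ = _ := by group
    · calc _ = l⁻¹ * (n * z' * n⁻¹) * l := by group
        _ = _ := by rw [n3, ← h2]; group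
    · calc _ = l⁻¹ * (n * u * n⁻¹) * l := by group
        _ = _ := by rw [n4]; group
    · calc _ = l⁻¹ * (n * (n * u * n⁻¹) * n⁻¹) * l := by rw [n4]; group
        _ = _ := by rw [h.sqU n1 u hu, a3 _ (inv_mem hu)]; group
  · refine npm (pm h.cU h.U3 h.Uc gU lU g2 (h.sqU hl) fun u hu => ?_)
    calc _ = l⁻¹ * (l * (g * l * g⁻¹) * (g * u * g⁻¹) * (l * (g * l * g⁻¹))⁻¹) * l := by group
      _ = _ := by rw [e _ (gU u hu), a3 _ (inv_mem (gU u hu))]; group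

theorem notConj (h27 : ¬ 27 ∣ Nat.card (centralizer ({t} : Set G))) {y : G}
    (e : ∀ u ∈ h.U, y * t * y⁻¹ * u = u * (y * t * y⁻¹)) : False := by
  have : Fact (Nat.Prime 3) := ⟨Nat.prime_three⟩
  have h1 := isSylowIn_of_card (p := 3) (k := 2) inf_le_right h.cD h27
  obtain ⟨k, -, h2⟩ := exists_conj_le' h1 (R := MulAut.conj y⁻¹ • h.U)
    ((h.syl.isPGroup.to_le (H := h.U) fun u hu => h.JS hu.1).map _) (fun x hx => mem_cent.mpr (by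
      have := e _ (mem_conj_smul_iff.mp hx)
      calc _ = y⁻¹ * (y⁻¹⁻¹ * x * y⁻¹ * (y * t * y⁻¹)) * y := by group
        _ = _ := by rw [← this]; group))
  obtain ⟨u, hu, u1⟩ := h.exU
  have h3 := six_le hu (h.nU (h.oM.le h.mM) h.mt u hu) (h.U3 u hu) u1
    (indep (h.U3 u hu) u1 (h.sqU h.mm u hu))
  have h4 := card_dvd_of_le h2
  rw [card_conj_smul, card_conj_smul, h.cD] at h4
  have h5 : Nat.card h.U = 9 := by
    have := h.cU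
    interval_cases Nat.card h.U <;> omega
  have h6 := (eq_of_le_of_card_ge h2 (by rw [card_conj_smul, card_conj_smul, h.cD, h5])).ge
    h.pair.zD
  rw [mem_conj_smul_iff, mem_conj_smul_iff,
    show y⁻¹⁻¹ * (k⁻¹ * z * k) * y⁻¹ = y * k⁻¹ * z * (y * k⁻¹)⁻¹ by group] at h6
  exact h.z1 (conj_eq_one_iff.mp (h.UZ h6 (h.noQ (h.UQ h6))))

end El

end Cfsg.Agent.H8.Mc
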