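import Cfsg.Agent.H8.McL5
import Cfsg.Agent.H8.McAlt

/-!
# The three-local setting for the McLaughlin group: the normalizer of `⟨z⟩`
-/

set_option autoImplicit false
set_option linter.unusedSectionVars false

namespace Cfsg.Agent.H8.Mc

open Equiv Subgroup Cfsg.Agent.H1.T3 Cfsg.Agent.H9 Cfsg.Agent.H8.G2 Cfsg.Agent.H4.Small
open scoped Pointwise commutatorElement

variable {G : Type*} [Group G] [Finite G] {S J Q L M : Subgroup G} {z : G} {π : G → SL25}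
  {μ : G → A6} {m t g z' : G}

theorem Ctx.bl (h : Ctx S J Q L M z) {a b v : G} (ha : a ∈ Q) (hb : b ∈ Q) (hv : v ∈ Q) :
    ⁅a * b, v⁆ = ⁅b, v⁆ * ⁅a, v⁆ := by
  simp only [commutatorElement_def]
  rw [← conj_eq_iff.mpr (Ctx.Zc (h.Qz ha) (h.Qc' hb hv))]
  group

theorem Ctx.br (h : Ctx S J Q L M z) {a b v : G} (ha : a ∈ Q) (hb : b ∈ Q) (hv : v ∈ Q) :
    ⁅a, b * v⁆ = ⁅a, b⁆ * ⁅a, v⁆ := by
  simp only [commutatorElement_def]
  rw [← conj_eq_iff.mpr (Ctx.Zc (h.Qz hb) (h.Qc' ha hv))]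
  group

theorem sym3' : ∀ a b : Perm (Fin 3), a ^ 3 = 1 → a ≠ 1 → b * a * b⁻¹ = a → Perm.sign b = 1 := by
  decide +kernel

namespace El

variable (h : El S J Q L M z π μ m t g z')
include h

section cent
variable {c : G} (hc : c ∈ Lz z) (h1 : ∀ x ∈ L, π (c * x * c⁻¹) = π x)
include hc h1

theorem polar {u v : G} (hu : u ∈ Q) (hv : v ∈ Q) :
    ⁅c * (c * u * c⁻¹) * c⁻¹, v⁆ = c * ⁅u, v⁆ * c⁻¹ := by
  have k1 : ∀ v ∈ Q, ⁅v, c * v * c⁻¹⁆ = 1 := fun v hv => by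
    obtain ⟨x, hx, e⟩ := h.cover h.hπ hv
    have xL := h.oL.le hx
    have a1 : x * v * x⁻¹ ∈ h.CV z' := ⟨h.nQ xL hv, by rw [h.Jc _ h.z'J _ e]; simp [mul_assoc]⟩
    have a2 := h.oL.conj (inv_mem xL) (h.SL (h.JS h.z'J))
    have a3 := h.CV_conj xL (h.CV_eq ((h.hπ.eq a2 (h.oL.conj hc a2)).mp (h1 _ a2).symm)
      (h.CV_conj hc (h.CV_conj (inv_mem xL) a1)))
    have a4 := h.Jc _ e _ (h.CVJ h.hπ h.z'J h.z'Q (by simpa [mul_assoc] using a3))
    rw [commutatorElement_eq_one_iff_mul_comm]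
    exact mul_right_cancel (b := x⁻¹) (by simpa [mul_assoc] using a4)
  have k2 : ∀ u ∈ Q, ∀ v ∈ Q, ⁅u, c * v * c⁻¹⁆ = ⁅c * u * c⁻¹, v⁆ := fun u hu v hv => by
    have a1 := k1 _ (mul_mem hu hv)
    rw [← conj_mul, h.bl hu hv (mul_mem (h.nQ hc hu) (h.nQ hc hv)), h.br hv (h.nQ hc hu) (h.nQ hc hv),
      h.br hu (h.nQ hc hu) (h.nQ hc hv), k1 u hu, k1 v hv, mul_one, one_mul] at a1
    rw [eq_inv_of_mul_eq_one_right a1, commutatorElement_inv]
  rw [← k2 _ (h.nQ hc hu) v hv]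
  simp only [commutatorElement_def]
  group

theorem C1a (e : c * z = z * c) : c ∈ Q ∨ c * t ∈ Q := by
  refine (h.CVc h.hπ hc fun f hf => ?_).symm.imp (h.cV e) fun h2 => ?_
  · simpa [mul_assoc] using (h.hπ.eq (h.oL.conj hc hf) hf).mp (h1 f hf)
  have h3 : Q ≤ h.CV (c * c) := fun u hu => ⟨hu, h.mZ.mpr (h.ZQ _
    (mul_mem (h.nQ (mul_mem hc hc) hu) (inv_mem hu)) fun v hv => by
      rw [← commutatorElement_eq_one_iff_mul_comm, h.bl (h.nQ (mul_mem hc hc) hu) (inv_mem hu) hv,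
        show c * c * u * (c * c)⁻¹ = c * (c * u * c⁻¹) * c⁻¹ by group, h.polar hc h1 hu hv,
        commutatorElement_def u, conj_eq_iff.mpr (Ctx.Zc e (h.Qc' hu hv)), ← commutatorElement_def,
        ← h.bl hu (inv_mem hu) hv]
      simp)⟩
  exact h.cV (Commute.mul_left e h.tz) fun q hq =>
    h.CV_inv2 hc (fun _ => h.inv_of hc h2 h3) hq (h.tQ hq)

theorem C1b (e : c * z * c⁻¹ = z⁻¹) : c * c * t ∈ Q := by
  refine h.cV (Commute.mul_left (h.sqc hc) h.tz) fun q hq =>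
    h.CV_inv2 (mul_mem hc hc) (fun u hu => h.mZ.mpr (h.ZQ _
      (mul_mem (h.nQ (mul_mem hc hc) hu) hu) fun v hv => ?_)) hq (h.tQ hq)
  rw [← commutatorElement_eq_one_iff_mul_comm, h.bl (h.nQ (mul_mem hc hc) hu) hu hv,
    show c * c * u * (c * c)⁻¹ = c * (c * u * c⁻¹) * c⁻¹ by group, h.polar hc h1 hu hv,
    commutatorElement_def u]
  rcases h.Qc u hu v hv with a | a | a <;> rw [a]
  · simp
  · rw [e, mul_inv_cancel]
  · rw [← conj_inv, e, mul_inv_cancel]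

end cent

theorem tQ_iff {x : G} (hx : x ∈ L) : π x = sz ↔ x * t ∈ Q := by
  rw [← h.tL.2, h.hπ.eq hx h.tL.1, h.tinv]

theorem exists_kappa : ∃ (lam : SL25 →* alternatingGroup (Fin 5)) (κ : G → Perm (Fin 5)),
    Function.Surjective lam ∧ lam sz = 1 ∧ (∀ a ∈ Lz z, ∀ b ∈ Lz z, κ (a * b) = κ a * κ b) ∧
    (∀ x ∈ L, κ x = lam (π x)) ∧
    ∀ c ∈ Lz z, κ c = 1 → ∀ x ∈ L, π (c * x * c⁻¹) = π x := by
  obtain ⟨lam, hs, hk⟩ := exists_lam
  have k1 : ∀ c ∈ Lz z, ∀ x ∈ L, lam (π x) = 1 → lam (π (c * x * c⁻¹)) = 1 := fun c hc x hx => by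
    rw [hk, hk, h.hπ.ker hx, h.hπ.ker (h.oL.conj hc hx), h.tQ_iff hx, h.tQ_iff (h.oL.conj hc hx)]
    refine Or.imp (h.nQ hc) fun e => ?_
    have := mul_mem (h.nQ hc e) (h.tconj hc)
    rwa [← mul_assoc, conj_mul, mul_assoc x, h.tt, mul_one] at this
  have hs' : Function.Surjective (lam.comp h.hπ.hom) := fun y => by
    obtain ⟨s, rfl⟩ := hs y
    obtain ⟨x, hx, rfl⟩ := h.hπ.surj s
    exact ⟨⟨x, hx⟩, rfl⟩
  have k2 : ∀ c, ∃ σ : Perm (Fin 5), c ∈ Lz z → ∀ x ∈ L,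
      (lam (π (c * x * c⁻¹)) : Perm (Fin 5)) = σ * lam (π x) * σ⁻¹ := fun c => by
    by_cases hc : c ∈ Lz z
    swap
    · exact ⟨1, fun e => absurd e hc⟩
    let β : L →* L := ((MulAut.conj c).toMonoidHom.comp L.subtype).codRestrict L
      fun x => h.oL.conj hc x.2
    let γ := (lam.comp h.hπ.hom).liftOfSurjective hs'
      ⟨(lam.comp h.hπ.hom).comp β, fun x hx => k1 c hc x x.2 hx⟩
    have hγ : ∀ x : L, γ (lam (π x)) = lam (π (c * x * c⁻¹)) := fun x =>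
      (lam.comp h.hπ.hom).liftOfRightInverse_comp_apply _ _ _ x
    obtain ⟨σ, hσ⟩ := aut5 ((alternatingGroup _).subtype.comp γ) (Subtype.val_injective.comp
      ((injective_iff_map_eq_one γ).mpr fun y hy => by
        obtain ⟨x, rfl⟩ := hs' y
        change lam (π x) = 1
        simpa [mul_assoc] using k1 _ (inv_mem hc) _ (h.oL.conj hc x.2) ((hγ x).symm.trans hy)))
    exact ⟨σ, fun _ x hx => by rw [← hσ, ← hγ ⟨x, hx⟩]; rfl⟩
  choose κ hκ using k2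
  have un : ∀ c ∈ Lz z, ∀ σ : Perm (Fin 5), (∀ x ∈ L,
      (lam (π (c * x * c⁻¹)) : Perm (Fin 5)) = σ * lam (π x) * σ⁻¹) → κ c = σ := fun c hc σ e => by
    have : ∀ y : alternatingGroup (Fin 5), σ⁻¹ * κ c * y * (σ⁻¹ * κ c)⁻¹ = y := fun y => by
      obtain ⟨x, rfl⟩ := hs' y
      calc _ = σ⁻¹ * (κ c * lam (π x) * (κ c)⁻¹) * σ := by
            change _ * (lam (π x) : Perm (Fin 5)) * _ = _; group
        _ = _ := by rw [← hκ c hc x x.2, e x x.2]; change _ = (lam (π x) : Perm (Fin 5)); group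
    exact (inv_mul_eq_one.mp (cent5 _ (this _) (this _))).symm
  refine ⟨lam, κ, hs, (hk _).mpr (Or.inr rfl), fun a ha b hb => un _ (mul_mem ha hb) _ fun x hx => ?_,
    fun y hy => un _ (h.oL.le hy) _ fun x hx => ?_, fun c hc e x hx => ?_⟩
  · rw [show a * b * x * (a * b)⁻¹ = a * (b * x * b⁻¹) * a⁻¹ by group,
      hκ a ha _ (h.oL.conj hb hx), hκ b hb x hx]
    group
  · rw [h.hπ.conj hy hx]; simp
  · let β : L →* L := ((MulAut.conj c).toMonoidHom.comp L.subtype).codRestrict L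
      fun x => h.oL.conj hc x.2
    suffices H : L ≤ ((h.hπ.hom.comp β).eqLocus h.hπ.hom).map L.subtype by
      obtain ⟨y, hy, rfl⟩ := H hx
      exact hy
    refine h.oL.ind _ fun y hy k hk' => ⟨⟨y, hy⟩, ?_, rfl⟩
    change π (c * y * c⁻¹) = π y
    have a1 := hκ c hc y hy
    rw [e, one_mul, inv_one, mul_one, ← Subtype.ext_iff, ← inv_mul_eq_one, ← map_inv, ← map_mul,
      hk, inv_mul_eq_one, inv_mul_eq_iff_eq_mul] at a1
    refine a1.resolve_right fun a2 => relS.2.2.2.2.2.1 ?_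
    have a3 := h.hπ.pow hy (3 ^ k)
    rw [hk', h.hπ.one, a2, Commute.mul_pow (sz_comm _), ← h.hπ.pow (h.oL.conj hc hy), conj_pow, hk',
      mul_one, mul_inv_cancel, h.hπ.one, one_mul] at a3
    exact H3.pow_eq_one_of_coprime (Nat.Coprime.pow_right k (by norm_num)) sz_pow a3.symm

theorem QZ {a : G} (ha : a ∈ Q) (e : a * t = t * a) : a ∈ zpowers z := h.CVt' ha e

theorem exists_phi (hx : π z' = sx) : ∃ φ : SL25 →* G, φ sz = t ∧ (∀ s, φ s ∈ L) ∧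
    (∀ s, π (φ s) = s) ∧ φ sl * z' * (φ sl)⁻¹ = z'⁻¹ := by
  obtain ⟨f, fL, ef, f5, ft⟩ : ∃ f ∈ L, π f = sy ∧ f ^ 5 = 1 ∧ f * t = t * f := by
    obtain ⟨f, hf, e⟩ := h.hπ.surj sy
    obtain ⟨q, hq, e'⟩ := h.adj (h.oL.le hf)
    have h0 := mul_mem (h.hπ.le hq) hf
    have h2 : π (q * f) = sy := by rw [h.hπ.mul (h.hπ.le hq) hf, h.hπ.of_mem hq, one_mul, e]
    generalize q * f = f at h0 h2 e'
    have h1 := h.Q3 _ ((h.hπ.ker (pow_mem h0 5)).mp (by rw [h.hπ.pow h0, h2, sy_pow]))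
    refine ⟨f ^ 6, pow_mem h0 6, by rw [h.hπ.pow h0, h2, pow_succ, sy_pow, one_mul], ?_,
      Commute.pow_left e' 6⟩
    rw [← pow_mul] at h1 ⊢
    rw [show 6 * 5 = 5 * 3 * 2 by norm_num, pow_mul, h1, one_pow]
  have z'L := h.SL (h.JS h.z'J)
  have a1 := pow_mem (mul_mem z'L fL) 2
  have a2 := h.QZ ((h.tQ_iff a1).mp (by rw [h.hπ.pow (mul_mem z'L fL), h.hπ.mul z'L fL, hx, ef, sxy]))
    (Commute.mul_left (Commute.pow_left (Commute.mul_left h.tz'.symm ft) 2) rfl)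
  obtain ⟨ζ, eζ⟩ : ∃ ζ, ζ = (z' * f) ^ 2 * t := ⟨_, rfl⟩
  rw [← eζ] at a2
  have ζ3 := h.Q3 _ (h.ZQ' a2)
  have ζL := h.hπ.le (h.ZQ' a2)
  have c1 : Commute ζ z' := (Ctx.Zc (h.Lc z'L) a2).symm
  obtain ⟨φ, e1, e2, e3⟩ := exists_hom_sl25 (x := ζ * z') (y := f) (z := t)
    (by rw [c1.mul_pow, ζ3, h.J3 _ h.z'J, one_mul]) f5 (by rw [sq, h.tt])
    (Commute.mul_right (Ctx.Zc h.tz a2) h.tz') ft.symm (by
      rw [mul_assoc, Commute.mul_pow (Ctx.Zc (h.Lc (mul_mem z'L fL)) a2).symm,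
        eq_mul_inv_of_mul_eq eζ.symm, ← mul_assoc, ← pow_succ, ζ3, one_mul, h.tinv])
  have hL : ∀ s, φ s ∈ L := fun s => (show Subgroup.closure {sx, sy, sz} ≤ L.comap φ from
    (closure_le _).mpr (by
      rintro _ (rfl | rfl | rfl) <;> change φ _ ∈ L
      exacts [e1 ▸ mul_mem ζL z'L, e2 ▸ fL, e3 ▸ h.tL.1])) (closure_sxy ▸ mem_top s)
  have hid : h.hπ.hom.comp (φ.codRestrict L hL) = MonoidHom.id _ :=
    MonoidHom.eq_of_eqOn_dense closure_sxy (by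
      rintro _ (rfl | rfl | rfl) <;> change π (φ _) = _
      · rw [e1, h.hπ.mul ζL z'L, h.hπ.of_mem (h.ZQ' a2), one_mul, hx]; rfl
      · rw [e2, ef]; rfl
      · rw [e3, h.tL.2]; rfl)
  have hπφ : ∀ s, π (φ s) = s := fun s => DFunLike.congr_fun hid s
  refine ⟨φ, e3, hL, hπφ, ?_⟩
  have b1 : φ sl * (ζ * z') * (φ sl)⁻¹ = (ζ * z')⁻¹ := by
    rw [← e1, ← map_inv, ← map_mul, ← map_mul, relS.1, map_inv]
  rw [← conj_mul, conj_eq_iff.mpr (Ctx.Zc (h.Lc (hL sl)) a2)] at b1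
  have b2 : φ sl * t = t * φ sl := by rw [← e3, ← map_mul, ← map_mul, sz_comm]
  have b3 := h.two (x := φ sl * g)
  rw [show φ sl * g * z * (φ sl * g)⁻¹ = φ sl * z' * (φ sl)⁻¹ by rw [← h.gz]; group] at b3
  rcases b3 ⟨by
      rw [eq_inv_mul_of_mul_eq b1]
      exact J.mul_mem (inv_mem (h.ZJ a2)) (inv_mem (mul_mem (h.ZJ a2) h.z'J)),
    Subgroup.mul_mem _ (mul_mem (mem_cent.mpr b2) (mem_cent.mpr h.tz'.symm))
      (inv_mem (mem_cent.mpr b2))⟩ with e | e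
  · have := mul_mem a2 (h.mZ.mpr e)
    rw [b1, inv_mem_iff, mul_mem_cancel_left a2, h.mZ] at this
    exact absurd this h.z'Z
  · refine (T3.of_ne h.z'1 e).resolve_left fun e => relS.2.2.2.2.2.2.1 ?_
    rw [e, ← e1, ← map_inv] at b1
    exact eq_one_of_inv sx_pow (by rw [← hπφ sx⁻¹, ← b1, hπφ])

theorem exists_Phi {φ : SL25 →* G} (e3 : φ sz = t) (hL : ∀ s, φ s ∈ L) (hπφ : ∀ s, π (φ s) = s) :
    ∃ Φ : ↥(Lz z ⊓ centralizer {t}) →* Perm (Fin 3) × Perm (Fin 5),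
      (∀ a, Φ a = 1 ↔ (a : G) = 1 ∨ a = t) ∧ (Φ.range = chi.ker ∨ (Φ.range = ⊤ ∧
        ∃ c, c * c = t ∧ c * z * c⁻¹ = z⁻¹ ∧ ∀ s, c * φ s = φ s * c)) := by
  obtain ⟨lam, κ, hs, ksz, kmul, kL, kker⟩ := h.exists_kappa
  set T := Lz z ⊓ centralizer {t}
  have φt : ∀ s, φ s * t = t * φ s := fun s => by rw [← e3, ← map_mul, ← map_mul, sz_comm]
  have φT : ∀ s, φ s ∈ T := fun s => ⟨h.oL.le (hL s), mem_cent.mpr (φt s)⟩
  have dec : ∀ a ∈ L, a * t = t * a → a * (φ (π a))⁻¹ ∈ zpowers z := fun a ha e =>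
    h.QZ ((h.hπ.eq ha (hL _)).mp (hπφ _).symm) (Commute.mul_left e (Commute.inv_left (φt _)))
  have cop : ∀ ζ ∈ zpowers z, ∀ s n, Nat.Coprime n 3 → (ζ * φ s) ^ n = 1 → ζ = 1 :=
    fun ζ hζ s n hn e => by
      rw [Commute.mul_pow (Ctx.Zc (h.Lc (hL s)) hζ).symm, ← map_pow] at e
      have := congrArg π e
      rw [h.hπ.mul (h.hπ.le (h.ZQ' (pow_mem hζ n))) (hL _), h.hπ.of_mem (h.ZQ' (pow_mem hζ n)),
        one_mul, hπφ, h.hπ.one] at this
      rw [this, map_one, mul_one] at e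
      exact H3.pow_eq_one_of_coprime hn e (h.Q3 _ (h.ZQ' hζ))
  have nE : ∀ c ∈ T, ∀ s, c * φ s * c⁻¹ ∈ φ.range := fun c hc =>
    gen5 (A := (φ.range.comap (MulAut.conj c).toMonoidHom).comap φ) fun s hs => by
      have a1 := h.oL.conj hc.1 (hL s)
      refine ⟨_, (mul_inv_eq_one.mp (cop _ (dec _ a1 (mem_cent.mp (mul_mem (mul_mem hc (φT s))
        (inv_mem hc)).2)) (π (c * φ s * c⁻¹)) 5 (by norm_num) ?_)).symm⟩
      rw [inv_mul_cancel_right, conj_pow, ← map_pow, hs]; simp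
  let κ' : Lz z →* Perm (Fin 5) := MonoidHom.mk' (fun a => κ a) fun a b => kmul a a.2 b b.2
  have kinv : ∀ a ∈ Lz z, κ a⁻¹ = (κ a)⁻¹ := fun a ha => κ'.map_inv ⟨a, ha⟩
  have ev : ∀ c ∈ Lz z, Perm.sign (κ c) = 1 → ∃ s, κ (c * (φ s)⁻¹) = 1 := fun c hc e => by
    obtain ⟨s, hs⟩ := hs ⟨κ c, e⟩
    exact ⟨s, by rw [kmul _ hc _ (inv_mem (φT s).1), kinv _ (φT s).1, kL _ (hL s), hπφ, hs,
      mul_inv_cancel]⟩
  have sqL : ∀ c ∈ Lz z, c * c ∈ L := fun c hc => by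
    obtain ⟨s, e⟩ := ev _ (mul_mem hc hc) (by rw [kmul _ hc _ hc]; simp)
    have a1 := mul_mem (mul_mem hc hc) (inv_mem (φT s).1)
    rcases h.C1a a1 (kker _ a1 e) (Commute.mul_left (h.sqc hc) (Commute.inv_left (h.Lc (hL s))))
      with a | a
    · exact (mul_mem_cancel_right (inv_mem (hL s))).mp (h.hπ.le a)
    · exact (mul_mem_cancel_right (inv_mem (hL s))).mp
        ((mul_mem_cancel_right h.tL.1).mp (h.hπ.le a))
  have cE : ∀ c ∈ T, κ c = 1 → ∀ s, c * φ s = φ s * c := fun c hc e s => by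
    obtain ⟨s', e'⟩ := nE c hc s
    rw [← conj_eq_iff, ← e', ← hπφ s', e', kker c hc.1 e _ (hL s), hπφ]
  have cc : ∀ c ∈ T, κ c = 1 → c * z * c⁻¹ = z⁻¹ → c * c = t := fun c hc e e' => by
    have ct := mem_cent.mp hc.2
    have a1 := h.QZ (h.C1b hc.1 (kker c hc.1 e) e') (Commute.mul_left (Commute.mul_left ct ct) rfl)
    have a2 : c * (c * c * t) * c⁻¹ = c * c * t := conj_eq_iff.mpr
      (Commute.mul_right (Commute.mul_right (Commute.refl c) (Commute.refl c)) ct)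
    rw [← h.tinv, ← mul_eq_one_iff_eq_inv]
    refine eq_one_of_inv (h.Q3 _ (h.ZQ' a1)) ?_
    rcases h.mZ.mp a1 with a | a | a <;> rw [a] at a2 ⊢
    · simp
    · rw [← e', a2]
    · rw [← conj_inv, e'] at a2; exact a2.symm
  have mT : m ∈ T := ⟨h.mL, mem_cent.mpr h.mt⟩
  have km : Perm.sign (κ m) = -1 := by
    refine (Int.units_eq_one_or _).resolve_left fun e => ?_
    obtain ⟨s, e⟩ := ev m h.mL e
    have a1 := mul_mem mT (inv_mem (φT s))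
    have a2 := cc _ a1 e (by
      rw [mul_assoc m, Commute.inv_left (h.Lc (hL s)), ← h.mz]; group)
    have a3 := cE _ a1 e s
    rw [inv_mul_cancel_right] at a3
    have a4 : φ (s * s) = 1 := by
      rw [map_mul, ← mul_right_inj (m * (φ s)⁻¹ * (m * (φ s)⁻¹)), mul_one]
      calc _ = m * (φ s)⁻¹ * m * φ s := by group
        _ = m * (φ s)⁻¹ * (φ s * (m * (φ s)⁻¹)) * φ s := by rw [← a3]
        _ = m * m := by group
        _ = _ := by rw [a2, h.mm]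
    have a5 : lam s = 1 := by
      rcases S3374.invol_eq s (by rw [← hπφ (s * s), a4, h.hπ.one]) with rfl | rfl
      exacts [map_one _, ksz]
    rw [kmul _ h.mL _ (inv_mem (φT s).1), kinv _ (φT s).1, kL _ (hL s), hπφ, a5] at e
    have z'L := h.SL (h.JS h.z'J)
    have a6 := kker m h.mL (by simpa using e) _ z'L
    rw [h.mz', h.hπ.eq' (inv_mem z'L) z'L, inv_inv] at a6
    exact h.z'Q (mem_of_sq (n := 1) (h.J3 _ h.z'J) a6)
  let zT : T := ⟨z, h.ofc rfl, mem_cent.mpr h.tz.symm⟩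
  have zT3 : zT ^ 3 = 1 := Subtype.ext h.z3
  obtain ⟨ρ, ρz, ρE⟩ : ∃ ρ : T →* Perm (Fin 3), ρ zT ≠ 1 ∧ ∀ s, ρ ⟨φ s, φT s⟩ = 1 := by
    have hE : (φ.range.subgroupOf T).Normal := ⟨by
      rintro ⟨_, _⟩ ⟨s, rfl⟩ c
      exact nE c c.2 s⟩
    have hN : (L.subgroupOf T).Normal := ⟨fun x hx c => h.oL.conj c.2.1 hx⟩
    obtain ⟨R⟩ : Nonempty (Sylow 2 T) := inferInstance
    have h1 : L.subgroupOf T ⊔ R = ⊤ := by
      obtain ⟨n, hn⟩ := IsPGroup.iff_card.mp (show IsPGroup 2 (T ⧸ L.subgroupOf T) from fun x => by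
        obtain ⟨x, rfl⟩ := QuotientGroup.mk_surjective x
        exact ⟨1, by
          rw [pow_one, ← QuotientGroup.mk_pow, QuotientGroup.eq_one_iff, sq]; exact sqL x x.2.1⟩)
      obtain ⟨j, -, hj⟩ := (Nat.dvd_prime_pow Nat.prime_two).mp
        ((index_dvd_of_le (le_sup_left : _ ≤ L.subgroupOf T ⊔ R)).trans (dvd_of_eq hn))
      rcases j with _ | j
      · exact index_eq_one.mp hj
      · exact absurd ((hj ▸ dvd_pow_self 2 j.succ_ne_zero).trans (index_dvd_of_le le_sup_right))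
          R.not_dvd_index
    have h2 : IsComplement' (zpowers zT) (φ.range.subgroupOf T ⊔ R) := by
      have mz : ∀ a : T, a ∈ zpowers zT ↔ (a : G) ∈ zpowers z := fun a => by
        rw [mem_zpowers_three zT3, h.mZ]; simp only [Subtype.ext_iff]; rfl
      refine isComplement'_of_disjoint_and_mul_eq_univ (disjoint_def.mpr fun {a} a1 a2 => ?_)
        (Set.eq_univ_of_forall fun a => ?_)
      · rw [← SetLike.mem_coe, normal_mul] at a2
        obtain ⟨e, ⟨s, es⟩, r, hr, rfl⟩ := a2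
        obtain ⟨k, hk⟩ := R.isPGroup' ⟨r, hr⟩
        refine Subtype.ext (cop _ ((mz _).mp a1) s⁻¹ (2 ^ k) (Nat.Coprime.pow_left k (by norm_num)) ?_)
        rw [map_inv, es]
        change ((e : G) * r * (e : G)⁻¹) ^ _ = 1
        rw [conj_pow, show (r : G) ^ 2 ^ k = 1 from congrArg (T.subtype.comp (R : Subgroup T).subtype) hk]
        simp
      · have a1 : a ∈ (↑(L.subgroupOf T ⊔ R) : Set T) := h1 ▸ mem_top a
        rw [normal_mul] at a1
        obtain ⟨b, hb, r, hr, rfl⟩ := a1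
        exact ⟨b * (⟨_, φT (π b)⟩ : T)⁻¹, (mz _).mpr (dec b hb (mem_cent.mp b.2.2)),
          ⟨_, φT (π b)⟩ * r, mul_mem (mem_sup_left ⟨_, rfl⟩) (mem_sup_right hr), by simp [mul_assoc]⟩
    have h3 := h2.index_eq_card
    rw [Nat.card_zpowers, orderOf_three zT3 fun e => h.z1 (congrArg Subtype.val e)] at h3
    let e : T ⧸ (φ.range.subgroupOf T ⊔ R) ≃ Fin 3 := Finite.equivFinOfCardEq h3
    have hk : ∀ a, (e.permCongrHom.toMonoidHom.comp (MulAction.toPermHom T _)) a = 1 ↔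
        a ∈ (φ.range.subgroupOf T ⊔ R).normalCore := fun a => by
      rw [normalCore_eq_ker]
      exact e.permCongrHom.map_eq_one_iff
    refine ⟨_, fun e => h.z1 (congrArg Subtype.val (disjoint_def.mp h2.disjoint (mem_zpowers zT)
      (normalCore_le _ ((hk _).mp e)))), fun s => (hk _).mpr
        (normal_le_normalCore.mpr le_sup_left ⟨s, rfl⟩)⟩
  have ρ3 : ρ zT ^ 3 = 1 := by rw [← map_pow, zT3, map_one]
  have ρc : ∀ c : T, (c * z * (c : G)⁻¹ = z → Perm.sign (ρ c) = 1) ∧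
      (c * z * (c : G)⁻¹ = z⁻¹ → Perm.sign (ρ c) = -1) := fun c =>
    ⟨fun e => sym3' _ _ ρ3 ρz (by
      rw [← map_inv, ← map_mul, ← map_mul]; exact congrArg ρ (Subtype.ext e)),
    fun e => (sym3 _ _ ρ3 ρz).1 (by
      rw [← map_inv, ← map_inv, ← map_mul, ← map_mul]; exact congrArg ρ (Subtype.ext e))⟩
  have ρZ : ∀ a : T, (a : G) ∈ zpowers z → ρ a = 1 → (a : G) = 1 := fun a ha e => by
    rcases h.mZ.mp ha with a1 | a1 | a1
    · exact a1
    · exact absurd ((show a = zT from Subtype.ext a1) ▸ e) ρz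
    · rw [show a = zT⁻¹ from Subtype.ext a1, map_inv, inv_eq_one] at e
      exact absurd e ρz
  let Φ := ρ.prod (κ'.comp (inclusion (inf_le_left : T ≤ _)))
  have hΦ : ∀ a, Φ a = (ρ a, κ a) := fun _ => rfl
  have tT : t ∈ T := e3 ▸ φT sz
  have ρt : ρ ⟨t, tT⟩ = 1 := by simpa only [e3] using ρE sz
  have hle : chi.ker ≤ Φ.range := by
    have k1 : ∀ a b, Perm.sign a = 1 → Perm.sign b = 1 → (a, b) ∈ Φ.range := fun a b ha hb => by
      obtain ⟨s, hs⟩ := hs ⟨b, hb⟩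
      have k2 : (1, b) ∈ Φ.range := ⟨⟨φ s, φT s⟩, by rw [hΦ, ρE, kL _ (hL s), hπφ, hs]⟩
      have k3 : (ρ zT, 1) ∈ Φ.range := ⟨zT, by
        rw [hΦ, kL _ (h.hπ.le h.zQ), h.hπ.of_mem h.zQ, map_one]; rfl⟩
      rcases (sym3 _ a ρ3 ρz).2 ha with rfl | rfl | rfl
      · exact k2
      · simpa using mul_mem k3 k2
      · simpa using mul_mem (inv_mem k3) k2
    rintro ⟨a, b⟩ hab
    replace hab : Perm.sign a * Perm.sign b = 1 := hab
    rcases Int.units_eq_one_or (Perm.sign a) with e | e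
    · exact k1 a b e (by rwa [e, one_mul] at hab)
    · have := mul_mem (k1 (a * (ρ ⟨m, mT⟩)⁻¹) (b * (κ m)⁻¹) (by simp [e, (ρc ⟨m, mT⟩).2 h.mz])
        (by rw [e] at hab; simpa [km, neg_eq_iff_eq_neg] using hab)) ⟨⟨m, mT⟩, rfl⟩
      simpa [hΦ] using this
  refine ⟨Φ, fun a => ⟨fun e => ?_, ?_⟩, ?_⟩
  · rw [hΦ, Prod.mk_eq_one] at e
    have a1 := (h.memL.mp a.2.1).resolve_right fun a1 => by
      have := (ρc a).2 a1
      rw [e.1] at this
      simp at this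
    have at' := mem_cent.mp a.2.2
    refine (h.C1a a.2.1 (kker _ a.2.1 e.2) (conj_eq_iff.mp a1)).imp
      (fun a2 => ρZ a (h.QZ a2 at') e.1) fun a2 => ?_
    rw [← h.tinv, ← mul_eq_one_iff_eq_inv]
    exact ρZ (a * ⟨t, tT⟩) (h.QZ a2 (Commute.mul_left at' (Commute.refl t))) (by rw [map_mul, e.1, ρt, one_mul])
  · rintro (e | e)
    · rw [show a = 1 from Subtype.ext e, map_one]
    · rw [show a = ⟨t, tT⟩ from Subtype.ext e, hΦ, ρt, kL _ h.tL.1, h.tL.2, ksz]; rfl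
  · by_cases hn : Φ.range ≤ chi.ker
    · exact Or.inl (le_antisymm hn hle)
    obtain ⟨x, hx, hx'⟩ := SetLike.not_le_iff_exists.mp hn
    have ht : Φ.range = ⊤ := eq_top_iff.mpr fun y _ => by
      by_cases hy : y ∈ chi.ker
      · exact hle hy
      · refine (mul_mem_cancel_right hx).mp (hle ?_)
        rw [MonoidHom.mem_ker] at hx' hy ⊢
        rw [map_mul, (Int.units_eq_one_or _).resolve_left hx', (Int.units_eq_one_or _).resolve_left hy]
        decide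
    obtain ⟨c, hc⟩ : (swap 0 1, 1) ∈ Φ.range := ht ▸ mem_top _
    rw [hΦ, Prod.mk.injEq] at hc
    have a1 := (h.memL.mp c.2.1).resolve_left fun a1 => by
      have := (ρc c).1 a1
      rw [hc.1] at this
      simp at this
    exact Or.inr ⟨ht, c, cc c c.2 hc.2 a1, a1, cE c c.2 hc.2⟩

end El

end Cfsg.Agent.H8.Mc
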