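import Cfsg.Agent.H8.McL6

/-!
# The three-local setting for the McLaughlin group: the centralizer of `t`
-/

set_option autoImplicit false
set_option linter.unusedSectionVars false

namespace Cfsg.Agent.H8.Mc

open Equiv Subgroup Cfsg.Agent.H1.T3 Cfsg.Agent.H9 Cfsg.Agent.H8.G2 Cfsg.Agent.H4.Small
open scoped Pointwise

variable {G : Type*} [Group G] [Finite G] {S J Q L M : Subgroup G} {z : G} {π : G → SL25}
  {μ : G → A6} {m t g z' : G}

theorem range_equiv {T X Y : Type*} [Group T] [Group X] [Group Y] (p : T →* X) (q : T →* Y)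
    (h : ∀ a, p a = 1 ↔ q a = 1) : Nonempty (p.range ≃* q.range) :=
  ⟨(QuotientGroup.quotientKerEquivRange p).symm.trans
    ((QuotientGroup.quotientMulEquivOfEq (Subgroup.ext h)).trans
      (QuotientGroup.quotientKerEquivRange q))⟩

theorem perm5 : ∀ a : Perm (Fin 5), a ^ 3 = 1 → a ≠ 1 → ∀ b, a * b = b * a →
    (b ^ 5 = 1 → b = 1) ∧ (b ^ 3 = 1 → b = 1 ∨ b = a ∨ b = a⁻¹) := by decide +kernel

theorem alt5 {a b : alternatingGroup (Fin 5)} (h3 : a ^ 3 = 1) (h1 : a ≠ 1) (h : a * b = b * a) :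
    (b ^ 5 = 1 → b = 1) ∧ (b ^ 3 = 1 → T3 a b) := by
  have := perm5 a (congrArg Subtype.val h3) (fun e => h1 (Subtype.ext e)) b (congrArg Subtype.val h)
  refine ⟨fun e => Subtype.ext (this.1 (congrArg Subtype.val e)), fun e => ?_⟩
  rcases this.2 (congrArg Subtype.val e) with e | e | e
  exacts [Or.inl (Subtype.ext e), Or.inr (Or.inl (Subtype.ext e)), Or.inr (Or.inr (Subtype.ext e))]

theorem alt55 {a a' b b' : alternatingGroup (Fin 5) × alternatingGroup (Fin 5)} (h3 : a ^ 3 = 1)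
    (h3' : a' ^ 3 = 1) (h1 : a ≠ 1) (hc : a * a' = a' * a) (hT : ¬ T3 a a') (h5 : b ^ 5 = 1)
    (h5' : b' ^ 5 = 1) (c : a * b = b * a) (c' : a' * b' = b' * a')
    (e : ∃ b, b ^ 5 = 1 ∧ b ≠ 1 ∧ a * b = b * a) (e' : ∃ b, b ^ 5 = 1 ∧ b ≠ 1 ∧ a' * b = b * a') :
    b * b' = b' * b := by
  have k : ∀ a : alternatingGroup (Fin 5) × alternatingGroup (Fin 5), a ^ 3 = 1 →
      (∃ b, b ^ 5 = 1 ∧ b ≠ 1 ∧ a * b = b * a) → a.1 = 1 ∨ a.2 = 1 := by
    rintro a h3 ⟨b, h5, h1, c⟩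
    by_contra hn
    push Not at hn
    exact h1 (Prod.ext
      ((alt5 (congrArg Prod.fst h3) hn.1 (congrArg Prod.fst c)).1 (congrArg Prod.fst h5))
      ((alt5 (congrArg Prod.snd h3) hn.2 (congrArg Prod.snd c)).1 (congrArg Prod.snd h5)))
  have h1' : a' ≠ 1 := fun e => hT (Or.inl e)
  obtain ⟨a1, a2⟩ := a
  obtain ⟨a1', a2'⟩ := a'
  obtain ⟨b1, b2⟩ := b
  obtain ⟨b1', b2'⟩ := b'
  have k1 := k _ h3 e
  have k2 := k _ h3' e'
  simp only [Prod.pow_mk, Prod.mk_eq_one, Prod.mk_mul_mk, Prod.mk.injEq, T3, Prod.inv_mk, ne_eq]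
    at h3 h3' h1 h1' hc hT h5 h5' c c' k1 k2 ⊢
  rcases k1 with rfl | rfl <;> rcases k2 with rfl | rfl
  · exact absurd (by simpa [T3] using (alt5 h3.2 (by simpa using h1) hc.2).2 h3'.2) hT
  · rw [(alt5 h3.2 (by simpa using h1) c.2).1 h5.2, (alt5 h3'.1 (by simpa using h1') c'.1).1 h5'.1]
    simp
  · rw [(alt5 h3.1 (by simpa using h1) c.1).1 h5.1, (alt5 h3'.2 (by simpa using h1') c'.2).1 h5'.2]
    simp
  · exact absurd (by simpa [T3] using (alt5 h3.1 (by simpa using h1) hc.1).2 h3'.1) hT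

theorem inj_odd {t : G} (ht : t * t = 1) (t1 : t ≠ 1) {H : Type*} [Group H]
    {p : centralizer ({t} : Set G) →* H} (hk : ∀ k, p k = 1 ↔ (k : G) = 1 ∨ k = t) {n : ℕ}
    {x y : centralizer ({t} : Set G)} (hx : x ^ (2 * n + 1) = 1) (hy : y ^ (2 * n + 1) = 1)
    (e : p x = p y) : x = y := by
  rw [← inv_mul_eq_one, ← map_inv, ← map_mul, hk, Subgroup.coe_mul, Subgroup.coe_inv,
    inv_mul_eq_one, inv_mul_eq_iff_eq_mul] at e
  refine Subtype.ext (e.resolve_right fun e => t1 ?_)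
  have := congrArg Subtype.val hy
  rwa [Subgroup.coe_pow, e, Commute.mul_pow (mem_cent.mp x.2), ← Subgroup.coe_pow, hx,
    Subgroup.coe_one, one_mul, pow_succ, pow_mul, sq, ht, one_pow, one_mul] at this

namespace El

variable (h : El S J Q L M z π μ m t g z')
include h

theorem quot {φ : SL25 →* G} (e3 : φ sz = t) (hL : ∀ s, φ s ∈ L) (hπφ : ∀ s, π (φ s) = s)
    (hl : φ sl * z' * (φ sl)⁻¹ = z'⁻¹) :
    (∃ f : centralizer ({t} : Set G) →* alternatingGroup (Fin 8), Function.Surjective f ∧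
      ∀ k, f k = 1 ↔ (k : G) = 1 ∨ k = t) ∨
    ∃ θ : centralizer ({t} : Set G) →* Perm (Fin 8), Function.Surjective θ ∧
      (∀ k, θ k = 1 ↔ (k : G) = 1 ∨ k = t) ∧
      ∃ c, c * c = t ∧ c * z * c⁻¹ = z⁻¹ ∧ ∀ s, c * φ s = φ s * c := by
  obtain ⟨Φ, hΦ, hr⟩ := h.exists_Phi e3 hL hπφ
  let tK : centralizer ({t} : Set G) := ⟨t, mem_cent.mpr rfl⟩
  have : (zpowers tK).Normal := ⟨fun a ha b => by
    rw [show b * a * b⁻¹ = a from conj_eq_iff.mpr (mem_cent.mp ((zpowers_le.mpr (mem_cent.mpr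
      (Subtype.ext (mem_cent.mp b.2).symm)) : zpowers tK ≤ centralizer {b}) ha)).symm]
    exact ha⟩
  obtain ⟨H, _, _, p, hp, hk⟩ : ∃ (H : Type _) (_ : Group H) (_ : Finite H)
      (p : centralizer ({t} : Set G) →* H), Function.Surjective p ∧
      ∀ k, p k = 1 ↔ (k : G) = 1 ∨ k = t :=
    ⟨_ ⧸ zpowers tK, inferInstance, inferInstance, QuotientGroup.mk' _,
      QuotientGroup.mk'_surjective _, fun k => by
        rw [QuotientGroup.mk'_apply, QuotientGroup.eq_one_iff, mem_zpowers_two (Subtype.ext h.tt),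
          Subtype.ext_iff, Subtype.ext_iff]
        rfl⟩
  have inj3 : ∀ x y, x ^ 3 = 1 → y ^ 3 = 1 → p x = p y → x = y := fun x y =>
    inj_odd h.tt h.t1 hk (n := 1)
  have inj5 : ∀ x y, x ^ 5 = 1 → y ^ 5 = 1 → p x = p y → x = y := fun x y =>
    inj_odd h.tt h.t1 hk (n := 2)
  have hP := h.pair.map p hp inj3
  set zK : centralizer ({t} : Set G) := ⟨z, h.pair.le h.pair.zD⟩
  set zK' : centralizer ({t} : Set G) := ⟨z', h.pair.le h.pair.z'D⟩
  set gK : centralizer ({t} : Set G) := ⟨g, h.pair.sK⟩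
  have z3 : zK ^ 3 = 1 := Subtype.ext h.z3
  have z3' : zK' ^ 3 = 1 := Subtype.ext (h.J3 _ h.z'J)
  let q := p.comp (inclusion (inf_le_right : Lz z ⊓ centralizer {t} ≤ _))
  obtain ⟨e⟩ := range_equiv q Φ fun a => (hk _).trans (hΦ a).symm
  have hq : q.range = normalizer (zpowers (p zK) : Set H) := by
    ext x
    obtain ⟨x, rfl⟩ := hp x
    rw [mem_normalizer_zpowers_three (hP.cube _ hP.zD) hP.z1, ← map_inv, ← map_inv, ← map_mul,
      ← map_mul]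
    have c3 : (x * zK * x⁻¹) ^ 3 = 1 := by rw [conj_pow, z3]; simp
    constructor
    · rintro ⟨a, ea⟩
      rw [map_mul, map_mul, map_inv, ← ea]
      change p _ * _ * (p _)⁻¹ = _ ∨ p _ * _ * (p _)⁻¹ = _
      rw [← map_inv, ← map_mul, ← map_mul]
      exact (h.memL.mp a.2.1).imp (fun e => congrArg p (Subtype.ext e))
        fun e => congrArg p (Subtype.ext e)
    · exact fun e => ⟨⟨x, h.memL.mpr (e.imp (fun e => congrArg Subtype.val (inj3 _ _ c3 z3 e))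
        fun e => congrArg Subtype.val (inj3 _ _ c3 (by rw [inv_pow, z3, inv_one]) e)), x.2⟩, rfl⟩
  rcases hr with hr | ⟨hr, hc⟩
  · obtain ⟨e'⟩ := hP.a8 ((MulEquiv.subgroupCongr hq.symm).trans
      (e.trans (MulEquiv.subgroupCongr hr)))
    exact Or.inl ⟨e'.toMonoidHom.comp p, e'.surjective.comp hp, fun k =>
      e'.map_eq_one_iff.trans (hk k)⟩
  rcases hP.s8 ((MulEquiv.subgroupCongr hq.symm).trans
    (e.trans ((MulEquiv.subgroupCongr hr).trans topEquiv))) with ⟨⟨e'⟩⟩ | ⟨N, ⟨e'⟩, hN⟩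
  · exact Or.inr ⟨e'.toMonoidHom.comp p, e'.surjective.comp hp, fun k =>
      e'.map_eq_one_iff.trans (hk k), hc⟩
  exfalso
  have φt : ∀ s, φ s * t = t * φ s := fun s => by rw [← e3, ← map_mul, ← map_mul, sz_comm]
  let ψ : SL25 →* centralizer ({t} : Set G) := φ.codRestrict _ fun s => mem_cent.mpr (φt s)
  let ψ' := (MulAut.conj gK).toMonoidHom.comp ψ
  have c1 : ∀ s, zK * ψ s = ψ s * zK := fun s => Subtype.ext (h.Lc (hL s)).symm
  have c2 : ∀ s, zK' * ψ' s = ψ' s * zK' := fun s => by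
    rw [show zK' = gK * zK * gK⁻¹ from Subtype.ext h.gz.symm]
    change _ * (gK * ψ s * gK⁻¹) = gK * ψ s * gK⁻¹ * _
    rw [conj_mul, conj_mul, c1]
  have m3 : ∀ x : H, x ^ 3 = 1 → x ∈ N := fun x e => mem_of_sq (n := 1) e (by
    simpa only [sq] using hN x)
  have m5 : ∀ x : H, x ^ 5 = 1 → x ∈ N := fun x e => mem_of_sq (n := 2) e (by
    simpa only [sq] using hN x)
  have p5 : ∀ (χ : SL25 →* centralizer ({t} : Set G)) (s : SL25), s ^ 5 = 1 →
      p (χ s) ^ 5 = 1 := fun χ s e => by rw [← map_pow, ← map_pow, e, map_one, map_one]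
  have pw : ∀ (x : N) (n : ℕ), (x : H) ^ n = 1 → e' x ^ n = 1 := fun x n e => by
    rw [← map_pow, show x ^ n = 1 from Subtype.ext e, map_one]
  have cm : ∀ (x y : centralizer ({t} : Set G)) (hx : p x ∈ N) (hy : p y ∈ N), x * y = y * x →
      e' ⟨_, hx⟩ * e' ⟨_, hy⟩ = e' ⟨_, hy⟩ * e' ⟨_, hx⟩ := fun x y hx hy e => by
    rw [← map_mul, ← map_mul]
    exact congrArg e' (Subtype.ext (show p x * p y = p y * p x by rw [← map_mul, e, map_mul]))
  have n1 : ∀ (x : centralizer ({t} : Set G)) (hx : p x ∈ N), x ^ 5 = 1 → x ≠ 1 →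
      e' ⟨_, hx⟩ ≠ 1 := fun x hx e5 e1 e => e1 (inj5 _ _ e5 (one_pow _)
        ((congrArg Subtype.val (e'.map_eq_one_iff.mp e)).trans (map_one p).symm))
  have y1 : ψ sy ≠ 1 := fun e => relS.2.2.2.2.2.2.2.1 (by
    rw [← hπφ sy, show φ sy = 1 from congrArg Subtype.val e, h.hπ.one])
  have k1 : ∀ s, s ^ 5 = 1 → ∀ s', s' ^ 5 = 1 → ψ s * ψ' s' = ψ' s' * ψ s := fun s hs s' hs' => by
    have := alt55 (a := e' ⟨_, m3 _ (hP.cube _ hP.zD)⟩) (a' := e' ⟨_, m3 _ (hP.cube _ hP.z'D)⟩)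
      (b := e' ⟨_, m5 _ (p5 ψ s hs)⟩) (b' := e' ⟨_, m5 _ (p5 ψ' s' hs')⟩)
      (pw _ _ (hP.cube _ hP.zD)) (pw _ _ (hP.cube _ hP.z'D))
      (fun e => hP.z1 (congrArg Subtype.val (e'.map_eq_one_iff.mp e)))
      (cm _ _ _ _ (Subtype.ext (h.Jc _ h.zJ _ h.z'J)))
      (fun e => hP.ind ((T3.of_map (φ := e'.toMonoidHom) e'.injective e).map N.subtype))
      (pw _ _ (p5 ψ s hs)) (pw _ _ (p5 ψ' s' hs')) (cm _ _ _ _ (c1 s)) (cm _ _ _ _ (c2 s'))
      ⟨_, pw _ _ (p5 ψ sy sy_pow), n1 _ (m5 _ (p5 ψ sy sy_pow))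
        (by rw [← map_pow, sy_pow, map_one]) y1, cm _ _ _ _ (c1 sy)⟩
      ⟨_, pw _ _ (p5 ψ' sy sy_pow), n1 _ (m5 _ (p5 ψ' sy sy_pow))
        (by rw [← map_pow, sy_pow, map_one]) fun e => y1 (conj_eq_one_iff.mp e), cm _ _ _ _ (c2 sy)⟩
    rw [← map_mul, ← map_mul, e'.injective.eq_iff, Subtype.ext_iff] at this
    change p _ * p _ = p _ * p _ at this
    rw [← conj_eq_iff, ← map_inv, ← map_mul, ← map_mul] at this
    exact conj_eq_iff.mp (inj5 _ _ (by rw [conj_pow, ← map_pow, hs', map_one]; simp)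
      (by rw [← map_pow, hs', map_one]) this)
  have k2 : ψ sl * ψ' sl = ψ' sl * ψ sl := mem_cent.mp
    (gen5 (A := (centralizer {ψ' sl}).comap ψ) (fun s hs => mem_cent.mpr (mem_cent.mp
      (gen5 (A := (centralizer {ψ s}).comap ψ') (fun s' hs' => mem_cent.mpr (k1 s hs s' hs').symm)
        sl)).symm) sl)
  exact h.noComm (l := φ sl) (by rw [← map_mul, relS.2.1, e3]) (conj_eq_iff.mpr (h.Lc (hL _))) hl
    (congrArg Subtype.val k2)

theorem tg : ∃ y ∈ M, y * t * y⁻¹ = g := by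
  obtain ⟨y, hy, e⟩ := h.hμ.surj h0
  have h1 := h.cjM hy h.tM
  have h2 := (h.hμ.eq h1 h.gM).mp (by
    rw [h.hμ.conj hy h.tM, e, h.μt, h.μg, rel6.2.2.2.2.2.2.2.2.2.2.2.2.2.2.1])
  rw [h.ginv] at h2
  refine ⟨_, mul_mem (h.hμ.le h2) hy, ?_⟩
  have := dih3 (conj_sq h.tt) h.gg (h.J3 _ h2)
  calc _ = y * t * y⁻¹ * g * (y * t * y⁻¹) * (y * t * y⁻¹ * g)⁻¹ := by group
    _ = _ := this

theorem ggt : ∃ k ∈ centralizer ({t} : Set G), k * g * k⁻¹ = g * t := by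
  have h1 := h.cjM h.mM h.gM
  have h3 := mul_mem h.gM h.tM
  have h4 : g * t * (g * t) = 1 := by
    rw [mul_assoc, ← mul_assoc t, ← h.gt, mul_assoc, h.tt, mul_one, h.gg]
  have h2 := (h.hμ.eq h1 h3).mp (by
    rw [h.hμ.conj h.mM h.gM, h.hμ.mul h.gM h.tM, h.μm, h.μt, h.μg,
      rel6.2.2.2.2.2.2.2.2.2.2.2.2.2.1])
  rw [inv_eq_of_mul_eq_one_right h4] at h2
  have mK := mem_cent.mpr h.mt
  have gK := mem_cent.mpr h.gt
  refine ⟨m * g * m⁻¹ * (g * t) * m, mul_mem (mul_mem (mul_mem (mul_mem mK gK) (inv_mem mK))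
    (mul_mem gK (mem_cent.mpr rfl))) mK, ?_⟩
  have := dih3 (conj_sq h.gg) h4 (h.J3 _ h2)
  calc _ = m * g * m⁻¹ * (g * t) * (m * g * m⁻¹) * (m * g * m⁻¹ * (g * t))⁻¹ := by group
    _ = _ := this

theorem g1 : g ≠ 1 := fun e => h.gL (e ▸ one_mem _)

theorem gnt : g ≠ t := fun e => h.gL (e ▸ h.ofc h.tz)

end El

end Cfsg.Agent.H8.Mc
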