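import Cfsg.Agent.H8.McL7
import Cfsg.Agent.H8.McAut

/-!
# The three-local setting for the McLaughlin group: conclusion
-/

set_option autoImplicit false
set_option linter.unusedSectionVars false

namespace Cfsg.Agent.H8.Mc

open Equiv Subgroup Cfsg.Agent.H1 Cfsg.Agent.H1.T3 Cfsg.Agent.H9 Cfsg.Agent.H8.G2
  Cfsg.Agent.H4.Small
open scoped Pointwise

variable {G : Type*} [Group G] [Finite G] {S J Q L M : Subgroup G} {z : G} {π : G → SL25}
  {μ : G → A6} {m t g z' : G}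

theorem inv8 {σ : Perm (Fin 8)} (h : σ * σ = 1) : ∃ k ≤ 4, σ.cycleType = Multiset.replicate k 2 ∧
    Perm.sign σ = (-1) ^ k ∧ (k = 0 → σ = 1) ∧
    Nat.card (centralizer {σ}) = (8 - k * 2).factorial * 2 ^ k * k.factorial := by
  have h0 : σ ^ 2 = 1 := by rw [sq, h]
  obtain ⟨k, h1, h2, h3⟩ := card_cent (p := 2) h0
  have h4 := Perm.cycleType_of_pow_prime_eq_one h0
  have h5 := Perm.sum_cycleType σ
  rw [h4, Multiset.sum_replicate, smul_eq_mul, h1] at h5
  rw [show σ.cycleType.card = k by omega] at h4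
  refine ⟨k, by omega, h4, ?_, fun e => ?_, h3⟩
  · rw [Perm.sign_of_cycleType, h4, Multiset.sum_replicate, Multiset.card_replicate, smul_eq_mul,
      pow_add, mul_comm k, pow_mul]
    simp
  · rwa [e, zero_mul, Perm.card_support_eq_zero] at h1

theorem inv8' {σ : Perm (Fin 8)} (h : σ * σ = 1) (h2 : ¬ 2 ∣ (centralizer {σ}).index) :
    Perm.sign σ = 1 := by
  obtain ⟨k, k4, -, ks, -, kn⟩ := inv8 h
  have k6 := (centralizer {σ}).index_mul_card
  rw [kn, Nat.card_perm, Nat.card_fin] at k6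
  generalize (centralizer {σ}).index = n at h2 k6
  rw [ks]
  interval_cases k <;> first | rfl | (norm_num [Nat.factorial] at k6; omega)

theorem two_dvd_idx {K : Type*} [Group K] {t w u : K} (tt : t * t = 1) (t1 : t ≠ 1)
    (hc : ∀ k, k * t = t * k) (e : u * w * u⁻¹ = w * t) : 2 ∣ (centralizer {w}).index := by
  let B : Subgroup K :=
    { carrier := {b | b * w * b⁻¹ = w ∨ b * w * b⁻¹ = w * t}
      one_mem' := Or.inl (by simp)
      mul_mem' := fun {a b} ha hb => by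
        change _ ∨ _
        rw [show a * b * w * (a * b)⁻¹ = a * (b * w * b⁻¹) * a⁻¹ by group]
        rcases hb with hb | hb <;> rw [hb]
        · exact ha
        · rw [← conj_mul, conj_eq_iff.mpr (hc a)]
          rcases ha with ha | ha <;> rw [ha]
          · exact Or.inr rfl
          · exact Or.inl (by rw [mul_assoc, tt, mul_one])
      inv_mem' := fun {a} ha => ha.imp (fun e => by nth_rewrite 1 [← e]; group) fun e => by
        rw [← mul_left_inj t, mul_assoc w, tt, mul_one, mul_assoc, hc, ← mul_assoc, mul_assoc _ w, ← e]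
        group }
  refine dvd_trans (dvd_of_eq ?_) (relIndex_dvd_index_of_le (K := B)
    fun b hb => Or.inl (conj_eq_iff.mpr (mem_cent.mp hb)))
  refine (relIndex_eq_two_iff_exists_notMem_and'.mpr ⟨u, Or.inr e, fun e' => t1 ?_,
    fun b hb => (Or.symm hb).imp (fun e' => mem_cent.mpr (conj_eq_iff.mp ?_))
      fun e' => mem_cent.mpr (conj_eq_iff.mp e')⟩).symm
  · exact mul_eq_left.mp (e.symm.trans (conj_eq_iff.mpr (mem_cent.mp e')))
  · rw [show u * b * w * (u * b)⁻¹ = u * (b * w * b⁻¹) * u⁻¹ by group, e', ← conj_mul, e,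
      conj_eq_iff.mpr (hc u), mul_assoc, tt, mul_one]

section cover

variable {θ : centralizer ({t} : Set G) →* Perm (Fin 8)} (hs : Function.Surjective θ)
  (hk : ∀ k, θ k = 1 ↔ (k : G) = 1 ∨ k = t)
include hs hk

theorem cls {x y : centralizer ({t} : Set G)} (e : (θ x).cycleType = (θ y).cycleType) :
    ∃ k : centralizer ({t} : Set G), (k : G) * x * (k : G)⁻¹ = y ∨
      (k : G) * x * (k : G)⁻¹ = y * t := by
  obtain ⟨k, e⟩ := isConj_iff.mp (Perm.isConj_of_cycleType_eq e)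
  obtain ⟨k, rfl⟩ := hs k
  rw [eq_comm, ← inv_mul_eq_one, ← map_inv, ← map_inv, ← map_mul, ← map_mul, ← map_mul, hk,
    Subgroup.coe_mul, Subgroup.coe_inv, inv_mul_eq_one, inv_mul_eq_iff_eq_mul] at e
  exact ⟨k, e.imp_left Eq.symm⟩

theorem cls_sq (tt : t * t = 1) {x y : centralizer ({t} : Set G)}
    (e : (θ x).cycleType = (θ y).cycleType) (hx : (x : G) * x = 1) : (y : G) * y = 1 := by
  obtain ⟨k, e | e⟩ := cls hs hk e
  · rw [← e, conj_sq hx]
  · have := conj_sq (g := (k : G)) hx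
    rwa [e, mul_assoc, ← mul_assoc t, ← mem_cent.mp y.2, mul_assoc, tt, mul_one] at this

theorem card_K (tt : t * t = 1) (t1 : t ≠ 1) : Nat.card (centralizer ({t} : Set G)) = 80640 := by
  have := θ.ker.card_mul_index
  rw [index_ker, MonoidHom.range_eq_top.mpr hs, card_top, Nat.card_perm, Nat.card_fin,
    show θ.ker = zpowers ⟨t, mem_cent.mpr rfl⟩ from Subgroup.ext fun k => by
      rw [mem_zpowers_two (Subtype.ext tt), MonoidHom.mem_ker, hk, Subtype.ext_iff,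
        Subtype.ext_iff]
      rfl, Nat.card_zpowers, orderOf_two (Subtype.ext tt) fun e => t1 (congrArg Subtype.val e)]
    at this
  rw [← this]; rfl

theorem mem_iff_even {N : Subgroup G} (hN : Idx2 N ⊤) (ht : t ∈ N)
    {a : centralizer ({t} : Set G)} (h1 : Perm.sign (θ a) = -1) (h2 : (a : G) ∉ N)
    (k : centralizer ({t} : Set G)) : (k : G) ∈ N ↔ Perm.sign (θ k) = 1 := by
  have h3 : ∀ k, θ k ∈ (N.subgroupOf _).map θ ↔ (k : G) ∈ N := fun k => ⟨fun ⟨k', a, b⟩ => by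
    rw [← inv_mul_eq_one, ← map_inv, ← map_mul, hk] at b
    refine (mul_mem_cancel_left (inv_mem (show (k' : G) ∈ N from a))).mp ?_
    rcases b with b | b
    · exact (show (k' : G)⁻¹ * k = 1 from b) ▸ one_mem _
    · exact (show (k' : G)⁻¹ * k = t from b).symm ▸ ht, fun e => ⟨k, e, rfl⟩⟩
  rw [← h3]
  refine Idx2.mem_iff_alt (L := ⊤) ⟨le_top, fun a _ b _ => ?_⟩ (MonoidHom.id _)
    (fun _ => mem_top _) (a := θ a) (by rw [Perm.mem_alternatingGroup, h1]; decide)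
    (fun e => h2 ((h3 a).mp e)) (θ k)
  obtain ⟨a, rfl⟩ := hs a
  obtain ⟨b, rfl⟩ := hs b
  rw [← map_mul, h3, h3, h3]
  exact hN.mul _ (mem_top _) _ (mem_top _)

end cover

namespace El

variable (h : El S J Q L M z π μ m t g z')
include h

theorem cov {N : Subgroup G} (hM : M ≤ N) {f : centralizer ({⟨t, hM h.tM⟩} : Set N) →*
    alternatingGroup (Fin 8)} (hs : Function.Surjective f)
    (hk : ∀ k, f k = 1 ↔ (k : G) = 1 ∨ k = t) : Cov (⟨t, hM h.tM⟩ : N) f := by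
  refine ⟨Subtype.ext h.tt, fun e => h.t1 (congrArg Subtype.val e), hs, fun k => ?_,
    ⟨⟨m, hM h.mM⟩, Subtype.ext h.mm⟩, fun e => ?_⟩
  · rw [hk, Subtype.ext_iff, Subtype.ext_iff]; rfl
  · obtain ⟨y, hy, e'⟩ := h.tg
    exact h.gnt (e'.symm.trans (congrArg Subtype.val (e ⟨y, hM hy⟩ (Subtype.ext (by
      change t * (y * t * y⁻¹) = y * t * y⁻¹ * t
      rw [e', h.gt])))))

section s8

variable {θ : centralizer ({t} : Set G) →* Perm (Fin 8)} (hs : Function.Surjective θ)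
  (hk : ∀ k, θ k = 1 ↔ (k : G) = 1 ∨ k = t)
include hs hk

theorem exists_iota {φ : SL25 →* G} (e3 : φ sz = t) (hL : ∀ s, φ s ∈ L) (hπφ : ∀ s, π (φ s) = s)
    (hx : π z' = sx) (hl : φ sl * z' * (φ sl)⁻¹ = z'⁻¹) {c : G} (cc : c * c = t)
    (cz : c * z * c⁻¹ = z⁻¹) (cφ : ∀ s, c * φ s = φ s * c) :
    ∃ ι l c : centralizer ({t} : Set G), (ι : G) * ι = 1 ∧ Perm.sign (θ ι) = -1 ∧
      (∀ y, y * t * y⁻¹ ≠ ι) ∧ (l : G) * l = t ∧ Perm.sign (θ l) = 1 ∧ (c : G) * c = t ∧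
      (θ c).cycleType = Multiset.replicate 1 2 := by
  have φt : ∀ s, φ s * t = t * φ s := fun s => by rw [← e3, ← map_mul, ← map_mul, sz_comm]
  let ψ : SL25 →* centralizer ({t} : Set G) := φ.codRestrict _ fun s => mem_cent.mpr (φt s)
  have ct : c * t = t * c := by rw [← cc, mul_assoc]
  let cK : centralizer ({t} : Set G) := ⟨c, mem_cent.mpr ct⟩
  let tK : centralizer ({t} : Set G) := ⟨t, mem_cent.mpr rfl⟩
  have θt : θ tK = 1 := (hk _).mpr (Or.inr rfl)
  have ll : φ sl * φ sl = t := by rw [← map_mul, relS.2.1, e3]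
  have ev : Perm.sign (θ (ψ sl)) = 1 :=
    (MonoidHom.mem_ker (f := (Perm.sign.comp θ).comp ψ)).mp <| gen5 (A := ((Perm.sign.comp θ).comp ψ).ker) (fun s hs => by
      have := congrArg ((Perm.sign.comp θ).comp ψ) hs
      rw [map_pow, map_one] at this
      exact (Int.units_eq_one_or _).resolve_right fun e => by
        rw [e] at this; exact absurd this (by decide)) sl
  obtain ⟨k, k4, kc, ks, k0, kn⟩ := inv8 (σ := θ cK) (by rw [← map_mul, hk]; exact Or.inr cc)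
  have h5 := five_dvd (g := θ cK) (f := θ (ψ sy))
    (by rw [← map_pow, ← map_pow, sy_pow, map_one, map_one]) (fun e => by
      rcases (hk _).mp e with e | e
      · exact relS.2.2.2.2.2.2.2.1 (by rw [← hπφ sy, show φ sy = 1 from e, h.hπ.one])
      · have : sy = sz := by rw [← hπφ sy, show φ sy = t from e, h.tL.2]
        exact absurd this (by decide))
    (by rw [← map_mul, ← map_mul]; exact congrArg θ (Subtype.ext (cφ sy).symm))
  obtain rfl : k = 1 := by
    rw [kn] at h5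
    have : k ≠ 0 := fun e => h.t1 (by
      rcases (hk _).mp (k0 e) with e | e
      · rw [← cc, show c = 1 from e, one_mul]
      · rw [← cc, show c = t from e, h.tt])
    interval_cases k <;> simp_all [Nat.factorial]
  have h27 : ¬ 27 ∣ Nat.card (centralizer ({t} : Set G)) := by
    rw [card_K hs hk h.tt h.t1]; norm_num
  have z'L := h.SL (h.JS h.z'J)
  have cL := h.memL.mpr (Or.inr cz)
  have a1 := h.QZ ((h.hπ.eq z'L (hL sx)).mp (hx.trans (hπφ sx).symm))
    (Commute.mul_left h.tz'.symm (Commute.inv_left (φt _)))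
  have cN := h.NJ cL (h.JS (by
    have := mul_mem (h.ZJ (Ctx.nZ cL a1)) (mul_mem (inv_mem (h.ZJ a1)) h.z'J)
    rw [mul_inv_rev, inv_inv, inv_mul_cancel_right] at this
    rwa [show c * z' * c⁻¹ = c * (z' * (φ sx)⁻¹) * c⁻¹ * (c * φ sx * c⁻¹) by group,
      conj_eq_iff.mpr (cφ sx)]))
  have lN := h.NJ (h.oL.le (hL sl)) (hl ▸ inv_mem (h.JS h.z'J))
  have i2 : c * φ sl * (c * φ sl) = 1 := by
    rw [mul_assoc, ← mul_assoc (φ sl), ← cφ, mul_assoc, ll, ← mul_assoc, cc, h.tt]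
  have it : c * φ sl * t = t * (c * φ sl) := Commute.mul_left ct (φt sl)
  have si : Perm.sign (θ (cK * ψ sl)) = -1 := by rw [map_mul, map_mul, ks, ev]; simp
  rcases pm h.cU h.U3 h.Uc (h.nU (mul_mem cN lN) it) (h.nU lN (φt sl)) (fun u _ => by
    rw [show ∀ a : G, a * (a * u * a⁻¹) * a⁻¹ = a * a * u * (a * a)⁻¹ from fun a => by group, i2]
    simp) (h.sqU ll) (fun u _ => by
      rw [show ∀ a b : G, a * (b * u * b⁻¹) * a⁻¹ = a * b * u * (a * b)⁻¹ from fun a b => by group,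
        show ∀ a b : G, a * (b * u * b⁻¹) * a⁻¹ = a * b * u * (a * b)⁻¹ from fun a b => by group,
        ← mul_assoc (φ sl), ← cφ]) with e | e
  · exact ⟨cK * ψ sl, ψ sl, cK, i2, si, fun y e' => h.notConj h27 (y := y) fun u hu => by
      rw [e']; exact conj_eq_iff.mp (e u hu), ll, ev, cc, kc⟩
  · refine ⟨cK * ψ sl * tK, ψ sl, cK, ?_, by rw [map_mul, θt, mul_one, si],
      fun y e' => h.notConj h27 (y := y) fun u hu => ?_, ll, ev, cc, kc⟩
    · change c * φ sl * t * (c * φ sl * t) = 1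
      rw [mul_assoc, ← mul_assoc t, ← it, mul_assoc _ t, h.tt, mul_one, i2]
    · rw [e', ← conj_eq_iff]
      change c * φ sl * t * u * (c * φ sl * t)⁻¹ = u
      rw [show c * φ sl * t * u * (c * φ sl * t)⁻¹ = c * φ sl * (t * u * t⁻¹) * (c * φ sl)⁻¹ by group,
        hu.2, e _ (inv_mem hu), inv_inv]

theorem cg {x : centralizer ({t} : Set G)} (e : (θ ⟨g, mem_cent.mpr h.gt⟩).cycleType =
    (θ x).cycleType) : ∃ k ∈ centralizer ({t} : Set G), k * g * k⁻¹ = x := by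
  obtain ⟨k0, hk0, e0⟩ := h.ggt
  obtain ⟨k, e | e⟩ := cls hs hk e
  · exact ⟨k, k.2, e⟩
  · refine ⟨k * k0, mul_mem k.2 hk0, ?_⟩
    rw [show k * k0 * g * (k * k0)⁻¹ = k * (k0 * g * k0⁻¹) * (k : G)⁻¹ by group, e0, ← conj_mul,
      conj_eq_iff.mpr (mem_cent.mp k.2), e, mul_assoc, h.tt, mul_one]

theorem cg' {x : centralizer ({t} : Set G)} (e : (θ ⟨g, mem_cent.mpr h.gt⟩).cycleType =
    (θ x).cycleType) : ∃ y, y * t * y⁻¹ = x := by
  obtain ⟨k, -, e⟩ := h.cg hs hk e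
  obtain ⟨y, -, e'⟩ := h.tg
  exact ⟨k * y, by rw [← e, ← e']; group⟩

theorem ev {ι l c : centralizer ({t} : Set G)} (i2 : (ι : G) * ι = 1) (si : Perm.sign (θ ι) = -1)
    (ni : ∀ y, y * t * y⁻¹ ≠ ι) (l2 : (l : G) * l = t) (sl : Perm.sign (θ l) = 1)
    (c2 : (c : G) * c = t) (kc : (θ c).cycleType = Multiset.replicate 1 2)
    (x : centralizer ({t} : Set G)) (e1 : (x : G) * x = 1) (e2 : Perm.sign (θ x) = 1)
    (e3 : θ x ≠ 1) : (θ ⟨g, mem_cent.mpr h.gt⟩).cycleType = (θ x).cycleType := by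
  let gK : centralizer ({t} : Set G) := ⟨g, mem_cent.mpr h.gt⟩
  have hi : ∀ x : centralizer ({t} : Set G), (x : G) * x = 1 ∨ (x : G) * x = t → θ x * θ x = 1 :=
    fun x e => by rw [← map_mul, hk]; exact e
  obtain ⟨a, a4, ac, as, -⟩ := inv8 (hi ι (Or.inl i2))
  obtain ⟨b, b4, bc, bs, b0, -⟩ := inv8 (hi l (Or.inr l2))
  obtain ⟨d, d4, dc, ds, d0, -⟩ := inv8 (hi gK (Or.inl h.gg))
  have n1 : ∀ x : centralizer ({t} : Set G), (x : G) * x = 1 → ∀ k,
      (θ x).cycleType = Multiset.replicate k 2 → k ≠ 1 ∧ k ≠ b := fun x e k e' =>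
    ⟨fun e1 => h.t1 (c2.symm.trans (cls_sq hs hk h.tt (by rw [e', e1, kc]) e)),
      fun e1 => h.t1 (l2.symm.trans (cls_sq hs hk h.tt (by rw [e', e1, bc]) e))⟩
  have par : ∀ k ≤ 4, ((-1 : ℤˣ) ^ k = 1 → k = 0 ∨ k = 2 ∨ k = 4) ∧
      ((-1 : ℤˣ) ^ k = -1 → k = 1 ∨ k = 3) := by decide
  have a3 : a = 3 := ((par a a4).2 (as ▸ si)).resolve_left (n1 ι i2 a ac).1
  have b1 := (par b b4).1 (bs ▸ sl)
  have b2 : b ≠ 0 := fun e => h.t1 (by
    rcases (hk _).mp (b0 e) with e | e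
    · rw [← l2, e, one_mul]
    · rw [← l2, e, h.tt])
  have d1 : d ≠ 0 := fun e => ((hk _).mp (d0 e)).elim h.g1 h.gnt
  have d2 := n1 gK h.gg d dc
  have d3 : d ≠ 3 := fun e => by
    obtain ⟨y, e⟩ := h.cg' hs hk (x := ι) (by rw [dc, ac, e, a3])
    exact ni y e
  obtain ⟨k, k4, kc, ks, k0, -⟩ := inv8 (hi x (Or.inl e1))
  have := (par k k4).1 (ks ▸ e2)
  have := n1 x e1 k kc
  have := _root_.mt k0 e3
  rw [kc, dc, show k = d by omega]

theorem zT (ev : ∀ x : centralizer ({t} : Set G), (x : G) * x = 1 → Perm.sign (θ x) = 1 →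
      θ x ≠ 1 → (θ ⟨g, mem_cent.mpr h.gt⟩).cycleType = (θ x).cycleType)
    {w : centralizer ({t} : Set G)} (w2 : (w : G) * w = 1) (w1 : θ w ≠ 1) :
    2 ∣ (centralizer {w}).index := by
  by_contra k3
  obtain ⟨k0, hk0, e0⟩ := h.ggt
  have k2 : centralizer {w} ≤ (centralizer {θ w}).comap θ := fun a ha =>
    mem_cent.mpr (by rw [← map_mul, mem_cent.mp ha, map_mul])
  have k5 : ¬ 2 ∣ (centralizer {θ w}).index := fun e => k3 (e.trans (by
    rw [← index_comap_of_surjective _ hs]; exact index_dvd_of_le k2))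
  obtain ⟨k, hk', e⟩ := h.cg hs hk (ev w w2 (inv8' (by rw [← map_mul, hk]; exact Or.inl w2) k5) w1)
  have k7 : k * k0 * k⁻¹ * (w : G) * (k * k0 * k⁻¹)⁻¹ = w * t := by
    calc _ = k * (k0 * g * k0⁻¹) * k⁻¹ := by rw [← e]; group
      _ = _ := by rw [e0, ← conj_mul, e, conj_eq_iff.mpr (mem_cent.mp hk')]
  exact k3 (two_dvd_idx (t := ⟨t, mem_cent.mpr rfl⟩)
    (u := ⟨_, mul_mem (mul_mem hk' hk0) (inv_mem hk')⟩) (Subtype.ext h.tt)
    (fun e => h.t1 (congrArg Subtype.val e)) (fun k => Subtype.ext (mem_cent.mp k.2))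
    (Subtype.ext k7))

theorem s8 {ι : centralizer ({t} : Set G)} (i2 : (ι : G) * ι = 1) (si : Perm.sign (θ ι) = -1)
    (ni : ∀ y, y * t * y⁻¹ ≠ ι) (ev : ∀ x : centralizer ({t} : Set G), (x : G) * x = 1 →
      Perm.sign (θ x) = 1 → θ x ≠ 1 → (θ ⟨g, mem_cent.mpr h.gt⟩).cycleType = (θ x).cycleType) :
    ∃ N, Idx2 N ⊤ ∧ (ι : G) ∉ N := by
  have : Fact (Nat.Prime 2) := ⟨Nat.prime_two⟩
  obtain ⟨T, hT, tT⟩ := exists_isSylowIn_ge (p := 2) (L := centralizer {t}) (R := zpowers t)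
    (zpowers_le.mpr (mem_cent.mpr rfl)) (IsPGroup.of_card (n := 1) (by
      rw [Nat.card_zpowers, orderOf_two h.tt h.t1, pow_one]))
  have hT' := syl_of_norm (L := ⊤) hT (fun x hx => mem_cent.mpr (conj_eq_iff.mp (by
    by_contra hn
    let w : centralizer ({t} : Set G) :=
      ⟨_, hT.le (conj_mem_of_mem_normalizer hx.1 (tT (mem_zpowers t)))⟩
    have w2 : (w : G) * w = 1 := conj_sq h.tt
    have w1 : θ w ≠ 1 := fun e => ((hk _).mp e).elim (fun e => h.t1 (conj_eq_one_iff.mp e)) hn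
    have k1 : T.subgroupOf _ ≤ centralizer {w} := fun a ha => mem_cent.mpr (Subtype.ext (by
      have := mem_cent.mp (hT.le (conj_mem_of_mem_normalizer (inv_mem hx.1)
        (show (a : G) ∈ T from ha)))
      change a * (x * t * x⁻¹) = x * t * x⁻¹ * a
      calc _ = x * (x⁻¹ * a * x⁻¹⁻¹ * t) * x⁻¹ := by group
        _ = _ := by rw [this]; group))
    exact hT.not_dvd ((h.zT hs hk ev w2 w1).trans (index_dvd_of_le k1))))) (hT.le.trans le_top)
  refine thompson_transfer (A := (Perm.sign.comp θ).ker.map (centralizer {t}).subtype) ?_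
    (mem_top _) i2 ?_
  · have k1 : ¬ 2 ∣ (centralizer ({t} : Set G)).index := fun e => hT'.not_dvd (by
      rw [relIndex_top_right]; exact e.trans (index_dvd_of_le hT.le))
    rw [relIndex_top_right, index_map_subtype, index_ker, MonoidHom.range_eq_top.mpr (by
      rw [MonoidHom.coe_comp]; exact (Perm.sign_surjective (Fin 8)).comp hs), card_top, Nat.card_eq_fintype_card,
      Fintype.card_units_int]
    omega
  · rintro y - ⟨x, hx, e⟩
    have x2 : (x : G) * x = 1 := by rw [show (x : G) = _ from e, conj_sq i2]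
    by_cases x1 : θ x = 1
    · rcases (hk _).mp x1 with e' | e'
      · rw [show ι = 1 from Subtype.ext (conj_eq_one_iff.mp (e.symm.trans e')), map_one, map_one] at si
        exact absurd si (by decide)
      · exact ni y⁻¹ ((congrArg (fun a => y⁻¹ * a * y⁻¹⁻¹) (e'.symm.trans e)).trans (by group))
    · obtain ⟨y', e'⟩ := h.cg' hs hk (ev x x2 hx x1)
      exact ni (y⁻¹ * y') (by
        rw [show y⁻¹ * y' * t * (y⁻¹ * y')⁻¹ = y⁻¹ * (y' * t * y'⁻¹) * y by group, e',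
          show (x : G) = _ from e]
        group)

theorem aut {N : Subgroup G} (hN : Idx2 N ⊤) {ι : centralizer ({t} : Set G)}
    (si : Perm.sign (θ ι) = -1) (ni : (ι : G) ∉ N) : Nonempty (G ≃* MulAut Spor.McL) := by
  have hM : M ≤ N := h.oM.ind N fun y _ k hk => by
    obtain ⟨n, e⟩ : Odd (3 ^ k) := Odd.pow (by decide)
    exact mem_of_sq (e ▸ hk) (hN.sq (mem_top _))
  have hE := mem_iff_even hs hk hN (hM h.tM) si ni
  let j : centralizer ({⟨t, hM h.tM⟩} : Set N) →* centralizer ({t} : Set G) :=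
    (N.subtype.comp (Subgroup.subtype _)).codRestrict _ fun k =>
      mem_cent.mpr (congrArg Subtype.val (mem_cent.mp k.2))
  have hc := h.cov hM (f := (θ.comp j).codRestrict _ fun k => (hE (j k)).mp k.1.2) (fun x => by
    obtain ⟨k, e⟩ := hs x
    exact ⟨⟨⟨k, (hE k).mpr (e ▸ x.2)⟩, mem_cent.mpr (Subtype.ext (mem_cent.mp k.2))⟩,
      Subtype.ext e⟩) fun k => Subtype.ext_iff.trans (hk (j k))
  obtain ⟨e⟩ := hc.mcl
  have : N.Normal := ⟨fun a ha b => (hN.conj (mem_top _) (mem_top _)).mpr ha⟩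
  have hi : Function.Injective (MulAut.conjNormal : G →* MulAut N) :=
    (injective_iff_map_eq_one _).mpr fun x hx => by
      have k1 : ∀ a ∈ N, x * a = a * x := fun a ha => conj_eq_iff.mp (by
        simpa using congrArg Subtype.val (DFunLike.congr_fun hx ⟨a, ha⟩))
      have k2 := fun q hq => k1 q (hM (h.SM (h.QS hq)))
      have k3 := conj_eq_iff.mpr (k1 m (hM h.mM)).symm
      rcases h.ZQ x (h.CQ fun q hq => (k2 q hq).symm) k2 with e | e | e
      · exact e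
      · rw [e, h.mz] at k3
        exact absurd (eq_one_of_inv h.z3 k3.symm) h.z1
      · rw [e, ← conj_inv, h.mz, inv_inv] at k3
        exact absurd (eq_one_of_inv h.z3 k3) h.z1
  have hb := (Nat.bijective_iff_injective_and_card _).mpr ⟨hi, le_antisymm
    (Nat.card_le_card_of_injective _ hi) (hc.card_aut.trans_eq (by
      rw [mul_comm, hN.card (mem_top _) ni, card_top]))⟩
  exact ⟨(MulEquiv.ofBijective _ hb).trans (MulAut.congr e)⟩

end s8

theorem main (hx : π z' = sx) :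
    Nonempty (G ≃* Spor.McL) ∨ Nonempty (G ≃* MulAut Spor.McL) := by
  obtain ⟨φ, e3, hL, hπφ, hl⟩ := h.exists_phi hx
  rcases h.quot e3 hL hπφ hl with ⟨f, hs, hk⟩ | ⟨θ, hs, hk, c, cc, cz, cφ⟩
  · refine Or.inl (Cov.mcl (f := f) ⟨h.tt, h.t1, hs, hk, ⟨m, h.mm⟩, fun e => ?_⟩)
    obtain ⟨y, -, e'⟩ := h.tg
    exact h.gnt (e'.symm.trans (e y (by rw [e']; exact h.gt.symm)))
  · obtain ⟨ι, l, c, i2, si, ni, l2, sl, c2, kc⟩ := h.exists_iota hs hk e3 hL hπφ hx hl cc cz cφ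
    obtain ⟨N, hN, e⟩ := h.s8 hs hk i2 si ni (h.ev hs hk i2 si ni l2 sl c2 kc)
    exact Or.inr (h.aut hs hk hN si e)

end El

theorem Ctx.main (h : Ctx S J Q L M z) (hπ : PH L Q π) (hμ : PH M J μ) :
    Nonempty (G ≃* Spor.McL) ∨ Nonempty (G ≃* MulAut Spor.McL) := by
  obtain ⟨μ, m, t, g, z', h⟩ := h.exists_el hπ hμ
  have hz := h.SL (h.JS h.z'J)
  obtain ⟨x, e⟩ := conj_sx (g := π z') (by rw [← hπ.pow hz, h.J3 _ h.z'J, hπ.one])
    fun e => h.z'Q ((hπ.ker hz).mp e)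
  exact El.main { h with hπ := hπ.cj x } e

end Cfsg.Agent.H8.Mc
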