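import Cfsg.Agent.H8.P3Init
import Cfsg.Agent.H7.P3Six
import Cfsg.Agent.H7.P3Exo
import Cfsg.Agent.H2.P3SixK

/-!
# The `Sp₆(2)` case
-/

set_option autoImplicit false
set_option linter.unusedSectionVars false
set_option synthInstance.maxSize 4000
set_option maxRecDepth 100000

namespace Cfsg.Agent.H8.P3

open Subgroup Cfsg.Agent.H9 Cfsg.Agent.H1.T3 Mx Equiv
open Cfsg.Agent.H1.S9 (Emb im mem_im im_mono im_congr)
open scoped Pointwise commutatorElement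

attribute [local irreducible] mz mc my ms mu mw mp mx Mx.mt me1 me2 me3 mb mr1 mr2 mr3

/-- The image of `b`. -/
def pβ : Perm (Fin 6) := swap 0 1 * swap 1 2 * (swap 4 5 * swap 3 4)

/-- The image of `τ`. -/
def pτ : Perm (Fin 6) := swap 0 5 * swap 1 4 * swap 2 3

theorem s_sp : (∀ σ : Perm (Fin 6), σ * pτ = pτ * σ → σ ^ 12 = 1 ∧ (σ ^ 4 = 1 →
    ((σ * pβ * σ⁻¹ * pβ⁻¹) ^ 3 = 1 → σ * pβ * σ⁻¹ * pβ⁻¹ = 1) → σ * σ = 1 ∧
      (σ * (pβ * σ * pβ⁻¹) * (pβ⁻¹ * σ * pβ) = 1 ∨ σ * (pβ * σ * pβ⁻¹) * (pβ⁻¹ * σ * pβ) = pτ) ∧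
      (σ * (swap 0 1 * swap 4 5) = swap 0 1 * swap 4 5 * σ →
        σ = 1 ∨ σ = swap 2 3 ∨ σ = pτ ∨ σ = swap 2 3 * pτ))) ∧
    pβ * (swap 2 3 * pβ * (swap 2 3)⁻¹ * pβ⁻¹ * pτ) * pβ⁻¹ = swap 2 3 ∧
    (swap 2 3 * pβ * (swap 2 3)⁻¹ * pβ) ^ 3 = 1 ∧ swap 2 3 * pβ * (swap 2 3)⁻¹ * pβ ≠ 1 ∧
    swap 2 3 * pτ = pτ * swap 2 3 ∧ swap 2 3 * (pβ⁻¹ * swap 2 3 * pβ) * (pβ * swap 2 3 * pβ⁻¹) = pτ := by
  decide +kernel

theorem m_sp : (∀ a ∈ C, a * mT = mT * a → a ^ 12 = 1 ∧ (a ^ 4 = 1 →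
    (a = 1 ∨ a = mT ∨ ∃ k ∈ [1, mu, mu⁻¹], k * a * k⁻¹ = ms ∨ k * a * k⁻¹ = ms⁻¹) ∧
    (mu * a * mu⁻¹ * a⁻¹ * (mu * a * mu⁻¹ * a⁻¹) = 1 → a = 1 ∨ a = mT) ∧
    (mp * a * mp⁻¹ * a⁻¹ = 1 ∨ mp * a * mp⁻¹ * a⁻¹ = mT →
      a = 1 ∨ a = mT ∨ a = ms ∨ a = mT * ms))) ∧
    (∀ n ∈ N2, n * mT = mT * n → (n * mb * n⁻¹ = mb ∨ n * mb * n⁻¹ = mb⁻¹) ∧
      (n * mp * n⁻¹ * mp⁻¹) ^ 3 = 1 ∧ (n * mp * n⁻¹ * mp⁻¹ = 1 → n ∈ H7.P3.D8)) ∧
    mb = me1 * me2 ∧ mw = mr1 * mr2 ∧ mp = mw * mr3 ∧ mz * mu = me3⁻¹ ∧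
    my * mw * mp * my⁻¹ = mr1 ∧ mz * mc⁻¹ * mu⁻¹ = me1 ∧ mw * me3 = me3 * mw ∧
    mp * me3 * mp⁻¹ = me3⁻¹ ∧ ms⁻¹ = mT * ms ∧ mr1 ∈ N2 ∧ mr2 ∈ N2 ∧ mr3 ∈ N2 := by
  simp only [hN2.mem, hC.mem, H7.P3.hD8.mem]
  decide +kernel

variable {G : Type*} [Group G] [Finite G]

/-- The data in the `Sp₆(2)` case. -/
structure Sx (φ : Mx → G) (ι : Perm (Fin 6) →* G) (O : Subgroup G) : Prop where
  h : Loc true φ
  s : Six φ ι
  o : Kout φ O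

namespace Sx

variable {φ : Mx → G} {ι : Perm (Fin 6) →* G} {O : Subgroup G} (k : Sx φ ι O)
include k

theorem inj : Function.Injective ι :=
  (injective_iff_map_eq_one ι).mpr fun p hp => k.s.inj p (hp ▸ one_mem _)

theorem ib : ι pβ = φ mb := by
  rw [pβ, map_mul, k.s.e1, k.s.e2, m_sp.2.2.1, k.h.l0.eJ.mul m_d.1 m_d.2.1]

theorem it : ι pτ = φ mT := k.s.t

theorem iw : ι (swap 0 1 * swap 4 5) = φ mw := by
  rw [map_mul, k.s.r1, k.s.r2, m_sp.2.2.2.1, k.h.eN.mul m_sp.2.2.2.2.2.2.2.2.2.2.2.1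
    m_sp.2.2.2.2.2.2.2.2.2.2.2.2.1]

theorem ip : φ mp = φ mw * φ mr3 := by
  rw [m_sp.2.2.2.2.1, k.h.eN.mul k.h.wN' m_sp.2.2.2.2.2.2.2.2.2.2.2.2.2]

theorem tO : φ mT ∈ O := k.h.l0.t_eq ▸ pow_mem k.o.s 2

theorem tc {a : G} (ha : a ∈ O) : a * φ mT = φ mT * a := mem_cent.mp (k.o.le ha)

theorem cO {g a : G} (hg : g * φ mT = φ mT * g) (ha : a ∈ O) : g * a * g⁻¹ ∈ O :=
  conj_mem_of_mem_normalizer (k.o.norm (mem_cent.mpr hg)) ha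

theorem eT {a : Mx} (ha : a ∈ E) : φ a * φ mT = φ mT * φ a := mem_cent.mp (k.h.EK (mem_im φ ha))

theorem ez : φ mz = φ mb * φ me3 := by
  rw [← k.h.l0.eJ.mul m_d.2.2.2.1 m_d.2.2.1, ← m_k.2.2.2.2.2.2.2.2.2.2.2.2.2.2.2.2.1]

theorem eu : φ mu = (φ mb)⁻¹ * φ me3 := by
  rw [← k.h.l0.eJ.inv m_d.2.2.2.1, ← k.h.l0.eJ.mul (inv_mem m_d.2.2.2.1) m_d.2.2.1,
    ← m_k.2.2.2.2.2.2.2.2.2.2.2.2.2.2.2.2.2.1]

theorem xO : ι (swap 2 3) ∈ O := by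
  obtain ⟨-, a1, a2, a3, a4, -⟩ := s_sp
  have bN := JN true m_d.2.2.2.1
  have bT := k.eT m_E.2.2.2.1
  have xT : ι (swap 2 3) * φ mT = φ mT * ι (swap 2 3) := by rw [← k.it, ← map_mul, a4, map_mul]
  obtain ⟨o, ho, e⟩ := k.o.gen _ xT
  obtain ⟨n, hn, e1⟩ := k.h.exN e
  have e2 : ι (swap 2 3) * φ mb * (ι (swap 2 3))⁻¹ = o * (φ n * φ mb * (φ n)⁻¹) * o⁻¹ := by
    rw [e1]; group
  rcases (m_sp.2.1 n hn ((k.h.eN.comm hn k.h.tN).mp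
    (e1 ▸ Commute.mul_left (k.tc (inv_mem ho)) xT))).1 with e3 | e3
  · rw [(k.h.cj hn bN bN).mpr e3] at e2
    have := k.cO bT (mul_mem (mul_mem ho (k.cO bT (inv_mem ho))) k.tO)
    rw [← mul_assoc o, ← mul_assoc o, ← e2, ← k.ib, ← k.it] at this
    simpa only [← map_inv, ← map_mul, a1] using this
  · rw [(k.h.cji hn bN bN).mpr e3] at e2
    have := mul_mem ho (k.cO (Commute.inv_left bT) (inv_mem ho))
    rw [← mul_assoc o, ← mul_assoc o, ← e2, inv_inv, ← k.ib] at this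
    simp only [← map_inv, ← map_mul] at this
    exact absurd (k.inj ((cop_iff.mp k.o.cop _ this (by rw [← map_pow, a2, map_one])).trans
      (map_one ι).symm)) a3

theorem exV {v : G} (hv : v ∈ O) (e : v * φ me3 = φ me3 * v) : v * v = 1 ∧
    (v * (φ mz * v * (φ mz)⁻¹) * ((φ mz)⁻¹ * v * φ mz) ∈ zpowers (φ mT)) ∧
    v * φ mr3 = φ mr3 * v ∧ (v * φ mw = φ mw * v → v ∈ closure {ι (swap 2 3), φ mT}) := by
  have e3 := k.h.l0.expJ _ (mem_im φ m_d.2.2.1)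
  have e1 : φ mz * v * (φ mz)⁻¹ = φ mb * v * (φ mb)⁻¹ := by
    rw [k.ez, mul_assoc _ _ v, ← e]; group
  have e2 : (φ mz)⁻¹ * v * φ mz = (φ mb)⁻¹ * v * φ mb := by
    rw [k.ez, k.h.l0.abJ _ (mem_im φ m_d.2.2.2.1) _ (mem_im φ m_d.2.2.1), ← mul_assoc,
      mul_assoc _ v, e]
    group
  rw [e1, e2]
  obtain ⟨σ, ζ, hζ, rfl⟩ := k.s.top v e
  have c : ∀ ρ, Commute ζ (ι ρ) := fun ρ => by
    obtain ⟨n, rfl⟩ := mem_zpowers_iff.mp hζ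
    exact Commute.zpow_left (k.s.cen ρ).symm n
  have h1 := k.tc hv
  rw [← k.it, ← mul_assoc, ← (c _).eq, mul_assoc, mul_assoc, mul_right_inj, ← map_mul,
    ← map_mul] at h1
  obtain ⟨h2, h3⟩ := s_sp.1 σ (k.inj h1)
  have z3 := cube_zp e3 hζ
  have h4 := cop_iff.mp k.o.cop _ (pow_mem hv 4) (by
    rw [← pow_mul, (c σ).mul_pow, ← map_pow, h2, map_one, mul_one, mul_comm, pow_mul, z3, one_pow])
  rw [(c σ).mul_pow, pow_succ, z3, one_mul, ← map_pow] at h4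
  have h5 := k.s.inj _ (eq_inv_of_mul_eq_one_right h4 ▸ inv_mem hζ)
  rw [h5, map_one, mul_one] at h4
  subst h4
  rw [one_mul] at hv ⊢
  obtain ⟨h6, h7, h8⟩ := h3 h5 fun e' => k.inj ((cop_iff.mp k.o.cop _ (by
    simpa [k.ib, mul_assoc] using mul_mem hv (k.cO (k.eT m_E.2.2.2.1) (inv_mem hv)))
    (by rw [← map_pow, e', map_one])).trans (map_one ι).symm)
  refine ⟨by rw [← map_mul, h6, map_one], ?_, k.s.r3 σ, fun e' => ?_⟩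
  · simp only [← k.ib, ← map_inv, ← map_mul]
    rcases h7 with e | e <;> simp [e, k.it]
  · rw [← k.iw, ← map_mul, ← map_mul] at e'
    have m1 : ι (swap 2 3) ∈ closure {ι (swap 2 3), φ mT} := subset_closure (by simp)
    have m2 : ι pτ ∈ closure {ι (swap 2 3), φ mT} := subset_closure (by simp [k.it])
    rcases h8 (k.inj e') with rfl | rfl | rfl | rfl
    exacts [map_one ι ▸ one_mem _, m1, m2, map_mul ι _ _ ▸ mul_mem m1 m2]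

theorem exQ {q : G} (hq : q ∈ O) (e : q * φ mz = φ mz * q) :
    (q ∈ zpowers (φ mT) ∨ ∃ g ∈ zpowers (φ mu), g * q * g⁻¹ = φ ms ∨ g * q * g⁻¹ = (φ ms)⁻¹) ∧
    (φ mu * q * (φ mu)⁻¹ * q⁻¹ * (φ mu * q * (φ mu)⁻¹ * q⁻¹) = 1 → q ∈ zpowers (φ mT)) ∧
    (φ mp * q * (φ mp)⁻¹ * q⁻¹ ∈ zpowers (φ mT) →
      q ∈ zpowers (φ mT) ∨ q * (φ ms)⁻¹ ∈ zpowers (φ mT)) := by
  have l := k.h.l0.e
  obtain ⟨a, ha, rfl⟩ := l.ex (k.h.l0.cz q e)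
  obtain ⟨h1, h2⟩ := m_sp.1 a ha ((l.comm ha (BC tB)).mp (k.tc hq))
  obtain ⟨h3, h4, h5⟩ := h2 ((l.pow_eq_one ha).mp (cop_iff.mp k.o.cop _ (pow_mem hq 4) (by
    rw [← pow_mul, l.pow_eq_one ha]; exact h1)))
  have uC := JC uJ
  have t : a = 1 ∨ a = mT → φ a ∈ zpowers (φ mT) := by
    rintro (rfl | rfl) <;> simp [l.one]
  refine ⟨?_, fun e' => t (h4 ?_), fun e' => ?_⟩
  · rw [← or_assoc] at h3
    refine h3.imp t fun ⟨g, hg, e'⟩ => ?_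
    have gC : g ∈ C ∧ φ g ∈ zpowers (φ mu) := by
      simp only [List.mem_cons, List.not_mem_nil, or_false] at hg
      rcases hg with rfl | rfl | rfl <;> simp [l.one, uC, l.inv uC]
    refine ⟨_, gC.2, ?_⟩
    rw [← l.conj gC.1 ha, ← l.inv sC]
    exact e'.imp (congrArg φ) (congrArg φ)
  · have c := mul_mem (mul_mem (mul_mem uC ha) (inv_mem uC)) (inv_mem ha)
    rwa [← l.sq_eq_one c, l.mul (mul_mem (mul_mem uC ha) (inv_mem uC)) (inv_mem ha), l.conj uC ha,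
      l.inv ha]
  · have a2 := C12 ha
    have c := mul_mem (mul_mem pC a2) (inv_mem pC)
    rw [← k.h.eZ.conj pC a2, ← k.h.eZ.inv a2, ← k.h.eZ.mul c (inv_mem a2),
      mem_zpowers_two k.h.l0.tt, ← k.h.eZ.one, k.h.eZ.eq_iff (mul_mem c (inv_mem a2)) (one_mem _),
      k.h.eZ.eq_iff (mul_mem c (inv_mem a2)) (C12 (BC tB))] at e'
    rcases h5 e' with rfl | rfl | rfl | rfl <;> simp [l.one, l.mul (BC tB) sC]

theorem wT : φ mw * φ mT = φ mT * φ mw := k.h.l0.t_eq ▸ k.h.rw'.ws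

theorem pT : φ mp * φ mT = φ mT * φ mp := (k.h.eN.comm pN k.h.tN).mpr m_b.2.2.2.2.2.1

theorem zT {g ζ : G} (hg : g * φ mT = φ mT * g) (hζ : ζ ∈ zpowers (φ mT)) : g * ζ = ζ * g := by
  obtain ⟨n, rfl⟩ := mem_zpowers_iff.mp hζ
  exact (Commute.zpow_right hg n).eq

theorem sV {v : G} (hv : v ∈ O) (e : v * φ me3 = φ me3 * v) : φ ms * v = v * φ ms := by
  have b3 := k.h.l0.expJ _ (mem_im φ m_d.2.2.2.1)
  have bT := k.eT m_E.2.2.2.1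
  have uT := k.eT m_E.2.2.1
  have zT := k.eT m_E.2.1
  have zs := k.h.l0.base.r0.zs
  have t3 : ∀ ζ ∈ zpowers (φ mT), ζ ^ 3 = 1 → ζ = 1 := fun ζ hζ =>
    cop_iff.mp k.o.cop ζ (zpowers_le_of_mem k.tO hζ)
  obtain ⟨c1, c2⟩ := cl2 k.o.cop k.tO (fun g => k.tc) bT b3 (k.h.l0.eJ.ne m_d.2.2.2.1 m_d.2.2.2.2.2.1)
    (k.o.norm (mem_cent.mpr bT)) fun o ho e => (mem_zpowers_two k.h.l0.tt).mpr (k.o.fpf o ho e)
  have h1 := c2 _ k.o.s _ (k.cO (Commute.inv_left bT) hv)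
  have h2 : φ mu * v * (φ mu)⁻¹ = (φ mb)⁻¹ * v * (φ mb)⁻¹⁻¹ := by
    rw [k.eu, mul_assoc _ _ v, ← e]; group
  have h3 : φ mu * φ ms * (φ mu)⁻¹ = φ mb * φ ms * (φ mb)⁻¹ := by
    have : φ mu = φ mb * φ mz := by
      rw [k.eu, k.ez, ← mul_assoc, L0.SC3.mul_self_of_cube b3]
    rw [this, mul_assoc _ _ (φ ms), zs]; group
  rw [← h3, show φ mb * ((φ mb)⁻¹ * v * (φ mb)⁻¹⁻¹) * (φ mb)⁻¹ = v by group, ← h2,
    ← conjugate_commutatorElement] at h1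
  have κO : ⁅φ ms, v⁆ ∈ O := mul_mem (mul_mem (mul_mem k.o.s hv) (inv_mem k.o.s)) (inv_mem hv)
  have h4 : ⁅φ ms, v⁆ * φ mu = φ mu * ⁅φ ms, v⁆ := comm_of_cube t3 (fun ζ => k.zT uT)
    (k.h.l0.expJ _ (mem_im φ uJ)) (by simpa [mul_assoc] using h1)
  have h5 : ⁅φ ms, v⁆ ∈ zpowers (φ mT) := by
    have P : ∀ g κ, g * φ mT = φ mT * g → (∀ a ∈ O, a * κ * a⁻¹ * κ⁻¹ ∈ zpowers (φ mT)) →
        ∀ a ∈ O, a * (g * κ * g⁻¹) * a⁻¹ * (g * κ * g⁻¹)⁻¹ ∈ zpowers (φ mT) :=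
      fun g κ hg hκ a ha => by
        have h := hκ _ (k.cO (Commute.inv_left hg) ha)
        have h' := conj_eq_iff.mpr (k.zT hg h)
        rw [← h'] at h
        convert h using 1
        group
    have h6 := conj_comm (g := φ mw) h4
    rw [k.h.wu] at h6
    rcases (k.exQ (k.cO k.wT κO) h6).1 with h7 | ⟨g, hg, h7⟩
    · rwa [mul_left_cancel (conj_eq_iff.mp (conj_eq_iff.mpr (k.zT k.wT h7)) |>.symm ▸
        (inv_mul_cancel_right _ _).symm : φ mw * ⁅φ ms, v⁆ = φ mw * (φ mw * ⁅φ ms, v⁆ * (φ mw)⁻¹))]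
    · have h8 := P g _ (mem_cent.mp (zpowers_le_of_mem (mem_cent.mpr uT) hg))
        (P _ _ k.wT fun a ha => c1 a ha _ k.o.s _ hv)
      rcases h7 with h7 | h7 <;> rw [h7] at h8
      · simpa [mul_assoc, commutatorElement_def] using inv_mem (h8 v hv)
      · have h9 := h8 v hv
        rw [← conj_eq_iff.mpr (k.zT (k.tc k.o.s) h9)] at h9
        simpa [mul_assoc, commutatorElement_def] using h9
  have h6 : ∀ g, g * φ mT = φ mT * g → g * φ ms = φ ms * g →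
      φ ms * (g * v * g⁻¹) * (φ ms)⁻¹ = ⁅φ ms, v⁆ * (g * v * g⁻¹) := fun g e1 e2 => by
    rw [← conj_eq_iff.mpr (k.zT e1 h5), ← conj_eq_iff.mpr e2]
    nth_rw 3 4 [conj_eq_iff.mpr e2]
    simp [commutatorElement_def, mul_assoc]
  have h7 := conj_eq_iff.mpr (k.zT (k.tc k.o.s) (k.exV hv e).2.1)
  have h8 := h6 1 (by simp) (by simp)
  have h9 := h6 _ (Commute.inv_left zT) (Commute.inv_left zs)
  rw [one_mul, inv_one, mul_one] at h8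
  rw [inv_inv] at h9
  rw [← conj_mul, ← conj_mul, h6 _ zT zs, h8, h9, mul_assoc _ v, ← mul_assoc v, k.zT (k.tc hv) h5,
    mul_assoc _ v, mul_assoc, mul_assoc, ← mul_assoc (v * _),
    k.zT (k.tc (mul_mem hv (k.cO zT hv))) h5, mul_assoc, ← mul_assoc, ← mul_assoc, ← pow_three',
    mul_eq_right] at h7
  exact commutatorElement_eq_one_iff_mul_comm.mp (t3 _ h5 h7)

theorem QV {q v : G} (hq : q ∈ O) (e : q * φ mz = φ mz * q) (hv : v ∈ O)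
    (e' : v * φ me3 = φ me3 * v) : q * v = v * q := by
  rcases (k.exQ hq e).1 with h1 | ⟨g, hg, h1⟩
  · exact (k.zT (k.tc hv) h1).symm
  have h2 := mem_cent.mp (zpowers_le_of_mem (mem_cent.mpr (k.eT m_E.2.2.1)) hg)
  have h3 := mem_cent.mp (zpowers_le_of_mem (mem_cent.mpr
    (k.h.l0.abJ _ (mem_im φ uJ) _ (mem_im φ m_d.2.2.1))) hg)
  have h4 := k.sV (k.cO h2 hv) (conj_eq_iff.mpr h3 ▸ conj_comm e')
  rcases h1 with h1 | h1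
  · simpa only [← h1, conj_mul, mul_left_inj, mul_right_inj] using h4
  · simpa only [← h1, conj_mul, mul_left_inj, mul_right_inj] using (Commute.inv_left h4).eq

theorem we : φ mw * φ me3 = φ me3 * φ mw :=
  (k.h.eN.comm k.h.wN' (JN _ m_d.2.2.1)).mpr m_sp.2.2.2.2.2.2.2.2.1

theorem wz : φ mw * φ mz * (φ mw)⁻¹ = φ mu := conj_eq_iff.mpr k.h.rw'.wz

theorem QV' {q v : G} (hq : q ∈ O) (e : q * φ mu = φ mu * q) (hv : v ∈ O)
    (e' : v * φ me3 = φ me3 * v) : q * v = v * q := by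
  simpa only [conj_mul, mul_left_inj, mul_right_inj] using k.QV (k.cO k.wT hq)
    (k.h.wu ▸ conj_comm e) (k.cO k.wT hv) (conj_eq_iff.mpr k.we ▸ conj_comm e')

theorem key : φ ms * (φ mw * φ ms * φ mw) = φ mw * φ ms * φ mw * φ ms := by
  have : Fact (Nat.Prime 3) := ⟨Nat.prime_three⟩
  by_contra hn
  let Q := O ⊓ centralizer {φ mz}
  let Q' := O ⊓ centralizer {φ mu}
  let V := O ⊓ centralizer {φ me3}
  have tV : zpowers (φ mT) ≤ V := zpowers_le_of_mem ⟨k.tO, mem_cent.mpr (k.eT m_E.2.2.2.2.1).symm⟩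
  have n1 : V ≤ normalizer (Q' : Set G) := le_normalizer_of_cent fun v hv q hq =>
    (k.QV' hq.1 (mem_cent.mp hq.2) hv.1 (mem_cent.mp hv.2)).symm
  have n0 : ∀ g, (∀ q ∈ Q', g * q * g⁻¹ ∈ Q' ⊔ V) → (∀ v ∈ V, g * v * g⁻¹ ∈ V) →
      g ∈ normalizer (Q' ⊔ V : Subgroup G) := fun g h1 h2 => mem_normalizer_of_conj_mem fun y hy => by
    obtain ⟨q, hq, v, hv, rfl⟩ := (H7.mem_sup_of_norm n1).mp hy
    rw [← conj_mul]
    exact mul_mem (h1 q hq) (mem_sup_right (h2 v hv))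
  have n2 : Q ≤ normalizer (Q' ⊔ V : Subgroup G) := fun a ha => n0 a (fun q hq => by
      simpa using mul_mem (mem_sup_right (show _ ∈ V from
        ⟨O.mul_mem (O.mul_mem (O.mul_mem ha.1 hq.1) (O.inv_mem ha.1)) (O.inv_mem hq.1), mem_cent.mpr
          (k.o.comm a ha.1 (mem_cent.mp ha.2) q hq.1 (mem_cent.mp hq.2))⟩)) (mem_sup_left hq))
    fun v hv => by
      rwa [k.QV ha.1 (mem_cent.mp ha.2) hv.1 (mem_cent.mp hv.2), mul_inv_cancel_right]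
  have n3 : ∀ a ∈ Q, a ∈ Q' ⊔ V → a ∈ zpowers (φ mT) := fun a ha hy => by
    obtain ⟨q, hq, v, hv, rfl⟩ := (H7.mem_sup_of_norm n1).mp hy
    have h1 : φ mu * v * (φ mu)⁻¹ * v⁻¹ ∈ V := mul_mem ⟨k.cO (k.eT m_E.2.2.1) hv.1, mem_cent.mpr
      (conj_eq_iff.mpr (k.h.l0.abJ _ (mem_im φ uJ) _ (mem_im φ m_d.2.2.1)) ▸
        conj_comm (mem_cent.mp hv.2))⟩ (inv_mem hv)
    refine (k.exQ ha.1 (mem_cent.mp ha.2)).2.1 ?_
    rw [← mul_assoc (φ mu), ← mem_cent.mp hq.2, show q * φ mu * v * (φ mu)⁻¹ * (q * v)⁻¹ =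
      q * (φ mu * v * (φ mu)⁻¹ * v⁻¹) * q⁻¹ by group]
    exact conj_sq (k.exV h1.1 (mem_cent.mp h1.2)).1
  have hO : O ≤ Q' ⊔ V ⊔ Q := le_of_cent1 k.h.sylE.isPGroup
      (fun a ha a' ha' => k.h.l0.abJ a (im_mono φ EJ ha) a' (im_mono φ EJ ha'))
      (not_isCyclic_of_exp (p := 3) (by norm_num) (k.h.eE.card.trans hE.card)
        fun a ha => k.h.l0.expJ a (im_mono φ EJ ha)) (k.h.EK.trans k.o.norm) k.o.cop
      fun a ha a1 g hg e => by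
    obtain ⟨x, hx, rfl⟩ := k.h.eE.ex ha
    have t : ∀ {y}, y ∈ J → x ∈ [y, y⁻¹] → g * φ y = φ y * g := fun hy hx => by
      simp only [List.mem_cons, List.not_mem_nil, or_false] at hx
      rcases hx with rfl | rfl
      exacts [e, (Commute.inv_right_iff.mp (k.h.l0.eJ.inv hy ▸ e)).eq]
    rcases (m_E.1 _ hx).2.2.1 with e' | e' | e' | e'
    · exact mem_sup_left (mem_sup_right (tV ((mem_zpowers_two k.h.l0.tt).mpr (k.o.fpf g hg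
        (t m_d.2.2.2.1 ((List.mem_cons.mp e').resolve_left fun e => a1 (e ▸ k.h.eN.one)))))))
    · exact mem_sup_right ⟨hg, mem_cent.mpr (t zJ e')⟩
    · exact mem_sup_left (mem_sup_left ⟨hg, mem_cent.mpr (t uJ e')⟩)
    · exact mem_sup_left (mem_sup_right ⟨hg, mem_cent.mpr (t m_d.2.2.1 e')⟩)
  have w1 := inv_eq_of_mul_eq_one_right k.h.rw'.ww
  have rp := k.h.rp
  have cW : ∀ o ∈ O, o * φ mw = φ mw * o → o * φ mp = φ mp * o →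
      o ∈ closure {ι (swap 2 3), φ mT} := fun o ho e1 e2 => by
    obtain ⟨y, hy, q, hq, rfl⟩ := (H7.mem_sup_of_norm n2).mp (hO ho)
    have ci : ∀ {a g}, φ mp * a = a⁻¹ * φ mp → g ∈ O ⊓ centralizer {a} →
        φ mp * g * (φ mp)⁻¹ ∈ O ⊓ centralizer {a} := fun e hg => ⟨k.cO k.pT hg.1, mem_cent.mpr
      (Commute.inv_right_iff.mp (conj_eq_iff.mpr e ▸ conj_comm (mem_cent.mp hg.2))).eq⟩
    have h1 := (k.exQ hq.1 (mem_cent.mp hq.2)).2.2 (n3 _ (mul_mem (ci rp.pz hq) (inv_mem hq)) (by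
      have := mul_mem (inv_mem (conj_mem_of_mem_normalizer (n0 _
        (fun q hq => mem_sup_left (ci rp.pu hq)) fun v => ci (conj_eq_iff.mp ((k.h.cji pN
          (JN _ m_d.2.2.1) (JN _ m_d.2.2.1)).mpr m_sp.2.2.2.2.2.2.2.2.2.1))) hy)) hy
      rwa [show (φ mp * y * (φ mp)⁻¹)⁻¹ * y = φ mp * y⁻¹ * ((φ mp)⁻¹ * (y * q)) * q⁻¹ by group,
        ← (Commute.inv_right e2).eq, show φ mp * y⁻¹ * (y * q * (φ mp)⁻¹) = φ mp * q * (φ mp)⁻¹ by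
          group] at this))
    obtain ⟨q', hq', v, hv, rfl⟩ := (H7.mem_sup_of_norm n1).mp hy
    have wq : φ mw * q * (φ mw)⁻¹ ∈ Q' := ⟨k.cO k.wT hq.1, mem_cent.mpr
      (k.wz ▸ conj_comm (mem_cent.mp hq.2))⟩
    have wq' : φ mw * q' * (φ mw)⁻¹ ∈ Q := ⟨k.cO k.wT hq'.1, mem_cent.mpr
      (k.h.wu ▸ conj_comm (mem_cent.mp hq'.2))⟩
    have wv : φ mw * v * (φ mw)⁻¹ ∈ V := ⟨k.cO k.wT hv.1, mem_cent.mpr
      (conj_eq_iff.mpr k.we ▸ conj_comm (mem_cent.mp hv.2))⟩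
    have h2 := n3 _ (mul_mem wq' (inv_mem hq)) (by
      have := mul_mem (inv_mem (conj_mem_of_mem_normalizer (n2 wq')
        (mul_mem (mem_sup_right wv) (mem_sup_left wq)))) hy
      rwa [show q' * v = (q' * v * q * φ mw) * (φ mw)⁻¹ * q⁻¹ by group, e1,
        show (φ mw * q' * (φ mw)⁻¹ * (φ mw * v * (φ mw)⁻¹ * (φ mw * q * (φ mw)⁻¹)) *
          (φ mw * q' * (φ mw)⁻¹)⁻¹)⁻¹ * (φ mw * (q' * v * q) * (φ mw)⁻¹ * q⁻¹) =
          φ mw * q' * (φ mw)⁻¹ * q⁻¹ by group] at this)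
    have h3 : q' = (φ mw)⁻¹ * q * φ mw * (φ mw * q' * (φ mw)⁻¹ * q⁻¹) := by
      rw [k.zT (Commute.mul_left (Commute.mul_left (Commute.inv_left k.wT) (k.tc hq.1)) k.wT) h2,
        ← mul_assoc, ← mul_assoc, ← k.zT (Commute.inv_left k.wT) h2]
      group
    generalize φ mw * q' * (φ mw)⁻¹ * q⁻¹ = ζ at h2 h3
    subst h3
    rcases h1 with h1 | h1
    · have := mul_mem (mul_mem (mul_mem (tV h1) (tV h2)) hv) (tV h1)
      rw [k.zT (Commute.inv_left k.wT) h1, inv_mul_cancel_right] at e1 ⊢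
      exact (k.exV this.1 (mem_cent.mp this.2)).2.2.2 e1
    exfalso
    obtain ⟨ξ, rfl⟩ : ∃ ξ, q = ξ * φ ms := ⟨q * (φ ms)⁻¹, by simp⟩
    rw [mul_inv_cancel_right] at h1
    have h4 := mul_mem (mul_mem (mul_mem (tV h1) (tV h2)) hv) (tV h1)
    have h5 : (φ mw)⁻¹ * (ξ * φ ms) * φ mw * ζ * v * (ξ * φ ms) =
        φ mw * φ ms * φ mw * φ ms * (ξ * ζ * v * ξ) := by
      rw [mul_assoc _ (φ ms) (ξ * ζ * v * ξ), k.sV h4.1 (mem_cent.mp h4.2), w1]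
      nth_rw 1 [← k.zT (k.tc k.o.s) h1]
      rw [← mul_assoc (φ mw), mul_assoc _ ξ, ← k.zT k.wT h1]
      group
    rw [h5] at e1 e2
    generalize ξ * ζ * v * ξ = v at e1 e2 h4
    have h6 : φ mp * φ ms = φ mT * φ ms * φ mp := by
      rw [rp.ps, ← k.h.l0.e.inv sC, m_sp.2.2.2.2.2.2.2.2.2.2.1, k.h.l0.e.mul (BC tB) sC]
    have pw : φ mp * φ mw = φ mw * φ mp := (k.h.eN.comm pN k.h.wN').mpr m_b.2.2.2.2.2.2.1
    have h7 : v * φ mp = φ mp * v := by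
      have t1 : ∀ g, φ mp * (φ mw * g) = φ mw * (φ mp * g) := fun g => by
        rw [← mul_assoc, pw, mul_assoc]
      have t2 : ∀ g, φ mp * (φ ms * g) = φ ms * (φ mT * (φ mp * g)) := fun g => by
        rw [← mul_assoc, h6, ← k.tc k.o.s, mul_assoc, mul_assoc]
      have t3 : ∀ g, φ mT * (φ mw * g) = φ mw * (φ mT * g) := fun g => by
        rw [← mul_assoc, ← k.wT, mul_assoc]
      have t4 : ∀ g, φ mT * (φ ms * g) = φ ms * (φ mT * g) := fun g => by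
        rw [← mul_assoc, ← k.tc k.o.s, mul_assoc]
      have t5 : ∀ g, φ mT * (φ mT * g) = g := fun g => by rw [← mul_assoc, k.h.l0.tt, one_mul]
      simpa only [mul_assoc, t1, t2, t3, t4, t5, mul_right_inj] using e2
    rw [k.ip, mul_assoc, ← (k.exV h4.1 (mem_cent.mp h4.2)).2.2.1, ← mul_assoc, ← mul_assoc,
      mul_left_inj] at h7
    rw [mul_assoc, h7, ← mul_assoc, ← mul_assoc, mul_left_inj, ← mul_assoc, ← mul_assoc,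
      ← mul_assoc, k.h.rw'.ww, one_mul] at e1
    refine hn ?_
    rw [← mul_left_inj (φ mw), e1, ← mul_assoc, ← mul_assoc, mul_assoc _ _ (φ mw), k.h.rw'.ww,
      mul_one]
  refine H7.P3.exo k.h k.s fun g e1 e2 e3 => ?_
  obtain ⟨o, ho, e⟩ := k.o.gen g e1
  obtain ⟨n, hn, e4⟩ := k.h.exN e
  obtain ⟨-, a1, a2⟩ := m_sp.2.1 n hn ((k.h.eN.comm hn k.h.tN).mp
    (e4 ▸ Commute.mul_left (k.tc (inv_mem ho)) e1))
  have c := mul_mem (mul_mem hn pN) (inv_mem hn)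
  have hD := a2 (k.h.eN.inj (mul_mem c (inv_mem pN)) (cop_iff.mp k.o.cop _ (by
    rw [k.h.eN.mul c (inv_mem pN), k.h.eN.conj hn pN, k.h.eN.inv pN, e4, mul_assoc _ g, e3]
    simpa [mul_assoc] using mul_mem (inv_mem ho) (k.cO k.pT ho))
    ((k.h.eN.pow_eq_one (mul_mem c (inv_mem pN))).mpr a1)))
  have DN : H7.P3.D8 ≤ N2 := fun a ha => (H7.P3.m_exo.2.1 a ha).1
  have pw : φ mp * φ mw = φ mw * φ mp := (k.h.eN.comm pN k.h.wN').mpr m_b.2.2.2.2.2.2.1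
  have h1 := im_le (k.h.eN.mono DN) rfl (K := closure {ι (swap 2 3), φ mT, φ mw, φ mp} ⊓
    (centralizer {φ mw} ⊓ centralizer {φ mp})) (by
      rintro _ (_ | ⟨_, _ | ⟨_, _ | ⟨_, ⟨⟩⟩⟩⟩) <;>
        exact ⟨subset_closure (by simp), by simp [mem_cent, k.wT, k.pT, pw]⟩) (mem_im φ hD)
  obtain rfl : g = o * φ n := by rw [e4, mul_inv_cancel_left]
  refine mul_mem (closure_mono (by simp [Set.insert_subset_iff]) (cW o ho ?_ ?_)) h1.1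
  · rwa [mul_assoc, mem_cent.mp h1.2.1, ← mul_assoc, ← mul_assoc, mul_left_inj] at e2
  · rwa [mul_assoc, mem_cent.mp h1.2.2, ← mul_assoc, ← mul_assoc, mul_left_inj] at e3

theorem r3 : R3 (φ mz) (φ mc) (φ my) (φ ms) (φ mu) (φ mw) (φ mp) (ι (swap 2 3)) := by
  obtain ⟨-, -, -, -, -, a1, a2, a3, -, -, -, r1, -, -⟩ := m_sp
  have yN : my ∈ N2 := le_NJ true (BN (SB yS))
  have cs : ∀ {σ ρ}, σ * ρ = ρ * σ → ι σ * ι ρ = ι ρ * ι σ := fun e => by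
    rw [← map_mul, e, map_mul]
  have xw : ι (swap 2 3) * φ mw = φ mw * ι (swap 2 3) := k.iw ▸ cs (by decide)
  have e1 : φ my * φ mw * φ mp * (φ my)⁻¹ = ι (swap 0 1) := by
    rw [k.s.r1, ← a2, mul_assoc my, k.h.eN.conj yN (mul_mem k.h.wN' pN), k.h.eN.mul k.h.wN' pN,
      ← mul_assoc]
  have xe := k.s.cen (swap 2 3)
  refine ⟨⟨⟨k.h.l0.base.r0, k.h.rw', k.key⟩, k.h.rp,
    (k.h.eN.comm pN k.h.wN').mpr m_b.2.2.2.2.2.2.1⟩, by rw [← map_mul, swap_mul_self, map_one],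
    (k.sV k.xO xe).symm, xw, k.ip ▸ Commute.mul_right xw (k.s.r3 _), ?_, ?_,
    e1 ▸ cs (by decide), ?_⟩
  · rw [← k.h.l0.eJ.mul zJ uJ, a1, k.h.l0.eJ.inv m_d.2.2.1]
    exact Commute.inv_right xe
  · rw [← k.h.l0.t_eq, ← k.it, ← s_sp.2.2.2.2.2, k.eu]
    nth_rw 3 4 [(Commute.inv_left (k.h.l0.abJ _ (mem_im φ m_d.2.2.2.1) _ (mem_im φ m_d.2.2.1))).eq]
    simp only [map_mul, map_inv, k.ib]
    rw [mul_assoc _ (φ me3), ← xe, mul_inv_rev (φ me3), mul_assoc _ (φ me3)⁻¹,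
      ← (Commute.inv_right xe).eq]
    group
  · rw [e1, ← k.h.l0.eJ.inv cJ, ← k.h.l0.eJ.inv uJ, ← k.h.l0.eJ.mul zJ (inv_mem cJ),
      ← k.h.l0.eJ.mul (mul_mem zJ (inv_mem cJ)) (inv_mem uJ), a3, ← k.s.e1, ← map_mul, ← map_mul,
      ← map_pow, ← map_one ι]
    exact congrArg ι (by decide)

theorem str : Str (closure {φ mc, φ ms, φ mu, φ mw, φ mp, ι (swap 2 3)}) (φ ms ^ 2) := by
  obtain ⟨-, -, -, -, -, -, -, -, -, -, -, r1, r2, -⟩ := m_sp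
  obtain ⟨⟨d0, d1, d2, d3, d4⟩, -⟩ := H7.P3.s_six
  have h1 : im φ C ≤ closure {φ mc, φ ms, φ mu, φ mw, φ mp, ι (swap 2 3)} :=
    im_C k.h.l0.e ▸ closure_mono (by simp [Set.insert_subset_iff])
  have h2 := k.h.nj_le h1 (subset_closure (by simp)) fun _ => subset_closure (by simp)
  have h4 : ι (swap 2 3) ∈ closure {φ mc, φ ms, φ mu, φ mw, φ mp, ι (swap 2 3)} :=
    subset_closure (by simp)
  generalize closure {φ mc, φ ms, φ mu, φ mw, φ mp, ι (swap 2 3)} = H at h1 h2 h4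
  have e0 : ι (swap 0 1) ∈ H := k.s.r1 ▸ h2 (k.h.norm r1)
  have e4 : ι (swap 4 5) ∈ H := k.s.r2 ▸ h2 (k.h.norm r2)
  have h3 : ∀ g, g * φ me3 = φ me3 * g → g ∈ H := fun g e => by
    obtain ⟨σ, ζ, hζ, rfl⟩ := k.s.top g e
    refine mul_mem (zpowers_le_of_mem (h1 (mem_im φ (JC m_d.2.2.1))) hζ)
      (range_le_of_gens ι (d0 ▸ e0) (d1 ▸ ?_) (d2 ▸ h4) (d3 ▸ ?_) (d4 ▸ e4) σ)
    · rw [← mul_mem_cancel_left e0, ← map_mul, k.s.e1]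
      exact h1 (mem_im φ (JC m_d.1))
    · rw [← mul_mem_cancel_left e4, ← map_mul, k.s.e2]
      exact h1 (mem_im φ (JC m_d.2.1))
  exact ⟨k.h.str H h1 h2 h3, k.h.l0.t_eq ▸ k.o.top H h1 h2 h3⟩

end Sx

theorem sp6 {φ : Mx → G} (h : Loc true φ)
    (he : ¬ centralizer {φ me3} ≤ normalizer (im φ J : Set G)) :
    ∃ x, R3 (φ mz) (φ mc) (φ my) (φ ms) (φ mu) (φ mw) (φ mp) x ∧
      Str (closure {φ mc, φ ms, φ mu, φ mw, φ mp, x}) (φ ms ^ 2) :=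
  let ⟨_, s⟩ := H7.P3.six h he
  let ⟨_, o⟩ := H2.P3.kout6 h s
  ⟨_, Sx.r3 ⟨h, s, o⟩, Sx.str ⟨h, s, o⟩⟩

end Cfsg.Agent.H8.P3
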