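import Cfsg.Agent.H8.P3K
import Cfsg.Agent.H1.S9Tool

/-!
# The centralizer of `e₃` in the `Sp₆(2)` case
-/

set_option autoImplicit false

namespace Cfsg.Agent.H8.P3

open Subgroup Mx Equiv

variable {G : Type*} [Group G]

/-- The centralizer of `e₃` is `⟨e₃⟩ × S₆`. -/
structure Six (φ : Mx → G) (ι : Perm (Fin 6) →* G) : Prop where
  cen : ∀ σ, ι σ * φ me3 = φ me3 * ι σ
  top : ∀ g, g * φ me3 = φ me3 * g → ∃ σ, ∃ ζ ∈ zpowers (φ me3), g = ζ * ι σ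
  inj : ∀ σ, ι σ ∈ zpowers (φ me3) → σ = 1
  r1 : ι (swap 0 1) = φ mr1
  r2 : ι (swap 4 5) = φ mr2
  e1 : ι (swap 0 1 * swap 1 2) = φ me1
  e2 : ι (swap 4 5 * swap 3 4) = φ me2
  t : ι (swap 0 5 * swap 1 4 * swap 2 3) = φ mT
  r3 : ∀ σ, ι σ * φ mr3 = φ mr3 * ι σ

end Cfsg.Agent.H8.P3
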