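import Cfsg.Agent.H8.PnPat3
import Cfsg.Agent.L0.PnC

/-! The piece PAT of S3399. -/

set_option autoImplicit false

namespace Cfsg.Agent.L0.Pn

open Finset

variable {G : Type} [Group G] [Finite G] {Ω : Type} [Fintype Ω] [DecidableEq Ω] [MulAction G Ω]
  {K H : Subgroup G} {O : Finset Ω} {n : ℕ}

/-- PAT -/
theorem pat (hK : Pro K) (hP : PP K n) (hKH : K ≤ H) (hI : Inv H O) (hn : O.card ≤ n) {j : ℕ}
    (hT : TrK H O (j + 1)) (h3 : 3 ≤ j) (h4 : j ≤ 4) {D : Finset Ω}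
    (hD : D ⊆ fx K O) (hc : D.card = j) {a b c : Ω} (ha : a ∈ fx K O \ D) (hb : b ∈ O \ insert a D)
    (hcO : c ∈ O \ insert a D) (hbc : c ∉ orb (fixS H (insert a D)) b)
    (hU : O \ insert a D = orb (fixS H (insert a D)) b ∪ orb (fixS H (insert a D)) c)
    (h1 : del K (orb (fixS H (insert a D)) b) = 2) (h2 : del K (orb (fixS H (insert a D)) c) = j - 1) :
    Blk (fixS H D) (insert a (orb (fixS H (insert a D)) b)) :=
  H8.Pat.pat_of (fun _ _ p1 p2 p3 p4 p5 _ p6 => d2 hK hP p1 p2 p3 p4 p5 p6) hK hKH hI hn hT h3 h4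
    hD hc ha hb hcO hbc hU h1 h2

end Cfsg.Agent.L0.Pn
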