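import Cfsg.Agent.L0.PnDef

/-! Two-coloured five-sets under a four-fold transitive group: symmetry and the pattern lemma. -/

set_option autoImplicit false

namespace Cfsg.Agent.H8.Pat

open Finset Cfsg.Agent.L0.Pn

variable {G : Type} [Group G] {Ω : Type} [MulAction G Ω]

/-- two five-tuples in one orbit -/
def E (L : Subgroup G) (x₁ x₂ x₃ x₄ x₅ y₁ y₂ y₃ y₄ y₅ : Ω) : Prop :=
  ∃ g ∈ L, g • x₁ = y₁ ∧ g • x₂ = y₂ ∧ g • x₃ = y₃ ∧ g • x₄ = y₄ ∧ g • x₅ = y₅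

/-- five distinct points of `O` -/
def Dis (O : Finset Ω) (x₁ x₂ x₃ x₄ x₅ : Ω) : Prop :=
  (x₁ ∈ O ∧ x₂ ∈ O ∧ x₃ ∈ O ∧ x₄ ∈ O ∧ x₅ ∈ O) ∧ (x₁ ≠ x₂ ∧ x₁ ≠ x₃ ∧ x₁ ≠ x₄ ∧ x₁ ≠ x₅) ∧
    (x₂ ≠ x₃ ∧ x₂ ≠ x₄ ∧ x₂ ≠ x₅) ∧ (x₃ ≠ x₄ ∧ x₃ ≠ x₅) ∧ x₄ ≠ x₅

variable {L : Subgroup G} {O : Finset Ω} {x₁ x₂ x₃ x₄ x₅ y₁ y₂ y₃ y₄ y₅ z₁ z₂ z₃ z₄ z₅ : Ω}

theorem E.symm (h : E L x₁ x₂ x₃ x₄ x₅ y₁ y₂ y₃ y₄ y₅) : E L y₁ y₂ y₃ y₄ y₅ x₁ x₂ x₃ x₄ x₅ := by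
  obtain ⟨g, hg, rfl, rfl, rfl, rfl, rfl⟩ := h
  exact ⟨g⁻¹, inv_mem hg, by simp⟩

theorem E.trans (h : E L x₁ x₂ x₃ x₄ x₅ y₁ y₂ y₃ y₄ y₅) (h' : E L y₁ y₂ y₃ y₄ y₅ z₁ z₂ z₃ z₄ z₅) :
    E L x₁ x₂ x₃ x₄ x₅ z₁ z₂ z₃ z₄ z₅ := by
  obtain ⟨g, hg, rfl, rfl, rfl, rfl, rfl⟩ := h
  obtain ⟨g', hg', rfl, rfl, rfl, rfl, rfl⟩ := h'
  exact ⟨g' * g, mul_mem hg' hg, by simp [mul_smul]⟩

theorem E.sw (h : E L x₁ x₂ x₃ x₄ x₅ y₁ y₂ y₃ y₄ y₅) : E L x₁ x₂ x₃ x₅ x₄ y₁ y₂ y₃ y₅ y₄ := by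
  obtain ⟨g, hg, h1, h2, h3, h4, h5⟩ := h
  exact ⟨g, hg, h1, h2, h3, h5, h4⟩

theorem Dis.sw (h : Dis O x₁ x₂ x₃ x₄ x₅) : Dis O x₁ x₂ x₃ x₅ x₄ := by
  unfold Dis at *; grind

theorem Dis.act (hI : Inv L O) (h : Dis O x₁ x₂ x₃ x₄ x₅) {g : G} (hg : g ∈ L) :
    Dis O (g • x₁) (g • x₂) (g • x₃) (g • x₄) (g • x₅) := by
  simp only [Dis, ne_eq, smul_left_cancel_iff] at h ⊢
  exact ⟨⟨hI g hg _ h.1.1, hI g hg _ h.1.2.1, hI g hg _ h.1.2.2.1, hI g hg _ h.1.2.2.2.1,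
    hI g hg _ h.1.2.2.2.2⟩, h.2⟩

/-- a symmetric colouring on which `L` is transitive colourwise -/
structure CS (L : Subgroup G) (O : Finset Ω) (C : Ω → Ω → Ω → Ω → Ω → Prop) : Prop where
  dis : ∀ {x₁ x₂ x₃ x₄ x₅ : Ω}, C x₁ x₂ x₃ x₄ x₅ → Dis O x₁ x₂ x₃ x₄ x₅
  act : ∀ {g : G}, g ∈ L → ∀ {x₁ x₂ x₃ x₄ x₅ : Ω}, C x₁ x₂ x₃ x₄ x₅ →
    C (g • x₁) (g • x₂) (g • x₃) (g • x₄) (g • x₅)
  tr : ∀ {x₁ x₂ x₃ x₄ x₅ y₁ y₂ y₃ y₄ y₅ : Ω}, Dis O x₁ x₂ x₃ x₄ x₅ → Dis O y₁ y₂ y₃ y₄ y₅ →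
    (C x₁ x₂ x₃ x₄ x₅ ↔ C y₁ y₂ y₃ y₄ y₅) → E L x₁ x₂ x₃ x₄ x₅ y₁ y₂ y₃ y₄ y₅
  sw : ∀ {x₁ x₂ x₃ x₄ x₅ : Ω}, Dis O x₁ x₂ x₃ x₄ x₅ → E L x₁ x₂ x₃ x₄ x₅ x₁ x₂ x₃ x₅ x₄

theorem mk_CS (hI : Inv L O) {α₁ α₂ α₃ a b c β β' : Ω} (hb : Dis O α₁ α₂ α₃ a b)
    (hU : ∀ x₁ x₂ x₃ x₄ x₅, Dis O x₁ x₂ x₃ x₄ x₅ →
      E L α₁ α₂ α₃ a b x₁ x₂ x₃ x₄ x₅ ∨ E L α₁ α₂ α₃ a c x₁ x₂ x₃ x₄ x₅)
    (hβ : Dis O α₁ α₂ α₃ β β') (hs : E L α₁ α₂ α₃ β β' α₁ α₂ α₃ β' β) :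
    CS L O (E L α₁ α₂ α₃ a b) := by
  have tr : ∀ {x₁ x₂ x₃ x₄ x₅ y₁ y₂ y₃ y₄ y₅ : Ω}, Dis O x₁ x₂ x₃ x₄ x₅ → Dis O y₁ y₂ y₃ y₄ y₅ →
      (E L α₁ α₂ α₃ a b x₁ x₂ x₃ x₄ x₅ ↔ E L α₁ α₂ α₃ a b y₁ y₂ y₃ y₄ y₅) →
      E L x₁ x₂ x₃ x₄ x₅ y₁ y₂ y₃ y₄ y₅ := fun hx hy h => by
    rcases hU _ _ _ _ _ hx with h1 | h1
    · exact h1.symm.trans (h.1 h1)
    rcases hU _ _ _ _ _ hy with h2 | h2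
    · exact (h.2 h2).symm.trans h2
    · exact h1.symm.trans h2
  have iff : ∀ {x₁ x₂ x₃ x₄ x₅ y₁ y₂ y₃ y₄ y₅ : Ω}, E L x₁ x₂ x₃ x₄ x₅ y₁ y₂ y₃ y₄ y₅ →
      (E L α₁ α₂ α₃ a b x₁ x₂ x₃ x₄ x₅ ↔ E L α₁ α₂ α₃ a b y₁ y₂ y₃ y₄ y₅) := fun h =>
    ⟨fun h' => h'.trans h, fun h' => h'.trans h.symm⟩
  refine ⟨fun h => ?_, fun hg _ _ _ _ _ h => h.trans ⟨_, hg, rfl, rfl, rfl, rfl, rfl⟩, tr,
    fun {x₁ x₂ x₃ x₄ x₅} hx => tr hx hx.sw ?_⟩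
  · obtain ⟨g, hg, rfl, rfl, rfl, rfl, rfl⟩ := h
    exact hb.act hI hg
  have h0 := iff hs
  by_cases h1 : E L α₁ α₂ α₃ a b α₁ α₂ α₃ β β' ↔ E L α₁ α₂ α₃ a b x₁ x₂ x₃ x₄ x₅
  · exact (h1.symm.trans h0).trans (iff (tr hβ hx h1).sw)
  · by_contra h2
    exact h1 (iff (tr hβ.sw hx.sw (by tauto)).sw)

namespace CS

variable {C : Ω → Ω → Ω → Ω → Ω → Prop} (h : CS L O C)
include h

theorem of_E (e : E L x₁ x₂ x₃ x₄ x₅ y₁ y₂ y₃ y₄ y₅) (c : C x₁ x₂ x₃ x₄ x₅) : C y₁ y₂ y₃ y₄ y₅ := by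
  obtain ⟨g, hg, rfl, rfl, rfl, rfl, rfl⟩ := e
  exact h.act hg c

theorem act_iff {g : G} (hg : g ∈ L) :
    C (g • x₁) (g • x₂) (g • x₃) (g • x₄) (g • x₅) ↔ C x₁ x₂ x₃ x₄ x₅ :=
  ⟨fun c => by simpa using h.act (inv_mem hg) c, h.act hg⟩

theorem tr1 (c : C x₁ x₂ x₃ x₄ x₅) (d : C y₁ y₂ y₃ y₄ y₅) : E L x₁ x₂ x₃ x₄ x₅ y₁ y₂ y₃ y₄ y₅ :=
  h.tr (h.dis c) (h.dis d) (iff_of_true c d)

theorem s45 (c : C x₁ x₂ x₃ x₄ x₅) : C x₁ x₂ x₃ x₅ x₄ := h.of_E (h.sw (h.dis c)) c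

theorem s12 (c : C x₁ x₂ x₃ x₄ x₅) : C x₂ x₁ x₃ x₄ x₅ := by
  obtain ⟨g, hg, h1, h2, h3, h4, h5⟩ := h.sw (show Dis O x₃ x₄ x₅ x₁ x₂ by
    have := h.dis c; unfold Dis at *; grind)
  exact h.of_E ⟨g, hg, h4, h5, h1, h2, h3⟩ c

theorem s23 (c : C x₁ x₂ x₃ x₄ x₅) : C x₁ x₃ x₂ x₄ x₅ := by
  obtain ⟨g, hg, h1, h2, h3, h4, h5⟩ := h.sw (show Dis O x₁ x₄ x₅ x₂ x₃ by
    have := h.dis c; unfold Dis at *; grind)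
  exact h.of_E ⟨g, hg, h1, h4, h5, h2, h3⟩ c

theorem s34 (c : C x₁ x₂ x₃ x₄ x₅) : C x₁ x₂ x₄ x₃ x₅ := by
  obtain ⟨g, hg, h1, h2, h3, h4, h5⟩ := h.sw (show Dis O x₁ x₂ x₅ x₃ x₄ by
    have := h.dis c; unfold Dis at *; grind)
  exact h.of_E ⟨g, hg, h1, h2, h4, h5, h3⟩ c

theorem s13 (c : C x₁ x₂ x₃ x₄ x₅) : C x₃ x₂ x₁ x₄ x₅ := h.s12 (h.s23 (h.s12 c))
theorem s24 (c : C x₁ x₂ x₃ x₄ x₅) : C x₁ x₄ x₃ x₂ x₅ := h.s23 (h.s34 (h.s23 c))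
theorem s35 (c : C x₁ x₂ x₃ x₄ x₅) : C x₁ x₂ x₅ x₄ x₃ := h.s34 (h.s45 (h.s34 c))
theorem s14 (c : C x₁ x₂ x₃ x₄ x₅) : C x₄ x₂ x₃ x₁ x₅ := h.s12 (h.s24 (h.s12 c))
theorem s25 (c : C x₁ x₂ x₃ x₄ x₅) : C x₁ x₅ x₃ x₄ x₂ := h.s23 (h.s35 (h.s23 c))
theorem s15 (c : C x₁ x₂ x₃ x₄ x₅) : C x₅ x₂ x₃ x₄ x₁ := h.s12 (h.s25 (h.s12 c))

/-- the pattern lemma, from the orbit structure of a five-point stabiliser. -/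
theorem pattern {α₁ α₂ α₃ a β : Ω} (hβ : C α₁ α₂ α₃ a β) (J : Ω → Ω → Prop)
    (hJ : ∀ x y, J x y ↔
      ∃ g ∈ L, g • α₁ = α₁ ∧ g • α₂ = α₂ ∧ g • α₃ = α₃ ∧ g • a = a ∧ g • β = β ∧ g • x = y)
    (h1 : ∀ x y, C α₁ α₂ α₃ a x → C α₁ α₂ α₃ a y → x ≠ β → y ≠ β → (∀ z, J x z → z = x) →
      (∀ z, J y z → z = y) → x = y)
    (h2 : ∀ x y z, C α₁ α₂ α₃ a x → C α₁ α₂ α₃ a y → C α₁ α₂ α₃ a z → x ≠ β → y ≠ β → z ≠ β →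
      ¬ (∀ w, J x w → w = x) → ¬ (∀ w, J y w → w = y) → ¬ (∀ w, J z w → w = z) →
      J x y ∨ J x z ∨ J y z) {y ω : Ω}
    (c1 : C y₁ y₂ y₃ y₄ y) (c2 : C y₁ y₂ y₃ y₄ ω) (hne : ω ≠ y) (c3 : C ω y₂ y₃ y₄ y) :
    C y₁ ω y₃ y₄ y := by
  obtain ⟨g₀, hg₀, rfl, rfl, rfl, rfl, rfl⟩ := h.tr1 hβ c1
  obtain ⟨ω, rfl⟩ := MulAction.surjective g₀ ω
  rw [h.act_iff hg₀] at c2 c3 ⊢
  replace hne : ω ≠ β := fun e => hne (e ▸ rfl)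
  obtain ⟨g, hg, g1, g2, g3, g4, g5⟩ := h.tr1 hβ (h.s12 (h.s23 hβ))
  have i1 : g⁻¹ • α₃ = α₁ := by rw [← g1, inv_smul_smul]
  have i2 : g⁻¹ • α₁ = α₂ := by rw [← g2, inv_smul_smul]
  have i3 : g⁻¹ • α₂ = α₃ := by rw [← g3, inv_smul_smul]
  have i4 : g⁻¹ • a = a := by rw [inv_smul_eq_iff, g4]
  have i5 : g⁻¹ • β = β := by rw [inv_smul_eq_iff, g5]
  have hC : ∀ x, C α₁ α₂ α₃ a x → C α₁ α₂ α₃ a (g • x) := fun x c => by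
    have := h.act hg c
    rw [g1, g2, g3, g4] at this
    exact h.s23 (h.s12 this)
  have hN : ∀ x, x ≠ β → g • x ≠ β := fun x hx e => hx (MulAction.injective g (e.trans g5.symm))
  have hJ1 : ∀ x y, J x y → J (g • x) (g • y) := fun x y j => by
    obtain ⟨m, hm, m1, m2, m3, m4, m5, rfl⟩ := (hJ _ _).1 j
    exact (hJ _ _).2 ⟨g * m * g⁻¹, mul_mem (mul_mem hg hm) (inv_mem hg), by
      simp only [mul_smul, i1, i2, i3, i4, i5, m1, m2, m3, m4, m5, g1, g2, g3, g4, g5,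
        inv_smul_smul, and_self]⟩
  have hJ2 : ∀ x y, J (g • x) (g • y) → J x y := fun x y j => by
    obtain ⟨m, hm, m1, m2, m3, m4, m5, m6⟩ := (hJ _ _).1 j
    exact (hJ _ _).2 ⟨g⁻¹ * m * g, mul_mem (mul_mem (inv_mem hg) hm) hg, by
      simp only [mul_smul, i1, i2, i3, i4, i5, m1, m2, m3, m4, m5, m6, g1, g2, g3, g4, g5,
        inv_smul_smul, and_self]⟩
  have hJt : ∀ x y z, J x y → J y z → J x z := fun x y z j j' => by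
    obtain ⟨m, hm, m1, m2, m3, m4, m5, rfl⟩ := (hJ _ _).1 j
    obtain ⟨n, hn, n1, n2, n3, n4, n5, rfl⟩ := (hJ _ _).1 j'
    exact (hJ _ _).2 ⟨n * m, mul_mem hn hm, by
      simp only [mul_smul, m1, m2, m3, m4, m5, n1, n2, n3, n4, n5, and_self]⟩
  have hF : ∀ x, (∀ z, J (g • x) z → z = g • x) ↔ ∀ z, J x z → z = x := fun x =>
    ⟨fun f z j => MulAction.injective g (f _ (hJ1 _ _ j)), fun f z j => by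
      obtain ⟨z, rfl⟩ := MulAction.surjective g z
      exact congrArg _ (f z (hJ2 _ _ j))⟩
  have key : J ω (g • g • ω) := by
    by_cases f : ∀ z, J ω z → z = ω
    · have := h1 _ _ (hC _ c2) c2 (hN _ hne) hne ((hF _).2 f) f
      rw [this, this]
      exact (hJ _ _).2 ⟨1, one_mem _, by simp⟩
    rcases h2 _ _ _ c2 (hC _ c2) (hC _ (hC _ c2)) hne (hN _ hne) (hN _ (hN _ hne)) f
      (mt (hF _).1 f) (mt (hF _).1 (mt (hF _).1 f)) with j | j | j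
    · exact hJt _ _ _ j (hJ1 _ _ j)
    · exact j
    · exact hJt _ _ _ (hJ2 _ _ j) j
  obtain ⟨m, hm, m1, m2, m3, m4, m5, m6⟩ := (hJ _ _).1 key
  have c4 := h.act hg (h.act hg c3)
  rw [g2, g1, g3, g2, g4, g4, g5, g5, ← m6] at c4
  have c5 : C (m • ω) (m • α₃) (m • α₁) (m • a) (m • β) := by rwa [m1, m3, m4, m5]
  rw [h.act_iff hm] at c5
  exact h.s12 (h.s23 c5)

end CS

theorem exists_swap [Finite G] [Fintype Ω] [DecidableEq Ω] (S : Subgroup G) (b : Ω)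
    (he : 2 ∣ (orb S b).card) : ∃ g ∈ S, g • b ≠ b ∧ g • g • b = b := by
  classical
  have : Fact (Nat.Prime 2) := ⟨Nat.prime_two⟩
  obtain ⟨P⟩ : Nonempty (Sylow 2 S) := inferInstance
  have h1 : (MulAction.stabilizer S b).index = (orb S b).card := by
    rw [MulAction.index_stabilizer, ← Set.ncard_coe_finset]
    congr 1
    ext y
    simp only [MulAction.mem_orbit_iff, mem_coe, mem_orb]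
    exact ⟨fun ⟨g, hg⟩ => ⟨g, g.2, hg⟩, fun ⟨g, hg, e⟩ => ⟨⟨g, hg⟩, e⟩⟩
  obtain ⟨g, hg, hgb⟩ := SetLike.not_le_iff_exists.1 fun (e : (P : Subgroup S) ≤
    MulAction.stabilizer S b) => P.not_dvd_index ((h1 ▸ he).trans (Subgroup.index_dvd_of_le e))
  obtain ⟨k, hk⟩ := P.2 ⟨g, hg⟩
  have ex : ∃ m, (g : G) ^ 2 ^ m • b = b := ⟨k, by
    have := congrArg (fun x : P => ((x : S) : G)) hk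
    simp only [SubmonoidClass.coe_pow, OneMemClass.coe_one] at this
    rw [this, one_smul]⟩
  have h0 : Nat.find ex ≠ 0 := fun e => hgb (by
    have := Nat.find_spec ex
    rw [e, pow_zero, pow_one] at this
    exact this)
  refine ⟨(g : G) ^ 2 ^ (Nat.find ex - 1), pow_mem g.2 _, Nat.find_min ex (by omega), ?_⟩
  rw [← mul_smul, ← pow_add, ← mul_two, ← pow_succ, Nat.sub_add_cancel (by omega)]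
  exact Nat.find_spec ex

end Cfsg.Agent.H8.Pat
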