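import Cfsg.Agent.H8.PnPat1

/-! The strongly regular graph of a symmetric two-colouring of five-sets. -/

set_option autoImplicit false

namespace Cfsg.Agent.H8.Pat

open Finset Cfsg.Agent.L0.Pn

variable {G : Type} [Group G] {Ω : Type} [Fintype Ω] [DecidableEq Ω] [MulAction G Ω]

/-- the double counting inequality -/
def PhiT (Ω : Type) [DecidableEq Ω] : Prop :=
  ∀ (O : Finset Ω) (R : Ω → Ω → Prop) [DecidableRel R] (F : Finset Ω), F ⊆ O → F.Nonempty →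
    ∀ {k k' W M : ℕ}, (∀ y ∈ F, (O.filter fun x => R x y).card = k) →
    (∀ x ∈ F, (F.filter fun y => R x y).card = k') →
    (∀ x ∈ O \ F, (F.filter fun y => R x y).card ≤ M) →
    (∀ y ∈ F, ∑ z ∈ F.erase y, (O.filter fun x => R x y ∧ R x z).card = W) →
    (W : ℤ) - k' * (k' - 1) ≤ (M - 1) * (k - k')

open Classical in
/-- neighbours -/
noncomputable def Nb (C : Ω → Ω → Ω → Ω → Ω → Prop) (x₁ x₂ x₃ x : Ω) : Finset Ω :=
  univ.filter (C x₁ x₂ x₃ x)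

omit [DecidableEq Ω] in
@[simp] theorem mem_Nb {C : Ω → Ω → Ω → Ω → Ω → Prop} {x₁ x₂ x₃ x y : Ω} :
    y ∈ Nb C x₁ x₂ x₃ x ↔ C x₁ x₂ x₃ x y := by
  classical simp [Nb]

theorem arith {k' l l' lam mu M d : ℕ} (h1 : 1 ≤ k') (hd : d = 2 ∨ d = 3) (hl : l = 2 * l' + d)
    (hc : (2 * k' + 2) * lam + l * mu = (2 * k' + 2) * (2 * k' + 1)) (h4 : 4 * mu ≤ 2 * k' + 2)
    (h2 : lam ≤ k' + 1) (h3 : lam + 3 ≤ 2 * k' + 2) (hM : M = max lam mu)
    (hp : ((k' * lam + l' * mu : ℕ) : ℤ) - k' * (k' - 1) ≤ (M - 1) * ((2 * k' + 2 : ℕ) - k')) :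
    False := by
  have hM' : M ≤ k' + 1 := by omega
  have hc' : ((2 * k' + 2) * lam + (2 * l' + d) * mu : ℤ) = (2 * k' + 2) * (2 * k' + 1) := by
    rw [hl] at hc; exact_mod_cast hc
  push_cast at hp
  have hk : k' ≤ 3 := by
    have e1 : ((M : ℤ) - 1) * (2 * k' + 2 - k') ≤ k' * (2 * k' + 2 - k') :=
      mul_le_mul_of_nonneg_right (by omega) (by omega)
    have e2 : (d : ℤ) * mu ≤ 3 * mu := mul_le_mul_of_nonneg_right (by omega) (by omega)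
    have e3 : (lam : ℤ) ≤ k' + 1 := by omega
    have e4 : (4 * mu : ℤ) ≤ 2 * k' + 2 := by omega
    have : (2 * k' : ℤ) ≤ 6 := by nlinarith
    omega
  have hmu : mu ≤ 2 := by omega
  have hlam : lam ≤ 4 := by omega
  subst hM
  interval_cases k' <;> interval_cases mu <;> interval_cases lam <;>
    rcases hd with rfl | rfl <;> simp at * <;> omega

namespace CS

variable {L : Subgroup G} {O : Finset Ω} {C : Ω → Ω → Ω → Ω → Ω → Prop} (h : CS L O C)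
  {α₁ α₂ α₃ a b c x₁ x₂ x₃ x y y₁ y₂ y₃ u v : Ω}
include h

theorem card_Cn (e : E L x₁ x₂ x₃ x y y₁ y₂ y₃ u v) :
    #(Nb C x₁ x₂ x₃ x ∩ Nb C x₁ x₂ x₃ y) = #(Nb C y₁ y₂ y₃ u ∩ Nb C y₁ y₂ y₃ v) := by
  obtain ⟨g, hg, rfl, rfl, rfl, rfl, rfl⟩ := e
  exact card_bijective _ (MulAction.bijective g) fun ω => by simp [h.act_iff hg]

theorem four_mu (hp : ∀ {y₁ y₂ y₃ y₄ y ω : Ω}, C y₁ y₂ y₃ y₄ y → C y₁ y₂ y₃ y₄ ω → ω ≠ y →
      C ω y₂ y₃ y₄ y → C y₁ ω y₃ y₄ y) (hd : Dis O x₁ x₂ x₃ x y) (hn : ¬ C x₁ x₂ x₃ x y) :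
    4 * #(Nb C x₁ x₂ x₃ x ∩ Nb C x₁ x₂ x₃ y) ≤ #(Nb C x₁ x₂ x₃ x) := by
  have key : ∀ {p q r s ω : Ω}, Dis O p q r s y → ¬ C p q r s y → C p q r s ω → C ω q r s y →
      C p ω r s y → False := fun {p q r s ω} d n c1 c2 c3 => by
    -- base `{y, ω, r, s}`, the two neighbours `p, q`
    have c4 : C y ω r s q := h.s12 (h.s25 c2)
    have c5 : C y ω r s p := h.s15 c3
    have c6 := hp c4 c5 d.2.1.1 (h.s25 c1)
    exact n (h.s25 (h.s12 c6))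
  have e1 := h.card_Cn (h.tr hd (show Dis O x x₂ x₃ x₁ y by unfold Dis at *; grind)
    (iff_of_false hn fun c => hn (h.s14 c)))
  have e2 := h.card_Cn (h.tr hd (show Dis O x₁ x x₃ x₂ y by unfold Dis at *; grind)
    (iff_of_false hn fun c => hn (h.s24 c)))
  have e3 := h.card_Cn (h.tr hd (show Dis O x₁ x₂ x x₃ y by unfold Dis at *; grind)
    (iff_of_false hn fun c => hn (h.s34 c)))
  set W₀ := Nb C x₁ x₂ x₃ x ∩ Nb C x₁ x₂ x₃ y
  set W₁ := Nb C x x₂ x₃ x₁ ∩ Nb C x x₂ x₃ y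
  set W₂ := Nb C x₁ x x₃ x₂ ∩ Nb C x₁ x x₃ y
  set W₃ := Nb C x₁ x₂ x x₃ ∩ Nb C x₁ x₂ x y
  have m0 : ∀ ω ∈ W₀, C x₁ x₂ x₃ x ω ∧ C x₁ x₂ x₃ ω y := fun ω hω => by
    simp only [W₀, mem_inter, mem_Nb] at hω
    exact ⟨hω.1, h.s45 hω.2⟩
  have m1 : ∀ ω ∈ W₁, C x₁ x₂ x₃ x ω ∧ C ω x₂ x₃ x y := fun ω hω => by
    simp only [W₁, mem_inter, mem_Nb] at hω
    exact ⟨h.s14 hω.1, h.s14 (h.s45 hω.2)⟩
  have m2 : ∀ ω ∈ W₂, C x₁ x₂ x₃ x ω ∧ C x₁ ω x₃ x y := fun ω hω => by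
    simp only [W₂, mem_inter, mem_Nb] at hω
    exact ⟨h.s24 hω.1, h.s24 (h.s45 hω.2)⟩
  have m3 : ∀ ω ∈ W₃, C x₁ x₂ x₃ x ω ∧ C x₁ x₂ ω x y := fun ω hω => by
    simp only [W₃, mem_inter, mem_Nb] at hω
    exact ⟨h.s34 hω.1, h.s34 (h.s45 hω.2)⟩
  have d12 : Disjoint W₁ W₂ := disjoint_left.2 fun ω h1 h2 =>
    key hd hn (m1 ω h1).1 (m1 ω h1).2 (m2 ω h2).2
  have d13 : Disjoint W₁ W₃ := disjoint_left.2 fun ω h1 h2 =>
    key (show Dis O x₁ x₃ x₂ x y by unfold Dis at *; grind) (fun c => hn (h.s23 c))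
      (h.s23 (m1 ω h1).1) (h.s23 (m1 ω h1).2) (h.s23 (m3 ω h2).2)
  have d10 : Disjoint W₁ W₀ := disjoint_left.2 fun ω h1 h2 =>
    key (show Dis O x₁ x x₃ x₂ y by unfold Dis at *; grind) (fun c => hn (h.s24 c))
      (h.s24 (m1 ω h1).1) (h.s24 (m1 ω h1).2) (h.s24 (m0 ω h2).2)
  have d23 : Disjoint W₂ W₃ := disjoint_left.2 fun ω h1 h2 =>
    key (show Dis O x₃ x₂ x₁ x y by unfold Dis at *; grind) (fun c => hn (h.s13 c))
      (h.s13 (m2 ω h1).1) (h.s13 (m3 ω h2).2) (h.s13 (m2 ω h1).2)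
  have d20 : Disjoint W₂ W₀ := disjoint_left.2 fun ω h1 h2 =>
    key (show Dis O x x₂ x₃ x₁ y by unfold Dis at *; grind) (fun c => hn (h.s14 c))
      (h.s14 (m2 ω h1).1) (h.s14 (m0 ω h2).2) (h.s14 (m2 ω h1).2)
  have d30 : Disjoint W₃ W₀ := disjoint_left.2 fun ω h1 h2 =>
    key (show Dis O x₃ x x₁ x₂ y by unfold Dis at *; grind) (fun c => hn (h.s13 (h.s24 c)))
      (h.s13 (h.s24 (m3 ω h1).1)) (h.s13 (h.s24 (m3 ω h1).2)) (h.s13 (h.s24 (m0 ω h2).2))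
  have hs : W₁ ∪ (W₂ ∪ (W₃ ∪ W₀)) ⊆ Nb C x₁ x₂ x₃ x := fun ω hω => by
    simp only [mem_union] at hω
    rcases hω with hω | hω | hω | hω
    exacts [mem_Nb.2 (m1 ω hω).1, mem_Nb.2 (m2 ω hω).1, mem_Nb.2 (m3 ω hω).1, mem_Nb.2 (m0 ω hω).1]
  have := card_le_card hs
  rw [card_union_of_disjoint (by simp [disjoint_union_right, *]),
    card_union_of_disjoint (by simp [disjoint_union_right, *]), card_union_of_disjoint d30] at this
  omega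

theorem core {K : Subgroup G} (phi : PhiT Ω)
    (hp : ∀ {y₁ y₂ y₃ y₄ y ω : Ω}, C y₁ y₂ y₃ y₄ y → C y₁ y₂ y₃ y₄ ω → ω ≠ y →
      C ω y₂ y₃ y₄ y → C y₁ ω y₃ y₄ y)
    (hb : C α₁ α₂ α₃ a b) (hc : Dis O α₁ α₂ α₃ a c) (hc' : ¬ C α₁ α₂ α₃ a c) (hKL : K ≤ L)
    (f₁ : Fx K α₁) (f₂ : Fx K α₂) (f₃ : Fx K α₃) (fa : Fx K a)
    (h4 : ∀ x ∈ O \ {α₁, α₂, α₃}, ∃ m ∈ L, m • α₁ = α₁ ∧ m • α₂ = α₂ ∧ m • α₃ = α₃ ∧ m • a = x ∧
      (Fx K x → ∀ z : Ω, Fx K (m • z) ↔ Fx K z))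
    (h1 : del K (Nb C α₁ α₂ α₃ a) = 2) {d : ℕ} (hd : d = 2 ∨ d = 3)
    (h2 : del K ((O \ {α₁, α₂, α₃}).erase a \ Nb C α₁ α₂ α₃ a) = d)
    (h3 : ∀ β ∈ fx K (Nb C α₁ α₂ α₃ a),
      2 * #(Nb C α₁ α₂ α₃ a ∩ Nb C α₁ α₂ α₃ β) ≤ #(Nb C α₁ α₂ α₃ a) ∨
      #(Nb C α₁ α₂ α₃ a) ≤ #(Nb C α₁ α₂ α₃ a ∩ Nb C α₁ α₂ α₃ β) + 2) :
    ∀ x ∈ insert a (Nb C α₁ α₂ α₃ a), insert x (Nb C α₁ α₂ α₃ x) = insert a (Nb C α₁ α₂ α₃ a) := by
  classical
  set O' := O \ {α₁, α₂, α₃} with hO'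
  set N := Nb C α₁ α₂ α₃ with hN
  have mN : ∀ {x y}, y ∈ N x ↔ C α₁ α₂ α₃ x y := mem_Nb
  have dis : ∀ {x y}, x ∈ O' → y ∈ O'.erase x → Dis O α₁ α₂ α₃ x y := fun hx hy => by
    have := h.dis hb
    simp only [hO', mem_erase, mem_sdiff, mem_insert, mem_singleton] at hx hy
    unfold Dis at *; grind
  have sub : ∀ {x y}, y ∈ N x → x ∈ O' ∧ y ∈ O'.erase x := fun hy => by
    have := h.dis (mN.1 hy)
    simp only [hO', mem_erase, mem_sdiff, mem_insert, mem_singleton]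
    unfold Dis at *; grind
  have sym : ∀ {x y}, y ∈ N x → x ∈ N y := fun hy => mN.2 (h.s45 (mN.1 hy))
  have irr : ∀ x, x ∉ N x := fun x hx => (mem_erase.1 (sub hx).2).1 rfl
  have haO : a ∈ O' := (sub (mN.2 hb)).1
  obtain ⟨k', hk'⟩ : ∃ k', #(fx K (N a)) = k' := ⟨_, rfl⟩
  obtain ⟨l', hl'⟩ : ∃ l', #(fx K (O'.erase a \ N a)) = l' := ⟨_, rfl⟩
  obtain ⟨l, hl⟩ : ∃ l, #(O'.erase a \ N a) = l := ⟨_, rfl⟩
  have hk : #(N a) = 2 * k' + 2 := by unfold del at h1; omega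
  have hl2 : l = 2 * l' + d := by unfold del at h2; omega
  have val : ∀ x ∈ O', #(N x) = 2 * k' + 2 := fun x hx => by
    obtain ⟨m, hm, m1, m2, m3, rfl, -⟩ := h4 x hx
    rw [← hk]
    refine (card_bijective _ (MulAction.bijective m) fun ω => ?_).symm
    rw [mN, mN, ← h.act_iff hm, m1, m2, m3]
  obtain ⟨lam, hlam⟩ : ∃ lam, #(N a ∩ N b) = lam := ⟨_, rfl⟩
  obtain ⟨mu, hmu⟩ : ∃ mu, #(N a ∩ N c) = mu := ⟨_, rfl⟩
  have cl : ∀ {x y}, y ∈ N x → #(N x ∩ N y) = lam := fun hy =>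
    (h.card_Cn (h.tr1 (mN.1 hy) hb)).trans hlam
  have cm : ∀ {x y}, x ∈ O' → y ∈ O'.erase x → y ∉ N x → #(N x ∩ N y) = mu := fun hx hy hn =>
    (h.card_Cn (h.tr (dis hx hy) hc (iff_of_false (mt mN.2 hn) hc'))).trans hmu
  have sm : ∀ x ∈ O', ∀ T ⊆ O'.erase x,
      ∑ y ∈ T, #(N x ∩ N y) = #(T ∩ N x) * lam + #(T \ N x) * mu := fun x hx T hT => by
    rw [← sum_inter_add_sum_sdiff T (N x), sum_congr rfl fun y hy => cl (mem_inter.1 hy).2,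
      sum_congr rfl fun y hy => cm hx (hT (mem_sdiff.1 hy).1) (mem_sdiff.1 hy).2]
    simp
  have cnt : (2 * k' + 2) * lam + l * mu = (2 * k' + 2) * (2 * k' + 1) := by
    have e1 := sum_card_bipartiteAbove_eq_sum_card_bipartiteBelow (s := N a) (t := O'.erase a)
      (fun z y => y ∈ N z)
    have e2 := sm a haO _ Subset.rfl
    rw [inter_eq_right.2 fun y hy => (sub hy).2, hk, hl] at e2
    rw [← e2, ← hk, ← smul_eq_mul, ← sum_const]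
    refine (sum_congr rfl fun y _ => ?_).trans (e1.symm.trans (sum_congr rfl fun z hz => ?_))
    · congr 1
      ext z
      simp only [mem_inter, mem_bipartiteBelow]
      exact ⟨fun e => ⟨e.1, sym e.2⟩, fun e => ⟨e.1, sym e.2⟩⟩
    · have : bipartiteAbove (fun z y => y ∈ N z) (O'.erase a) z = (N z).erase a := by
        ext y
        simp only [mem_bipartiteAbove, mem_erase]
        exact ⟨fun e => ⟨e.1.1, e.2⟩, fun e => ⟨⟨e.1, (mem_erase.1 (sub e.2).2).2⟩, e.2⟩⟩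
      rw [this, card_erase_of_mem (sym hz), val z (mem_erase.1 (sub hz).2).2]
      omega
  have four : 4 * mu ≤ 2 * k' + 2 := by
    rw [← hmu, ← hk]; exact h.four_mu hp hc hc'
  have ss : ∀ {x y}, y ∈ N x → N x ∩ N y ⊆ (N x).erase y := fun hy z hz =>
    mem_erase.2 ⟨fun e => irr _ (e ▸ (mem_inter.1 hz).2), (mem_inter.1 hz).1⟩
  have ce : ∀ {x y}, y ∈ N x → #((N x).erase y) = 2 * k' + 1 := fun hy => by
    rw [card_erase_of_mem hy, val _ (sub hy).1]; omega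
  have hle : lam ≤ 2 * k' + 1 := by
    rw [← hlam, ← ce (mN.2 hb)]; exact card_le_card (ss (mN.2 hb))
  by_cases e1 : lam = 2 * k' + 1
  · have eq : ∀ {x y}, y ∈ N x → N x ∩ N y = (N x).erase y := fun hy =>
      eq_of_subset_of_card_le (ss hy) (by rw [ce hy, cl hy, e1])
    have le : ∀ {x y}, y ∈ N x → insert x (N x) ⊆ insert y (N y) := fun {x y} hy z hz => by
      rcases mem_insert.1 hz with rfl | hz
      · exact mem_insert_of_mem (sym hy)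
      by_cases e : z = y
      · exact e ▸ mem_insert_self _ _
      · exact mem_insert_of_mem (mem_inter.1 (eq hy ▸ mem_erase.2 ⟨e, hz⟩ : z ∈ N x ∩ N y)).2
    intro x hx
    rcases mem_insert.1 hx with rfl | hx
    · rfl
    · exact Subset.antisymm (le (sym hx)) (le hx)
  exfalso
  by_cases e2 : lam = 2 * k'
  · have one : ∀ y ∈ N a, #((N a).erase y \ N y) = 1 := fun y hy => by
      have e3 : (N a).erase y ∩ N y = N a ∩ N y := by
        ext z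
        simp only [mem_inter, mem_erase]
        exact ⟨fun e => ⟨e.1.2, e.2⟩, fun e => ⟨⟨fun e' => irr _ (e' ▸ e.2), e.1⟩, e.2⟩⟩
      have := card_sdiff_add_card_inter ((N a).erase y) (N y)
      rw [e3, cl hy, ce hy] at this
      omega
    obtain ⟨b', hb'⟩ := card_eq_one.1 (one b (mN.2 hb))
    have m1 : b' ∈ (N a).erase b \ N b := hb' ▸ mem_singleton_self _
    obtain ⟨m2, m3⟩ := mem_sdiff.1 m1
    obtain ⟨m4, m5⟩ := mem_erase.1 m2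
    obtain ⟨b'', hb''⟩ := card_eq_one.1 (one b' m5)
    have m6 : b ∈ (N a).erase b' \ N b' :=
      mem_sdiff.2 ⟨mem_erase.2 ⟨m4.symm, mN.2 hb⟩, fun e => m3 (sym e)⟩
    have s1 : insert a (((N a).erase b).erase b') ⊆ N b ∩ N b' := fun z hz => by
      rcases mem_insert.1 hz with rfl | hz
      · exact mem_inter.2 ⟨sym (mN.2 hb), sym m5⟩
      obtain ⟨z1, z2⟩ := mem_erase.1 hz
      obtain ⟨z3, z4⟩ := mem_erase.1 z2
      refine mem_inter.2 ⟨by_contra fun e => z1 ?_, by_contra fun e => z3 ?_⟩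
      · exact mem_singleton.1 (hb' ▸ mem_sdiff.2 ⟨z2, e⟩)
      · have u1 : z ∈ ({b''} : Finset Ω) := hb'' ▸ mem_sdiff.2 ⟨mem_erase.2 ⟨z1, z4⟩, e⟩
        rw [hb''] at m6
        exact (mem_singleton.1 u1).trans (mem_singleton.1 m6).symm
    have := card_le_card s1
    rw [cm (mem_erase.1 (sub (mN.2 hb)).2).2
      (mem_erase.2 ⟨m4, (mem_erase.1 (sub m5).2).2⟩) m3,
      card_insert_of_notMem fun e => irr a (mem_of_mem_erase (mem_of_mem_erase e)),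
      card_erase_of_mem m2, ce (mN.2 hb)] at this
    omega
  have k1 : 1 ≤ k' := by omega
  obtain ⟨β, hβ⟩ := card_pos.1 (hk' ▸ k1 : 0 < #(fx K (N a)))
  have e3 := h3 β hβ
  rw [cl (mem_fx.1 hβ).1, hk] at e3
  have fO : ∀ {x}, x ∈ fx K O' → x ∈ O' := fun hx => (mem_fx.1 hx).1
  have v1 : ∀ x ∈ fx K O', #((fx K O').filter fun y => y ∈ N x) = k' := fun x hx => by
    obtain ⟨m, hm, m1, m2, m3, rfl, m4⟩ := h4 x (fO hx)
    rw [← hk']
    refine (card_bijective _ (MulAction.bijective m) fun ω => ?_).symm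
    have e : m • ω ∈ N (m • a) ↔ ω ∈ N a := by
      rw [mN, mN, ← h.act_iff hm (x₅ := ω), m1, m2, m3]
    simp only [mem_fx, mem_filter, m4 (mem_fx.1 hx).2]
    exact ⟨fun w => ⟨⟨mem_of_mem_erase (sub (e.2 w.1)).2, w.2⟩, e.2 w.1⟩, fun w => ⟨e.1 w.2, w.1.2⟩⟩
  have v2 : ∀ y ∈ fx K O', #((fx K O').erase y ∩ N y) = k' := fun y hy => by
    rw [← v1 y hy]
    congr 1
    ext z
    simp only [mem_inter, mem_erase, mem_filter]
    exact ⟨fun e => ⟨e.1.2, e.2⟩, fun e => ⟨⟨fun e' => irr _ (e' ▸ e.2), e.1⟩, e.2⟩⟩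
  have faO : a ∈ fx K O' := mem_fx.2 ⟨haO, fa⟩
  have v3 : ∀ y ∈ fx K O', #((fx K O').erase y \ N y) = l' := fun y hy => by
    have u1 := card_sdiff_add_card_inter ((fx K O').erase y) (N y)
    have u2 := card_sdiff_add_card_inter ((fx K O').erase a) (N a)
    rw [v2 y hy, card_erase_of_mem hy] at u1
    rw [v2 a faO, card_erase_of_mem faO, show (fx K O').erase a \ N a = fx K (O'.erase a \ N a) by
      ext z; simp only [mem_sdiff, mem_erase, mem_fx]; tauto, hl'] at u2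
    omega
  refine arith k1 hd hl2 cnt four (by omega) (by omega) rfl (phi O' (fun x y => y ∈ N x) (fx K O')
    (fun _ => fO) ⟨a, faO⟩ (fun y hy => ?_) v1 (fun x hx => ?_) fun y hy => ?_)
  · rw [← val y (fO hy)]
    congr 1
    ext z
    simp only [mem_filter]
    exact ⟨fun e => sym e.2, fun e => ⟨(sub (sym e)).1, sym e⟩⟩
  · obtain ⟨x1, x2⟩ := mem_sdiff.1 hx
    obtain ⟨g, hg, hgx⟩ : ∃ g ∈ K, g • x ≠ x := by
      by_contra e
      push Not at e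
      exact x2 (mem_fx.2 ⟨x1, e⟩)
    have s1 : ((fx K O').filter fun y => y ∈ N x) ⊆ N x ∩ N (g • x) := fun y hy => by
      obtain ⟨y1, y2⟩ := mem_filter.1 hy
      refine mem_inter.2 ⟨y2, mN.2 ?_⟩
      have := h.act (hKL hg) (mN.1 y2)
      rwa [f₁ g hg, f₂ g hg, f₃ g hg, (mem_fx.1 y1).2 g hg] at this
    rcases ((fx K O').filter fun y => y ∈ N x).eq_empty_or_nonempty with e | ⟨y, hy⟩
    · simp [e]
    refine (card_le_card s1).trans ?_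
    by_cases e : g • x ∈ N x
    · rw [cl e]; exact le_max_left _ _
    · rw [cm x1 (mem_erase.2 ⟨hgx, (sub (mem_inter.1 (s1 hy)).2).1⟩) e]; exact le_max_right _ _
  · rw [← v2 y hy, ← v3 y hy, ← sm y (fO hy) _ (erase_subset_erase _ fun _ => fO)]
    refine sum_congr rfl fun z _ => congrArg _ ?_
    ext x
    simp only [mem_filter, mem_inter]
    exact ⟨fun e => ⟨sym e.2.1, sym e.2.2⟩, fun e => ⟨(sub (sym e.1)).1, sym e.1, sym e.2⟩⟩

end CS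

end Cfsg.Agent.H8.Pat
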