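import Cfsg.Agent.H8.PnPat2
import Cfsg.Agent.L0.PnA
import Cfsg.Agent.H3.PnPhi

/-! The piece PAT, given the orbit lemma for deficiency two. -/

set_option autoImplicit false

namespace Cfsg.Agent.H8.Pat

open Finset Cfsg.Agent.L0.Pn

variable {G : Type} [Group G] [Finite G] {Ω : Type} [Fintype Ω] [DecidableEq Ω] [MulAction G Ω]
  {K H : Subgroup G} {O : Finset Ω} {n : ℕ}

/-- the statement of the orbit lemma for deficiency two -/
def D2T (K : Subgroup G) (Ω : Type) [Fintype Ω] [DecidableEq Ω] [MulAction G Ω] (n : ℕ) : Prop :=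
  ∀ (H : Subgroup G) (O : Finset Ω), K ≤ H → Orb H O → O.card ≤ n → Mv K O → del K O = 2 →
    ∀ b ∈ fx K O,
    (∀ x ∈ O.erase b, ∀ y ∈ O.erase b, orb (fixS H {b}) x = {x} → orb (fixS H {b}) y = {y} →
      x = y) ∧
    (∀ x ∈ O.erase b, ∀ y ∈ O.erase b, ∀ z ∈ O.erase b, orb (fixS H {b}) x ≠ {x} →
      orb (fixS H {b}) y ≠ {y} → orb (fixS H {b}) z ≠ {z} →
      y ∈ orb (fixS H {b}) x ∨ z ∈ orb (fixS H {b}) x ∨ z ∈ orb (fixS H {b}) y) ∧
    ∀ U ⊆ O.erase b, Inv (fixS H {b}) U → 2 * U.card ≤ O.card ∨ O.card ≤ U.card + 2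

omit [Finite G] [Fintype Ω] in
theorem tr4 (h : TrK H O 4) {x₁ x₂ x₃ x₄ x₅ y₁ y₂ y₃ y₄ : Ω} (hx : Dis O x₁ x₂ x₃ x₄ x₅)
    (hy : (y₁ ∈ O ∧ y₂ ∈ O ∧ y₃ ∈ O ∧ y₄ ∈ O) ∧ (y₁ ≠ y₂ ∧ y₁ ≠ y₃ ∧ y₁ ≠ y₄) ∧
      (y₂ ≠ y₃ ∧ y₂ ≠ y₄) ∧ y₃ ≠ y₄) :
    ∃ g ∈ H, g • x₁ = y₁ ∧ g • x₂ = y₂ ∧ g • x₃ = y₃ ∧ g • x₄ = y₄ := by
  unfold Dis at hx
  obtain ⟨g, hg, e⟩ := h {x₁, x₂, x₃, x₄}
    (fun z => if z = x₁ then y₁ else if z = x₂ then y₂ else if z = x₃ then y₃ else y₄)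
    (fun z hz => by simp only [mem_insert, mem_singleton] at hz; grind) card_le_four
    (fun z hz w hw => by
      simp only [coe_insert, coe_singleton, Set.mem_insert_iff, Set.mem_singleton_iff] at hz hw
      grind)
    (fun z _ => by grind)
  have e1 := e x₁ (by simp)
  have e2 := e x₂ (by simp)
  have e3 := e x₃ (by simp)
  have e4 := e x₄ (by simp)
  exact ⟨g, hg, by grind, by grind, by grind, by grind⟩

theorem pat_of (d2 : D2T K Ω n) (hK : Pro K) (hKH : K ≤ H) (hI : Inv H O) (hn : O.card ≤ n) {j : ℕ}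
    (hT : TrK H O (j + 1)) (h3 : 3 ≤ j) (h4 : j ≤ 4) {D : Finset Ω}
    (hD : D ⊆ fx K O) (hc : D.card = j) {a b c : Ω} (ha : a ∈ fx K O \ D) (hb : b ∈ O \ insert a D)
    (hcO : c ∈ O \ insert a D) (hbc : c ∉ orb (fixS H (insert a D)) b)
    (hU : O \ insert a D = orb (fixS H (insert a D)) b ∪ orb (fixS H (insert a D)) c)
    (h1 : del K (orb (fixS H (insert a D)) b) = 2)
    (h2 : del K (orb (fixS H (insert a D)) c) = j - 1) :
    Blk (fixS H D) (insert a (orb (fixS H (insert a D)) b)) := by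
  classical
  obtain ⟨α₁, α₂, α₃, a1, a2, a3, n12, n13, n23⟩ := two_lt_card_iff.1 (show 2 < #D by omega)
  have hsub : {α₁, α₂, α₃} ⊆ D := fun z hz => by
    simp only [mem_insert, mem_singleton] at hz; grind
  set D₀ := D \ {α₁, α₂, α₃} with hD₀
  have hDO : ∀ z ∈ D, z ∈ O ∧ Fx K z := fun z hz => mem_fx.1 (hD hz)
  have c0 : #D₀ = j - 3 := by
    rw [card_sdiff_of_subset hsub, hc, card_eq_three.2 ⟨_, _, _, n12, n13, n23, rfl⟩]
  set L := fixS H D₀ with hL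
  set S := fixS H (insert a D) with hS
  have hT4 : TrK L (O \ D₀) 4 := TrK.fix (by rwa [show j - 3 + 4 = j + 1 by omega])
    (fun z hz => (hDO z (mem_sdiff.1 hz).1).1) c0
  have hI1 : Inv L (O \ D₀) := hI.fix D₀
  have mD : ∀ z, z ∈ D ↔ z ∈ D₀ ∨ z = α₁ ∨ z = α₂ ∨ z = α₃ := fun z => by
    simp only [hD₀, mem_sdiff, mem_insert, mem_singleton]; grind
  have mT : ∀ g, g ∈ fixS H D ↔ g ∈ L ∧ g • α₁ = α₁ ∧ g • α₂ = α₂ ∧ g • α₃ = α₃ := fun g => by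
    simp only [hL, mem_fixS, mD, or_imp, forall_and, forall_eq, and_assoc]
  have mS : ∀ g, g ∈ S ↔ g ∈ L ∧ g • α₁ = α₁ ∧ g • α₂ = α₂ ∧ g • α₃ = α₃ ∧ g • a = a := fun g => by
    simp only [hL, hS, mem_fixS, mem_insert, mD, or_imp, forall_and, forall_eq]; tauto
  obtain ⟨haO, haD⟩ := mem_sdiff.1 ha
  obtain ⟨haO, fa⟩ := mem_fx.1 haO
  have n0 : α₁ ∉ D₀ ∧ α₂ ∉ D₀ ∧ α₃ ∉ D₀ := by simp [hD₀]
  have dis : ∀ x, Dis (O \ D₀) α₁ α₂ α₃ a x ↔ x ∈ O \ insert a D := fun x => by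
    have := hDO _ a1; have := hDO _ a2; have := hDO _ a3
    simp only [Dis, mem_sdiff, mem_insert, mD] at haD ⊢
    grind
  have horb : ∀ x y, y ∈ orb S x ↔ E L α₁ α₂ α₃ a x α₁ α₂ α₃ a y := fun x y => by
    simp only [mem_orb, mS, E, and_assoc]
  have hos : orb S b ⊆ O \ insert a D := hU ▸ subset_union_left
  have hev : #(orb S b) = 2 * #(fx K (orb S b)) + 2 := by unfold del at h1; omega
  obtain ⟨g, hg, g1, g2⟩ := exists_swap S b ⟨_, by rw [hev, ← mul_add_one]⟩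
  have h : CS L (O \ D₀) (E L α₁ α₂ α₃ a b) := by
    refine mk_CS (c := c) (β := b) (β' := g • b) hI1 ((dis b).2 hb) (fun x₁ x₂ x₃ x₄ x₅ hx => ?_) ?_ ?_
    · obtain ⟨m, hm, rfl, rfl, rfl, rfl⟩ := tr4 (y₁ := x₁) (y₂ := x₂) (y₃ := x₃) (y₄ := x₄) hT4
        ((dis b).2 hb) (by unfold Dis at hx; grind)
      obtain ⟨y, rfl⟩ := MulAction.surjective m x₅
      have hy := hx.act hI1 (inv_mem hm)
      simp only [inv_smul_smul] at hy
      have e : E L α₁ α₂ α₃ a y _ _ _ _ _ := ⟨m, hm, rfl, rfl, rfl, rfl, rfl⟩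
      rcases mem_union.1 (hU ▸ (dis y).1 hy) with u | u
      · exact Or.inl (((horb _ _).1 u).trans e)
      · exact Or.inr (((horb _ _).1 u).trans e)
    · have u1 := (dis b).2 hb
      have u2 := (dis _).2 (hos (mem_orb.2 ⟨g, hg, rfl⟩))
      unfold Dis at *; grind
    · obtain ⟨u, u1, u2, u3, -⟩ := (mS g).1 hg
      exact ⟨g, u, u1, u2, u3, rfl, g2⟩
  set C := E L α₁ α₂ α₃ a b with hC
  have hN : orb S b = Nb C α₁ α₂ α₃ a := by ext y; rw [horb, mem_Nb]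
  have hKS : K ≤ S := le_fixS hKH fun z hz => by
    rcases mem_insert.1 hz with rfl | hz
    exacts [fa, (hDO z hz).2]
  have hKT : K ≤ fixS H D := le_fixS hKH fun z hz => (hDO z hz).2
  have hd2 := d2 S (orb S b) hKS (orb_orb S b)
    ((card_le_card (hos.trans sdiff_subset)).trans hn) (by
      by_contra e
      have : fx K (orb S b) = orb S b := filter_true_of_mem fun x hx => by_contra fun f => e ⟨x, hx, f⟩
      rw [this] at hev
      omega) h1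
  have cb : C α₁ α₂ α₃ a b := ⟨1, one_mem _, by simp⟩
  have hJ : ∀ β x y : Ω, y ∈ orb (fixS S {β}) x ↔
      ∃ g ∈ L, g • α₁ = α₁ ∧ g • α₂ = α₂ ∧ g • α₃ = α₃ ∧ g • a = a ∧ g • β = β ∧ g • x = y :=
    fun β x y => by simp only [mem_orb, mem_fixS (H := S), mS, mem_singleton, forall_eq, and_assoc]
  have hF : ∀ β x : Ω, (∀ z, z ∈ orb (fixS S {β}) x → z = x) ↔ orb (fixS S {β}) x = {x} :=
    fun β x => ⟨fun f => eq_singleton_iff_unique_mem.2 ⟨self_mem_orb _ _, f⟩,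
      fun f z hz => mem_singleton.1 (f ▸ hz)⟩
  have me : ∀ {β x}, C α₁ α₂ α₃ a x → x ≠ β → x ∈ (orb S b).erase β := fun u v =>
    mem_erase.2 ⟨v, (horb _ _).2 u⟩
  have hp : ∀ {y₁ y₂ y₃ y₄ y ω : Ω}, C y₁ y₂ y₃ y₄ y → C y₁ y₂ y₃ y₄ ω → ω ≠ y →
      C ω y₂ y₃ y₄ y → C y₁ ω y₃ y₄ y := by
    intro y₁ y₂ y₃ y₄ y ω
    rcases (fx K (orb S b)).eq_empty_or_nonempty with e | ⟨β, hβ⟩
    · have one : ∀ x ∈ (orb S b).erase b, ∀ y ∈ (orb S b).erase b, x = y :=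
        card_le_one.1 (by rw [card_erase_of_mem (self_mem_orb _ _), hev, e]; simp)
      exact h.pattern cb (fun x y => y ∈ orb (fixS S {b}) x) (hJ b)
        (fun x y u v u' v' _ _ => one x (me u u') y (me v v'))
        fun x y z u v _ u' v' _ _ _ _ => Or.inl (one x (me u u') y (me v v') ▸ self_mem_orb _ _)
    · obtain ⟨p1, p2, -⟩ := hd2 β hβ
      exact h.pattern ((horb _ _).1 (mem_fx.1 hβ).1) (fun x y => y ∈ orb (fixS S {β}) x) (hJ β)
        (fun x y u v u' v' f f' => p1 x (me u u') y (me v v') ((hF _ _).1 f) ((hF _ _).1 f'))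
        fun x y z u v w u' v' w' f f' f'' => p2 x (me u u') y (me v v') z (me w w')
          (mt (hF _ _).2 f) (mt (hF _ _).2 f') (mt (hF _ _).2 f'')
  have core := h.core (K := K) (c := c) (fun O R _ F hF hne _ _ _ _ => phi R F hF hne) hp cb
    ((dis c).2 hcO) (mt (horb _ _).2 hbc) (fun g hg => ((mT g).1 (hKT hg)).1)
    (hDO _ a1).2 (hDO _ a2).2 (hDO _ a3).2 fa (fun x hx => ?_) (hN ▸ h1) (d := j - 1) (by omega)
    ?_ fun β hβ => ?_
  · rw [hN]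
    intro m hm x hx hx' y hy
    obtain ⟨u, u1, u2, u3⟩ := (mT m).1 hm
    rw [← core _ hx']
    rw [← core _ hx] at hy
    rcases mem_insert.1 hy with rfl | hy
    · exact mem_insert_self _ _
    · have := h.act u (mem_Nb.1 hy)
      rw [u1, u2, u3] at this
      exact mem_insert_of_mem (mem_Nb.2 this)
  · obtain ⟨m, hm, m1, m2, m3, m4⟩ := tr4 (y₁ := α₁) (y₂ := α₂) (y₃ := α₃) (y₄ := x) hT4
      ((dis b).2 hb) (by
        have := (dis b).2 hb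
        simp only [mem_sdiff (s := O \ D₀), mem_insert, mem_singleton] at hx
        unfold Dis at this; grind)
    by_cases f : Fx K x
    · obtain ⟨m', hm', p1, p2⟩ := witt hK hKT ((mT m).2 ⟨hm, m1, m2, m3⟩) (D := {a})
        (by simpa using fa) (by simpa [m4] using f)
      obtain ⟨u, u1, u2, u3⟩ := (mT m').1 hm'
      exact ⟨m', u, u1, u2, u3, (p2 a (mem_singleton_self a)).trans m4, fun _ => p1⟩
    · exact ⟨m, hm, m1, m2, m3, m4, fun f' => absurd f' f⟩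
  · have e1 : ((O \ D₀) \ {α₁, α₂, α₃}).erase a = O \ insert a D := by
      ext z
      simp only [mem_erase, mem_sdiff, mem_insert, mem_singleton, mD]; grind
    rw [e1, ← hN, hU, union_sdiff_cancel_left (disjoint_left.2 fun z z1 z2 => hbc (by
      rw [← orb_eq z1, orb_eq z2]; exact self_mem_orb _ _)), h2]
    omega
  · rw [← hN] at hβ
    have := (hd2 β hβ).2.2 (Nb C α₁ α₂ α₃ a ∩ Nb C α₁ α₂ α₃ β) (fun z hz => by
      obtain ⟨z1, z2⟩ := mem_inter.1 hz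
      exact me (mem_Nb.1 z1) (h.dis (mem_Nb.1 z2)).2.2.2.2.symm) fun m hm z hz => by
      obtain ⟨z1, z2⟩ := mem_inter.1 hz
      obtain ⟨u, u0⟩ := mem_fixS.1 hm
      obtain ⟨u, u1, u2, u3, u4⟩ := (mS m).1 u
      have v1 := h.act u (mem_Nb.1 z1)
      have v2 := h.act u (mem_Nb.1 z2)
      rw [u1, u2, u3] at v1 v2
      rw [u4] at v1
      rw [u0 β (mem_singleton_self β)] at v2
      exact mem_inter.2 ⟨mem_Nb.2 v1, mem_Nb.2 v2⟩
    rwa [hN] at this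

end Cfsg.Agent.H8.Pat
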