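import Cfsg.Agent.H8.Sig4
import Cfsg.Agent.L0.SE4
import Cfsg.Prelude.Def_CaseTheorems

/-! Groups with solvable involution centralizers: the cores vanish, given Bender's theorem. -/

set_option autoImplicit false
set_option linter.unusedSectionVars false

namespace Cfsg.Agent.H8.Sig

open Subgroup Cfsg.Agent.H7 MulAction
open MulAut (conj)
open scoped Pointwise

universe u

variable {G : Type u} [Group G] [Finite G]

theorem oddCore_map (H : Subgroup G) : (oddCore H).map H.subtype = O[{2}ᶜ] H := by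
  unfold piCoreOf piCore oddCore pPrimeCore
  congr 2
  ext N
  refine and_congr_right fun _ => ?_
  exact (PiNat.compl_singleton_iff_coprime Nat.prime_two).symm

theorem oddCore_eq_bot {H : Subgroup G} (h : O[{2}ᶜ] H = ⊥) : oddCore H = ⊥ := by
  rw [← oddCore_map] at h
  exact (map_eq_bot_iff_of_injective _ H.subtype_injective).1 h

theorem core_top_eq_bot (h : oddCore G = ⊥) : O[{2}ᶜ] (⊤ : Subgroup G) = ⊥ := by
  rw [eq_bot_iff, ← h]
  exact le_pPrimeCore (core_normalIn _ _).normal ((isPi_core _ _).coprime_prime Nat.prime_two)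

theorem core_eq_bot_of_typeI {M : Subgroup G} (hO : O[{2}ᶜ] (⊤ : Subgroup G) = ⊥)
    (hM : IsStronglyEmbedded M)
    (hT : L0.Bd.TypeI (⊤ : Subgroup G) (Set.univ : Set (G ⧸ M))) : O[{2}ᶜ] M = ⊥ := by
  have se := L0.Bd.SE.of_stronglyEmbedded hM
  obtain ⟨g₀, hg₀⟩ : ∃ g, g ∉ M := by
    by_contra hh
    push Not at hh
    exact hM.1 (eq_top_iff.2 fun g _ => hh g)
  have hab : ((g₀ : G) : G ⧸ M) ≠ ((1 : G) : G ⧸ M) := fun e => hg₀ (by
    simpa using QuotientGroup.eq.1 e.symm)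
  have hst : ∀ g : G, g • ((1 : G) : G ⧸ M) = ((1 : G) : G ⧸ M) ↔ g ∈ M := fun g => by
    rw [← mem_stabilizer_iff, stabilizer_quotient]
  have hf : ∀ g : G, (∀ ω : G ⧸ M, g • ω = ω) → g = 1 := by
    intro g hg
    have : (toPermHom G (G ⧸ M)).ker ≤ O[{2}ᶜ] (⊤ : Subgroup G) := by
      refine (NormalIn.of_normal _).le_core (isPi_of_odd (L0.Bd.odd_card_of_forall fun x hx => ?_))
      have hx' : ∀ ω : G ⧸ M, x • ω = ω := fun ω => DFunLike.congr_fun (MonoidHom.mem_ker.1 hx) ω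
      exact se.odd_of_fix hab (hx' _) (hx' _)
    rw [hO] at this
    exact this (MonoidHom.mem_ker.2 (Equiv.ext hg))
  obtain ⟨Q, -, hQa, hQn, hQt, hQ2⟩ := hT _ (Set.mem_univ ((1 : G) : G ⧸ M))
  have hQp : IsPGroup 2 Q := isPGroup_of_forall fun q hq => by
    obtain ⟨k, hk⟩ := hQ2 q hq
    exact ⟨k, hf _ fun ω => hk ω trivial⟩
  have hQM : NormalIn Q M := NormalIn.mk' (fun q hq => (hst q).1 (hQa q hq))
    fun m hm q hq => hQn m trivial ((hst m).2 hm) q hq
  have hc : Q ≤ C[O[{2}ᶜ] M] := hQM.le_cent_core' hQp.isPi_self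
  by_contra hW
  obtain ⟨p, hp, hd⟩ := exists_prime_dvd_card hW
  obtain ⟨w, hw, hwp⟩ := exists_orderOf_eq_prime hp hd
  have hp2 : p ≠ 2 := by
    rintro rfl
    exact (isPi_core _ _).not_dvd Nat.prime_two hd
  have hwa := (hst w).2 (core_le _ _ hw)
  have h1 := hT.not_modEq (fun _ _ _ _ => trivial) (Set.mem_univ _) (Set.mem_univ _) hab hp hp2
  have h2 := L0.Bd.ncard_modEq (Ω := G ⧸ M) hp (X := zpowers w)
    (isPGroup_zpowers (k := 1) (by rw [pow_one, ← hwp, pow_orderOf_eq_one]))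
    (Φ := Set.univ) (fun _ _ _ _ => trivial)
  obtain ⟨b, hb, hb1⟩ : ∃ b : G ⧸ M, w • b = b ∧ b ≠ ((1 : G) : G ⧸ M) := by
    by_contra hh
    push Not at hh
    apply h1
    have : Set.univ ∩ L0.Bd.fix (G ⧸ M) (zpowers w) = {((1 : G) : G ⧸ M)} := by
      ext ω
      simp only [Set.univ_inter, Set.mem_singleton_iff]
      refine ⟨fun h => hh ω (h w (mem_zpowers w)), ?_⟩
      rintro rfl x hx
      exact (hst x).2 (zpowers_le.2 (core_le _ _ hw) hx)
    rwa [this, Set.ncard_singleton] at h2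
  have : w = 1 := hf w fun ω => by
    by_cases h : ω = ((1 : G) : G ⧸ M)
    · rw [h, hwa]
    obtain ⟨q, hq, rfl⟩ := hQt b trivial ω trivial hb1 h
    rw [← mul_smul, comm_of_mem_cent (hc hq) hw, mul_smul, hb]
  rw [this, orderOf_one] at hwp
  exact hp.one_lt.ne hwp

theorem exists_abelem_of_not_prank {k : ℕ} {H : Subgroup G} (h : ¬ PRankLE 2 k H) :
    ∃ E, E ≤ H ∧ Abelem 2 E ∧ 2 ^ (k + 1) ≤ Nat.card E := by
  unfold PRankLE at h
  push Not at h
  obtain ⟨E, hab, hexp, hc⟩ := h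
  have hE : Abelem 2 (E.map H.subtype) := by
    refine Abelem.mk' (abel_of_comm ?_) ?_
    · rintro _ ⟨x, hx, rfl⟩ _ ⟨y, hy, rfl⟩
      exact congrArg Subtype.val (comm_of_abel hab hx hy)
    · rintro _ ⟨x, hx, rfl⟩
      exact congrArg Subtype.val (hexp x hx)
  refine ⟨_, map_subtype_le _, hE, ?_⟩
  obtain ⟨n, hn⟩ := hE.exists_card
  rw [card_map_of_injective H.subtype_injective] at hn ⊢
  rw [hn] at hc ⊢
  exact Nat.pow_le_pow_right two_pos ((Nat.pow_lt_pow_iff_right one_lt_two).1 hc)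

theorem exists_abelem_of_not_prank' {k : ℕ} (h : ¬ PRankLE 2 k G) :
    ∃ E : Subgroup G, Abelem 2 E ∧ 2 ^ (k + 1) ≤ Nat.card E := by
  unfold PRankLE at h
  push Not at h
  obtain ⟨E, hab, hexp, hc⟩ := h
  have hE : Abelem 2 E := Abelem.mk' hab hexp
  refine ⟨_, hE, ?_⟩
  obtain ⟨n, hn⟩ := hE.exists_card
  rw [hn] at hc ⊢
  exact Nat.pow_le_pow_right two_pos ((Nat.pow_lt_pow_iff_right one_lt_two).1 hc)

theorem rank2_of_abelem {E : Subgroup G} (hE : Abelem 2 E) (h : 4 ≤ Nat.card E) :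
    L0.Bd.Rank2 (⊤ : Subgroup G) := by
  obtain ⟨t, ht, ht1⟩ := exists_ne_one_of_ne_bot (A := E) (by
    rintro rfl; rw [card_bot] at h; omega)
  have : ¬ E ≤ zpowers t := fun hle => by
    have h3 := card_le_of_le' hle
    rw [hE.card_zpowers ht ht1] at h3
    omega
  obtain ⟨c, hc, hct⟩ := SetLike.not_le_iff_exists.1 this
  refine ⟨t, trivial, c, trivial, ⟨ht1, by rw [← pow_two]; exact hE.pow_eq_one ht⟩,
    ⟨?_, by rw [← pow_two]; exact hE.pow_eq_one hc⟩, ?_, commute_of_abel hE.abel ht hc⟩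
  · rintro rfl; exact hct (one_mem _)
  · rintro rfl; exact hct (mem_zpowers _)

theorem s3332_of_bender
    (hB : ∀ M : Subgroup G, IsStronglyEmbedded M → L0.Bd.Rank2 (⊤ : Subgroup G) →
      L0.Bd.TypeI (⊤ : Subgroup G) (Set.univ : Set (G ⧸ M)))
    (hrank : ¬ Cfsg.PRankLE 2 3 G) (hO : Cfsg.oddCore G = ⊥) (S : Sylow 2 G)
    (A : Subgroup G) (hAS : A ≤ S) (hAn : (A.subgroupOf S).Normal) (hAc : IsMulCommutative A)
    (hA3 : ¬ Cfsg.PRankLE 2 2 A) (hsol : SolC G) :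
    ∀ t : G, orderOf t = 2 → Cfsg.oddCore (Subgroup.centralizer ({t} : Set G)) = ⊥ := by
  obtain ⟨E, hE, h16⟩ := exists_abelem_of_not_prank' hrank
  obtain ⟨E₀, hE₀A, hE₀, h8⟩ := exists_abelem_of_not_prank hA3
  have hn : NormalIn A S := ⟨hAS, (normal_subgroupOf_iff_le_normalizer hAS).1 hAn⟩
  have hO' := core_top_eq_bot hO
  rcases s3332_red hsol hO' (isSylowIn_top S) (abelem_omegaOne hAc)
    (h8.trans (card_le_of_le' (hE₀.le_omegaOne hE₀A))) (hn.omegaOne 2) hE h16 with h | ⟨M, hM, -, h1⟩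
  · exact fun t ht => oddCore_eq_bot (h t ht)
  · exact (h1 (core_eq_bot_of_typeI hO' hM (hB M hM (rank2_of_abelem hE (by omega))))).elim

end Cfsg.Agent.H8.Sig
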