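import Cfsg.Agent.H4.U3L2

/-! A group of order `|PSU₃(q)|`, `q = 7, 8, 9`, without normal subgroup of order `p` is simple. -/

set_option autoImplicit false

namespace Cfsg.Agent.H8.U3N

open Cfsg Cfsg.Agent.H2.D1 Cfsg.Agent.H4.U3L Cfsg.Agent.L0.U3 Subgroup

universe u

variable {G : Type u} [Group G] [Finite G] {p : ℕ} [hp : Fact p.Prime] {x : G}

theorem not_le {L M : Subgroup G} {S : Type u} [Group S] [Finite S] (h : LM p x L M S)
    (hx : Ctx p x) (hN : NN G p) (hc : ∀ a b : S, a * b = b * a) :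
    ¬ M ≤ centralizer {x} := fun e => by
  have := h.simple
  have h1 : p = Nat.card S := by
    let _ : CommGroup S := { (inferInstance : Group S) with mul_comm := hc }
    exact (Nat.prime_dvd_prime_iff_eq hp.out IsSimpleGroup.prime_card).1 (h.dvd hx)
  have h2 : L ≤ centralizer {x} := (eq_of_le_of_card_ge inf_le_left (by
    rw [← h.card, ← h1]
    exact Nat.le_of_dvd Nat.card_pos ((hp.out.coprime_iff_not_dvd.2 h.cop).symm.mul_dvd_of_dvd_of_dvd
      (card_dvd_of_le (le_inf h.le e)) (hx.ord ▸ orderOf_dvd_natCard _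
        ⟨h.mem, mem_centralizer_singleton_iff.2 rfl⟩)))).ge.trans inf_le_right
  refine hN x hx.ord ⟨fun u hu g => ?_⟩
  rw [← ((hx.isPElt hu).conj g).pPart_eq]
  exact hx.pPart_mem_zp (mem_centralizer_singleton_iff.1
    (h2 (h.nL.conj_mem _ (zpowers_le.2 h.mem hu) g))).symm

theorem reduce {n : ℕ} (hn : Nat.card G = n) (hN : NN G p) (h2 : p ≠ 2 ∧ p ∣ n ∧ ¬ p ^ 2 ∣ n)
    (pp : ∀ d, IsPrimePow d → d ∣ n → d % p ≠ 1)
    (hT : ∀ (T : Type u) [Group T] [Finite T] [NS T] (y : T), Ctx p y → Nat.card T ∣ n →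
      Nat.card T = n) : NS G := by
  obtain ⟨x, hx⟩ := exists_ctx (G := G) h2.1 (hn ▸ h2.2.1) (hn ▸ h2.2.2)
  obtain ⟨L, M, T, _, _, hL⟩ := hx.exists_LM
  have := hL.nM
  have : NS T := { hL.simple with
    nc := by_contra fun e => not_le hL hx hN (by simpa using e)
      (hx.le_cent hL.cop fun d d1 d2 => pp d d1 (hn ▸ d2.trans (card_subgroup_dvd_card M))) }
  have h1 : Nat.card T ∣ n := (Dvd.intro_left _ rfl).trans (hn ▸ hL.card_dvd)
  obtain ⟨y, hy⟩ := exists_ctx (G := T) h2.1 (hL.dvd hx) fun e => h2.2.2 (e.trans h1)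
  obtain ⟨f⟩ := hL.ns_of_card ((hT T y hy h1).trans hn.symm)
  obtain ⟨a, b, hab⟩ := NS.nc (G := T)
  exact { f.isSimpleGroup with
    nc := ⟨f.symm a, f.symm b, fun e => hab (by simpa using congrArg f e)⟩ }

theorem odd_case {N : ℕ} (hn : Nat.card G = N * 3 * p) (hN : NN G p)
    (h2 : p ≠ 2 ∧ ¬ p ^ 2 ∣ N * 3 * p) (hc : chk (N * 3) p [1, N] = true) (N0 : 0 < N)
    (hl : 2 ∣ N ∧ (3 ∣ N ∨ 5 ∣ N ∨ 7 ∣ N)) :
    NS G ∧ ∃ (x : G) (h : Ctx p x), Nat.card h.K = 1 ∧ Nat.card h.H = 3 := by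
  have h3 : NS G := reduce hn hN ⟨h2.1, dvd_mul_left _ _, h2.2⟩ (fun d h1 h4 h5 => by
    have h6 := mem_of_chk hc (Nat.mul_pos N0 three_pos) h4 h5
    simp only [List.mem_cons, List.not_mem_nil, or_false] at h6
    rcases h6 with e | rfl
    · exact h1.ne_one e
    · have u := isPrimePow_iff_unique_prime_dvd.1 h1
      rcases hl with ⟨e1, e | e | e⟩
      · exact absurd (u.unique ⟨Nat.prime_two, e1⟩ ⟨Nat.prime_three, e⟩) (by decide)
      · exact absurd (u.unique ⟨Nat.prime_two, e1⟩ ⟨Nat.prime_five, e⟩) (by decide)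
      · exact absurd (u.unique ⟨Nat.prime_two, e1⟩ ⟨by norm_num, e⟩) (by decide))
    fun T _ _ _ y hy hT => (one hy Nat.prime_three hc N0 hT).1
  obtain ⟨x, hx⟩ := exists_ctx (G := G) h2.1 (hn ▸ dvd_mul_left _ _) (hn ▸ h2.2)
  obtain ⟨-, -, h4, h5⟩ := one hx Nat.prime_three hc N0 hn.dvd
  exact ⟨h3, x, hx, h5, h4⟩

end Cfsg.Agent.H8.U3N

namespace Cfsg.Agent.L0.U3

open Cfsg Cfsg.Agent.H2.D1 Cfsg.Agent.H4.U3L Cfsg.Agent.H8.U3N

universe u

theorem ns_of {q c p r : ℕ} [Fact p.Prime] [Fact (Nat.Prime 19)] (hP : Par q c p r)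
    (x38 : ∀ (S : Type u) [Group S] [Finite S] [NS S], Nat.card S ∣ 5515776 →
      ∀ {x : S} (h : Ctx 19 x), Nat.card S = 5515776 ∧ Nat.card h.K = 1 ∧ Nat.card h.H = 3)
    {G : Type u} [Group G] [Finite G] (hn : Nat.card G = q ^ 3 * c * p) (hN : NN G p) :
    NS G ∧ ∃ (x : G) (h : Ctx p x), Nat.card h.K = 1 ∧ Nat.card h.H = 3 := by
  rcases hP with ⟨rfl, rfl, rfl, -⟩ | ⟨rfl, rfl, rfl, -⟩ | ⟨rfl, rfl, rfl, -⟩
  · exact odd_case (N := 43904) hn hN (by decide) (by decide +kernel) (by norm_num) (by decide)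
  · have hn' : Nat.card G = 5515776 := hn
    have h3 : NS G := H8.U3N.reduce (p := 19) hn' hN (by decide)
      (not_pp (p := 19) (m := 290304) (l := [1, 96, 324, 1008, 96768]) (by decide +kernel)
        (by norm_num) (by decide))
      fun T _ _ _ y hy hT => (x38 T hT hy).1
    obtain ⟨x, hx⟩ := exists_ctx (G := G) (p := 19) (by norm_num) (by norm_num [hn'])
      (by norm_num [hn'])
    exact ⟨h3, x, hx, (x38 G hn'.dvd hx).2⟩
  · exact odd_case (N := 194400) hn hN (by decide) (by decide +kernel) (by norm_num) (by decide)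

end Cfsg.Agent.L0.U3
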