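import Cfsg.Agent.L0.U3Def
import Cfsg.Agent.H1.UNorm

/-! The order of `PSU₃(q)` for `q = 7, 8, 9`. -/

set_option autoImplicit false

namespace Cfsg.Agent.L0.U3

open Cfsg Subgroup Finset Cfsg.Agent.H1 Matrix

section PuCount

variable {F : Type*} [Field F] [Fintype F] [DecidableEq F] {q : ℕ} (U : UField F q)

theorem pu_roots {k : ℕ} (hk : k ∣ Fintype.card F - 1) (k0 : k ≠ 0) :
    #{x : F | x ^ k = 1} = k := by
  have h1 : Nat.card (powMonoidHom k : Fˣ →* Fˣ).ker = k := by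
    rw [IsCyclic.card_powMonoidHom_ker, Nat.card_eq_fintype_card, Fintype.card_units,
      Nat.gcd_eq_right hk]
  refine Eq.trans ?_ h1
  rw [Nat.card_eq_fintype_card, Fintype.card_subtype]
  symm
  refine card_bij (fun u _ => (u : F)) (fun u hu => ?_) (fun u _ v _ e => Units.ext e) fun x hx => ?_
  · simp only [mem_filter, mem_univ, true_and, MonoidHom.mem_ker, powMonoidHom_apply] at hu ⊢
    rw [← Units.val_pow_eq_pow_val, hu, Units.val_one]
  · simp only [mem_filter, mem_univ, true_and] at hx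
    have x0 : x ≠ 0 := by rintro rfl; simp [k0] at hx
    refine ⟨Units.mk0 x x0, ?_, rfl⟩
    simp only [mem_filter, mem_univ, true_and, MonoidHom.mem_ker, powMonoidHom_apply]
    exact Units.ext (by simpa using hx)

theorem pu_n1 {s : F} (h : U.σ s = s) :
    #{x : F | x * U.σ x = s} = if s = 0 then 1 else q + 1 := by
  split_ifs with s0
  · rw [s0, card_eq_one]
    exact ⟨0, by ext x; simp [U.σ_eq_zero]⟩
  obtain ⟨a, ha⟩ := U.exists_norm s0 h
  have a0 : a ≠ 0 := by rintro rfl; exact s0 (by simpa using ha.symm)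
  have h2 := U.two_le
  rw [← pu_roots (F := F) (k := q + 1) (by
    rw [U.card]; exact ⟨q - 1, by
      obtain ⟨r, rfl⟩ : ∃ r, q = r + 1 := ⟨q - 1, by omega⟩
      simp only [add_tsub_cancel_right]
      apply Nat.sub_eq_of_eq_add; ring⟩) (by omega)]
  symm
  refine card_bij (fun x _ => a * x) (fun x hx => ?_) (fun u _ v _ e => mul_left_cancel₀ a0 e)
    fun x hx => ⟨a⁻¹ * x, ?_, by field_simp⟩
  · simp only [mem_filter, mem_univ, true_and, ← U.norm_eq] at hx ⊢
    rw [map_mul]; linear_combination (a * U.σ a) * hx + ha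
  · simp only [mem_filter, mem_univ, true_and, ← U.norm_eq] at hx ⊢
    have : U.σ a ≠ 0 := U.σ_eq_zero.not.2 a0
    rw [map_mul, map_inv₀]
    field_simp
    rw [hx, ha]

theorem pu_sum {s : F} (h : U.σ s = s) (A B : ℕ) :
    ∑ x : F, (if s - x * U.σ x = 0 then A else B) =
      (if s = 0 then 1 else q + 1) * A + (q ^ 2 - if s = 0 then 1 else q + 1) * B := by
  rw [sum_ite, sum_const, sum_const, ← pu_n1 U h, ← U.card, smul_eq_mul, smul_eq_mul]
  simp only [sub_eq_zero, eq_comm (a := s)]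
  congr 2
  rw [← card_univ, ← card_filter_add_card_filter_not (s := univ) (fun x : F => x * U.σ x = s)]
  simp

theorem pu_n2 {s : F} (h : U.σ s = s) :
    #{v : F × F | v.1 * U.σ v.1 + v.2 * U.σ v.2 = s} =
      if s = 0 then 1 + (q ^ 2 - 1) * (q + 1) else (q + 1) + (q ^ 2 - (q + 1)) * (q + 1) := by
  rw [card_filter, Fintype.sum_prod_type]
  have : ∀ x : F, ∑ y : F, (if x * U.σ x + y * U.σ y = s then 1 else 0) =
      if s - x * U.σ x = 0 then 1 else q + 1 := fun x => by
    rw [← pu_n1 U (s := s - x * U.σ x) (by simp [h, mul_comm]), card_filter]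
    simp only [eq_sub_iff_add_eq']
  simp only [this, pu_sum U h]
  split_ifs <;> simp

theorem pu_n3 : #{v : F × F × F | v.1 * U.σ v.1 + (v.2.1 * U.σ v.2.1 + v.2.2 * U.σ v.2.2) = 1} =
    (q + 1) * (1 + (q ^ 2 - 1) * (q + 1)) +
      (q ^ 2 - (q + 1)) * ((q + 1) + (q ^ 2 - (q + 1)) * (q + 1)) := by
  rw [card_filter, Fintype.sum_prod_type]
  have : ∀ x : F, ∑ y : F × F,
      (if x * U.σ x + (y.1 * U.σ y.1 + y.2 * U.σ y.2) = 1 then 1 else 0) =
      if 1 - x * U.σ x = 0 then 1 + (q ^ 2 - 1) * (q + 1) else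
        (q + 1) + (q ^ 2 - (q + 1)) * (q + 1) := fun x => by
    rw [← pu_n2 U (s := 1 - x * U.σ x) (by simp [mul_comm]), card_filter]
    simp only [eq_sub_iff_add_eq']
  simp only [this, pu_sum U (map_one U.σ), one_ne_zero, if_false]

include U in
theorem pu_card2 : Nat.card (SU 2 F q) = (q + 1) + (q ^ 2 - (q + 1)) * (q + 1) := by
  have := pu_n2 U (map_one U.σ)
  rw [if_neg one_ne_zero] at this
  rw [← this, ← Fintype.card_subtype, ← Nat.card_eq_fintype_card]
  refine Nat.card_congr (Equiv.ofBijective (fun b => ⟨(suMat b 0 0, suMat b 0 1), U.su2_norm b⟩)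
    ⟨fun b c e => ?_, fun v => ?_⟩)
  · simp only [Subtype.mk.injEq, Prod.mk.injEq] at e
    exact U.su2_ext e.1 e.2
  · obtain ⟨b, h1, h2⟩ := U.exists_su2 v.2
    exact ⟨b, Subtype.ext (Prod.ext h1 h2)⟩

include U in
theorem pu_card3 : Nat.card (SU 3 F q) = ((q + 1) * (1 + (q ^ 2 - 1) * (q + 1)) +
      (q ^ 2 - (q + 1)) * ((q + 1) + (q ^ 2 - (q + 1)) * (q + 1))) * Nat.card (SU 2 F q) := by
  have h1 : (U.emb UField.f12).range = suFix F q {0} := by
    rw [U.range_emb, UField.range_f12]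
    congr 1
    ext i; fin_cases i <;> simp
  have h2 : Nat.card (suFix F q ({0} : Set (Fin 3))) = Nat.card (SU 2 F q) := by
    rw [← h1]; exact (Nat.card_congr (MonoidHom.ofInjective (U.emb_injective UField.f12)).toEquiv).symm
  rw [← h2, ← pu_n3 U, ← (suFix F q ({0} : Set (Fin 3))).index_mul_card, ← Fintype.card_subtype,
    ← Nat.card_eq_fintype_card]
  congr 1
  have hn : ∀ A : SU 3 F q, suMat A 0 0 * U.σ (suMat A 0 0) +
      (suMat A 1 0 * U.σ (suMat A 1 0) + suMat A 2 0 * U.σ (suMat A 2 0)) = 1 := fun A => by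
    have := U.H_act A (ev F 0) (ev F 0)
    rw [U.H_ev_self, U.H_def, Fin.sum_univ_three] at this
    simp only [suAct_ev] at this
    linear_combination this
  have key : ∀ A B : SU 3 F q, A⁻¹ * B ∈ suFix F q ({0} : Set (Fin 3)) ↔
      suAct A (ev F 0) = suAct B (ev F 0) := fun A B => by
    simp only [mem_suFix, Set.mem_singleton_iff, forall_eq, suAct_mul]
    exact ⟨fun e => by simpa using (suAct_inv_eq e).symm ▸ (by simp : suAct A (ev F 0) = suAct A⁻¹⁻¹ (ev F 0)), fun e => suAct_inv_eq e⟩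
  refine Nat.card_congr (Equiv.ofBijective (Quotient.lift
    (fun A : SU 3 F q => (⟨(suMat A 0 0, suMat A 1 0, suMat A 2 0), hn A⟩ :
      {v : F × F × F // v.1 * U.σ v.1 + (v.2.1 * U.σ v.2.1 + v.2.2 * U.σ v.2.2) = 1}))
    fun A B e => ?_) ⟨?_, fun v => ?_⟩)
  · have := (key A B).1 (QuotientGroup.leftRel_apply.1 e)
    simp only [← suAct_ev, this]
  · rintro ⟨A⟩ ⟨B⟩ e
    refine QuotientGroup.eq.2 ((key A B).2 ?_)
    have e' := congrArg Subtype.val e
    simp only [Prod.mk.injEq] at e'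
    ext i
    fin_cases i <;> simp [suAct_ev, e'.1, e'.2.1, e'.2.2]
  · obtain ⟨A, -, hA⟩ := U.exists_fix_map (N := 3) (I := ∅) (j := 0) (j' := 1) (by simp) (by simp)
      (by decide) (y := ![v.1.1, v.1.2.1, v.1.2.2]) (fun a ha => ha.elim) (by
        rw [U.H_def, Fin.sum_univ_three]
        simpa [add_assoc] using v.2)
    refine ⟨QuotientGroup.mk A, Subtype.ext ?_⟩
    change (suMat A 0 0, suMat A 1 0, suMat A 2 0) = v.1
    simp [← suAct_ev, hA]

include U in
theorem pu_center : Nat.card (center (SU 3 F q)) = #{l : F | l ^ 3 = 1 ∧ l ^ (q + 1) = 1} := by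
  rw [← Fintype.card_subtype, ← Nat.card_eq_fintype_card]
  symm
  have hu : ∀ l : {l : F // l ^ 3 = 1 ∧ l ^ (q + 1) = 1}, U.IsU (diagonal fun _ : Fin 3 => l.1) :=
    fun l => U.isU_diagonal fun _ => by rw [U.norm_eq, l.2.2]
  have hd : ∀ l : {l : F // l ^ 3 = 1 ∧ l ^ (q + 1) = 1}, (diagonal fun _ : Fin 3 => l.1).det = 1 :=
    fun l => by simp [l.2.1]
  have hs : ∀ l v, suAct (U.mkSU _ (hu l) (hd l)) v = l.1 • v := fun l v => by
    ext i
    change (diagonal (fun _ : Fin 3 => l.1) *ᵥ v) i = _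
    simp [mulVec_diagonal]
  refine Nat.card_congr (Equiv.ofBijective (fun l => ⟨U.mkSU _ (hu l) (hd l),
    mem_center_iff.2 (IsScal.comm ⟨l.1, hs l⟩)⟩) ⟨fun l l' e => ?_, fun A => ?_⟩)
  · have := hs l (ev F 0)
    rw [Subtype.mk.injEq] at e
    rw [e, hs] at this
    exact Subtype.ext (by simpa [ev] using (congrFun this 0).symm)
  · obtain ⟨l, hl⟩ := U.isScal_of_center le_rfl A.2
    have e : suMat A.1 = diagonal fun _ => l := by
      ext i j
      rw [← suAct_ev, hl]
      simp [ev, Pi.single_apply, diagonal_apply]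
    have h1 := det_suMat A.1
    have h2 := U.H_act A.1 (ev F 0) (ev F 0)
    rw [hl, U.H_smul_left, U.H_smul_right, U.H_ev_self, mul_one, U.norm_eq] at h2
    rw [e] at h1
    exact ⟨⟨l, by simpa using h1, h2⟩, Subtype.ext (suMat_injective e.symm)⟩

omit [DecidableEq F] in
include U in
theorem pu_nn {p : ℕ} (hp : p.Prime) (h : ¬ p ∣ Nat.card (SU 2 F q)) : NN (PSU 3 F q) p := by
  intro x hx hn
  obtain ⟨A, rfl⟩ := QuotientGroup.mk_surjective x
  have hA : ¬ IsScal A := fun e => by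
    rw [(QuotientGroup.eq_one_iff A).2 (mem_center_iff.2 e.comm), orderOf_one] at hx
    exact hp.ne_one hx.symm
  obtain ⟨b, b1, hb⟩ := U.exists_blk_mem (hn.comap (QuotientGroup.mk' _)) (A := A)
    (mem_zpowers _) hA UField.f01 (d := 2) (by decide)
  have h1 : orderOf (QuotientGroup.mk' (center (SU 3 F q)) (U.emb UField.f01 b)) ∣ p :=
    hx ▸ orderOf_dvd_of_mem_zpowers hb
  rcases (Nat.dvd_prime hp).1 h1 with e | e
  · have := U.isScal_of_center le_rfl ((QuotientGroup.eq_one_iff _).1 (orderOf_eq_one_iff.1 e))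
    exact b1 (U.emb_injective UField.f01 ((this.eq_one ((U.range_emb UField.f01).le ⟨b, rfl⟩ 2 (by decide))).trans
      (map_one _).symm))
  · exact h (e ▸ ((orderOf_map_dvd _ _).trans (orderOf_map_dvd _ _)).trans (orderOf_dvd_natCard b))

end PuCount

theorem pu {q c p r : ℕ} (h : Par q c p r) {F : Type*} [Field F] [Fintype F]
    (hF : Fintype.card F = q ^ 2) : Nat.card (PSU 3 F q) = q ^ 3 * c * p ∧ NN (PSU 3 F q) p := by
  classical
  obtain ⟨U⟩ := nonempty_uField hF
  have h2 := pu_card2 U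
  have h3 := pu_card3 U
  have h4 := pu_center U
  have h5 := card_eq_card_quotient_mul_card_subgroup (center (SU 3 F q))
  have one : ∀ {a b : ℕ}, a.Coprime b → #{l : F | l ^ a = 1 ∧ l ^ b = 1} = 1 := fun hab => by
    rw [card_eq_one]
    refine ⟨1, ?_⟩
    ext l
    simp only [mem_filter, mem_univ, true_and, Finset.mem_singleton]
    exact ⟨fun e => (pow_eq_one_iff_of_coprime hab).1 e, fun e => by simp [e]⟩
  rcases h with ⟨rfl, rfl, rfl, rfl⟩ | ⟨rfl, rfl, rfl, rfl⟩ | ⟨rfl, rfl, rfl, rfl⟩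
  · rw [one (by norm_num)] at h4
    rw [h4, h3, h2] at h5
    exact ⟨by norm_num at h5 ⊢; exact h5.symm, pu_nn U (by norm_num) (by rw [h2]; norm_num)⟩
  · have : #{l : F | l ^ 3 = 1 ∧ l ^ (8 + 1) = 1} = 3 := by
      refine Eq.trans ?_ (pu_roots (F := F) (k := 3) (by rw [hF]; norm_num) (by norm_num))
      congr 1
      ext l
      simp only [mem_filter, mem_univ, true_and]
      exact ⟨fun e => e.1, fun e => ⟨e, by rw [show 8 + 1 = 3 * 3 from rfl, pow_mul, e, one_pow]⟩⟩
    rw [this] at h4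
    rw [h4, h3, h2] at h5
    exact ⟨by norm_num at h5 ⊢; exact Nat.eq_of_mul_eq_mul_right (m := 3) (by norm_num) h5.symm, pu_nn U (by norm_num) (by rw [h2]; norm_num)⟩
  · rw [one (by norm_num)] at h4
    rw [h4, h3, h2] at h5
    exact ⟨by norm_num at h5 ⊢; exact h5.symm, pu_nn U (by norm_num) (by rw [h2]; norm_num)⟩

end Cfsg.Agent.L0.U3
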